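import Mathlib
import Cfsg.Agent.Lib.SZ.Conjugacy

/-!
An abstract description of the small Ree groups as two-point-transitive groups with a cyclic two-point
stabiliser: fixed points, centralisers of split elements, of unipotent elements and of an involution.
-/

set_option autoImplicit false

namespace Cfsg.Agent.Lib.Ree.Tori

open Subgroup
open scoped Pointwise

/-- The data of a small Ree group. -/
structure Sys (G : Type*) [Group G] [Finite G] (K : Type*) [Field K] [Fintype K] where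
  m : ℕ
  one_le_m : 1 ≤ m
  card_K : Fintype.card K = 3 ^ (2 * m + 1)
  card_G : Nat.card G = Fintype.card K ^ 3 * (Fintype.card K - 1) * (Fintype.card K ^ 3 + 1)
  B : Subgroup G
  U : Subgroup G
  H : Subgroup G
  n : G
  a : G
  U_le : U ≤ B
  H_le : H ≤ B
  U_conj : ∀ b ∈ B, ∀ u ∈ U, b * u * b⁻¹ ∈ U
  card_U : Nat.card ↥U = Fintype.card K ^ 3
  card_H : Nat.card ↥H = Fintype.card K - 1
  split : ∀ b ∈ B, ∃ u ∈ U, ∃ h ∈ H, b = u * h
  cyc : IsCyclic ↥H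
  n_sq : n * n = 1
  n_inv : ∀ h ∈ H, n * h * n⁻¹ = h⁻¹
  n_notMem : n ∉ B
  inter : ∀ b ∈ B, n * b * n⁻¹ ∈ B → b ∈ H
  cover : ∀ g ∉ B, ∃ u ∈ U, ∃ b ∈ B, g = u * n * b
  a_mem : a ∈ H
  a_ne : a ≠ 1
  a_sq : a * a = 1
  fpf : ∀ h ∈ H, ∀ u ∈ U, u ≠ 1 → Commute h u → h * h = 1
  card_CU : Nat.card ↥(U ⊓ centralizer ({a} : Set G)) = Fintype.card K
  cube_CU : ∀ u ∈ U, Commute a u → u ^ 3 = 1
  nine : ∀ u ∈ U, u ^ 9 = 1
  exists_nine : ∃ u ∈ U, u ^ 3 ≠ 1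
  card_cube : Nat.card {u : G // u ∈ U ∧ u ^ 3 = 1} = Fintype.card K ^ 2
  perfect : commutator G = ⊤
  ρ : G →* Module.End K (Fin 8 → K)
  ρ_inj : Function.Injective ρ
  v₀ : Fin 8 → K
  v₀_ne : v₀ ≠ 0
  ρ_v₀ : ∀ g, ρ g v₀ = v₀

theorem coprime_self_pred {k : ℕ} (hk : 1 ≤ k) : k.Coprime (k - 1) :=
  Nat.coprime_of_dvd' fun d _ h1 h2 => by
    have := Nat.dvd_sub h1 h2
    rwa [show k - (k - 1) = 1 by omega] at this

variable {G : Type*} [Group G] [Finite G] {K : Type*} [Field K] [Fintype K]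

local notation "q" => Fintype.card K

namespace Sys

variable (S : Sys G K)
include S

theorem q_mod_eight : q % 8 = 3 := by
  rw [S.card_K, pow_succ, pow_mul, Nat.mul_mod, Nat.pow_mod]
  norm_num

theorem q_ge : 27 ≤ q := by
  rw [S.card_K]
  calc 27 = 3 ^ 3 := rfl
    _ ≤ _ := Nat.pow_le_pow_right (by norm_num) (by have := S.one_le_m; omega)

theorem three_dvd : 3 ∣ q := S.card_K ▸ dvd_pow_self 3 (by omega)

theorem q_prime_dvd {r : ℕ} (hr : r.Prime) (h : r ∣ q) : r = 3 := by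
  rw [S.card_K] at h
  exact (Nat.prime_dvd_prime_iff_eq hr Nat.prime_three).1 (hr.dvd_of_dvd_pow h)

theorem coprime_U_H : (q ^ 3).Coprime (q - 1) :=
  (coprime_self_pred (by have := S.q_ge; omega)).pow_left 3

theorem eq_one_of_mem_UH {x : G} (hu : x ∈ S.U) (hh : x ∈ S.H) : x = 1 := by
  refine orderOf_eq_one_iff.1 (Nat.eq_one_of_dvd_coprimes S.coprime_U_H ?_ ?_)
  · rw [← S.card_U]; exact Subgroup.orderOf_dvd_natCard _ hu
  · rw [← S.card_H]; exact Subgroup.orderOf_dvd_natCard _ hh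

theorem commute_H {h k : G} (hh : h ∈ S.H) (hk : k ∈ S.H) : Commute h k := by
  have := S.cyc
  exact congrArg Subtype.val (IsMulCommutative.is_comm.comm (⟨h, hh⟩ : ↥S.H) ⟨k, hk⟩)

theorem uh_unique {u u' h h' : G} (hu : u ∈ S.U) (hu' : u' ∈ S.U) (hh : h ∈ S.H) (hh' : h' ∈ S.H)
    (e : u * h = u' * h') : u = u' ∧ h = h' := by
  have e' : u'⁻¹ * u = h' * h⁻¹ := by
    rw [inv_mul_eq_iff_eq_mul, ← mul_assoc, eq_mul_inv_iff_mul_eq]; exact e
  have := S.eq_one_of_mem_UH (mul_mem (inv_mem hu') hu) (e' ▸ mul_mem hh' (inv_mem hh))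
  have hu2 : u' = u := inv_mul_eq_one.1 this
  exact ⟨hu2.symm, mul_left_cancel (hu2 ▸ e)⟩

theorem card_B : Nat.card ↥S.B = q ^ 3 * (q - 1) := by
  rw [← S.card_U, ← S.card_H, ← Nat.card_prod]
  refine (Nat.card_congr (Equiv.ofBijective
    (fun p : ↥S.U × ↥S.H => (⟨p.1 * p.2, mul_mem (S.U_le p.1.2) (S.H_le p.2.2)⟩ : ↥S.B)) ⟨?_, ?_⟩)).symm
  · intro p p' e
    obtain ⟨e1, e2⟩ := S.uh_unique p.1.2 p'.1.2 p.2.2 p'.2.2 (congrArg Subtype.val e)
    exact Prod.ext (Subtype.ext e1) (Subtype.ext e2)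
  · intro b
    obtain ⟨u, hu, h, hh, e⟩ := S.split b b.2
    exact ⟨(⟨u, hu⟩, ⟨h, hh⟩), Subtype.ext e.symm⟩

theorem n_inv_self : S.n⁻¹ = S.n := inv_eq_of_mul_eq_one_left S.n_sq

theorem n_mul_H {h : G} (hh : h ∈ S.H) : S.n * h = h⁻¹ * S.n := mul_inv_eq_iff_eq_mul.1 (S.n_inv h hh)

theorem a_inv : S.a⁻¹ = S.a := inv_eq_of_mul_eq_one_left S.a_sq

theorem commute_n_a : Commute S.n S.a := by
  show S.n * S.a = S.a * S.n
  rw [S.n_mul_H S.a_mem, S.a_inv]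

theorem orderOf_a : orderOf S.a = 2 := orderOf_eq_prime (by rw [pow_two, S.a_sq]) S.a_ne

/-- The elements of order at most two in `H`. -/
theorem sq_eq_one {h : G} (hh : h ∈ S.H) (h2 : h * h = 1) : h = 1 ∨ h = S.a := by
  classical
  have := S.cyc
  have := Fintype.ofFinite ↥S.H
  by_contra hc
  push Not at hc
  have hle := IsCyclic.card_pow_eq_one_le (α := ↥S.H) (n := 2) two_pos
  have hsub : ({⟨1, one_mem _⟩, ⟨S.a, S.a_mem⟩, ⟨h, hh⟩} : Finset ↥S.H) ⊆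
      Finset.univ.filter fun x : ↥S.H => x ^ 2 = 1 := by
    intro x hx
    simp only [Finset.mem_insert, Finset.mem_singleton] at hx
    refine Finset.mem_filter.2 ⟨Finset.mem_univ _, Subtype.ext ?_⟩
    rcases hx with rfl | rfl | rfl <;> simp [pow_two, S.a_sq, h2]
  have := (Finset.card_le_card hsub).trans hle
  rw [Finset.card_insert_of_notMem (by simp [Subtype.ext_iff, S.a_ne.symm, hc.1.symm]),
    Finset.card_pair (by simp [Subtype.ext_iff, hc.2.symm])] at this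
  omega

/-- An element fixing two points is conjugate into `H`. -/
theorem mem_H_of_two {u b x : G} (hu : u ∈ S.U) (hb : b ∈ S.B) (hx : x ∈ S.B)
    (hg : (u * S.n * b)⁻¹ * x * (u * S.n * b) ∈ S.B) : u⁻¹ * x * u ∈ S.H := by
  refine S.inter _ (mul_mem (mul_mem (inv_mem (S.U_le hu)) hx) (S.U_le hu)) ?_
  have := mul_mem (mul_mem hb hg) (inv_mem hb)
  have e : b * ((u * S.n * b)⁻¹ * x * (u * S.n * b)) * b⁻¹ = S.n⁻¹ * (u⁻¹ * x * u) * S.n := by group
  rw [e] at this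
  rw [S.n_inv_self] at this ⊢
  exact this

theorem nub_unique {u u' b b' : G} (hu : u ∈ S.U) (hu' : u' ∈ S.U) (hb : b ∈ S.B) (hb' : b' ∈ S.B)
    (e : u * S.n * b = u' * S.n * b') : u = u' ∧ b = b' := by
  have h1 : u⁻¹ * u' ∈ S.U := mul_mem (inv_mem hu) hu'
  have e2 : S.n * (u⁻¹ * u') * S.n⁻¹ = b * b'⁻¹ := by
    have e3 : S.n * b = u⁻¹ * u' * (S.n * b') := by
      calc S.n * b = u⁻¹ * (u * S.n * b) := by group
        _ = _ := by rw [e]; group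
    calc S.n * (u⁻¹ * u') * S.n⁻¹ = S.n * (u⁻¹ * u' * (S.n * b')) * b'⁻¹ * S.n⁻¹ * S.n⁻¹ := by group
      _ = S.n * (S.n * b) * b'⁻¹ * S.n⁻¹ * S.n⁻¹ := by rw [e3]
      _ = b * b'⁻¹ * (S.n⁻¹ * S.n⁻¹) := by rw [← mul_assoc S.n S.n, S.n_sq]; group
      _ = b * b'⁻¹ := by rw [← mul_inv_rev, S.n_sq, inv_one, mul_one]
  have h2 := S.inter _ (S.U_le h1) (e2 ▸ mul_mem hb (inv_mem hb'))
  have h3 : u = u' := inv_mul_eq_one.1 (S.eq_one_of_mem_UH h1 h2)
  subst h3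
  exact ⟨rfl, mul_left_cancel e⟩

/-- Elements of order prime to 3 in `B` are conjugate into `H`. -/
theorem exists_conj_H {x : G} (hx : x ∈ S.B) (hc : (orderOf x).Coprime q) : ∃ u ∈ S.U, u⁻¹ * x * u ∈ S.H := by
  have hN : (S.U.subgroupOf S.B).Normal := ⟨fun u hu b => by
    simpa [Subgroup.mem_subgroupOf] using S.U_conj b b.2 u (Subgroup.mem_subgroupOf.1 hu)⟩
  have c1 : Nat.card ↥(S.U.subgroupOf S.B) = q ^ 3 := by
    rw [Nat.card_congr (Subgroup.subgroupOfEquivOfLe S.U_le).toEquiv, S.card_U]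
  have c2 : (S.U.subgroupOf S.B).index = q - 1 := by
    have := Subgroup.card_mul_index (S.U.subgroupOf S.B)
    rw [c1, S.card_B] at this
    exact Nat.eq_of_mul_eq_mul_left (pow_pos (by have := S.q_ge; omega) 3) this
  have c3 : Nat.card ↥(S.H.subgroupOf S.B) = q - 1 := by
    rw [Nat.card_congr (Subgroup.subgroupOfEquivOfLe S.H_le).toEquiv, S.card_H]
  obtain ⟨u, hu, hle⟩ := SZ.exists_mem_le_conj (S.U.subgroupOf S.B) (S.H.subgroupOf S.B)
    (Subgroup.zpowers (⟨x, hx⟩ : ↥S.B)) (by rw [c1, c2]; exact S.coprime_U_H) (Or.inr inferInstance)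
    (by rw [c3, c2]) (by rw [c1, Nat.card_zpowers, ← Subgroup.orderOf_coe]; exact hc.pow_right 3)
  have := hle (Subgroup.mem_zpowers _)
  rw [Subgroup.mem_pointwise_smul_iff_inv_smul_mem, ← map_inv, MulAut.smul_def, MulAut.conj_apply,
    Subgroup.mem_subgroupOf] at this
  refine ⟨u, Subgroup.mem_subgroupOf.1 hu, ?_⟩
  simpa using this

/-- The centraliser of a split element. -/
theorem centralizer_H {h : G} (hh : h ∈ S.H) (h2 : h * h ≠ 1) : centralizer ({h} : Set G) = S.H := by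
  refine le_antisymm (fun g hg => ?_) fun g hg => mem_centralizer_singleton_iff.2 (S.commute_H hg hh).eq
  rw [mem_centralizer_singleton_iff] at hg
  by_cases hgB : g ∈ S.B
  · obtain ⟨u, hu, k, hk, rfl⟩ := S.split g hgB
    have hku := (S.commute_H hk hh).eq
    have hc : Commute h u := by
      refine mul_right_cancel (b := k) ?_
      calc h * u * k = h * (u * k) := mul_assoc _ _ _
        _ = u * k * h := hg.symm
        _ = u * h * k := by rw [mul_assoc, hku, ← mul_assoc]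
    by_cases h1 : u = 1
    · simpa [h1] using hk
    · exact absurd (S.fpf h hh u hu h1 hc) h2
  · exfalso
    obtain ⟨u, hu, b, hb, rfl⟩ := S.cover g hgB
    have hfix : (u * S.n * b)⁻¹ * h * (u * S.n * b) = h := by
      rw [mul_assoc, ← hg, inv_mul_cancel_left]
    have h3 := S.mem_H_of_two hu hb (S.H_le hh) (by rw [hfix]; exact S.H_le hh)
    have h4 : u⁻¹ * h * u * h⁻¹ = 1 := S.eq_one_of_mem_UH (by
      rw [show u⁻¹ * h * u * h⁻¹ = u⁻¹ * (h * u * h⁻¹) by group]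
      exact mul_mem (inv_mem hu) (S.U_conj h (S.H_le hh) u hu)) (mul_mem h3 (inv_mem hh))
    by_cases h1 : u = 1
    · subst h1
      rw [one_mul] at hg
      have e : b * h * b⁻¹ = h⁻¹ := by
        calc b * h * b⁻¹ = S.n⁻¹ * (S.n * b * h) * b⁻¹ := by group
          _ = S.n⁻¹ * (h * (S.n * b)) * b⁻¹ := by rw [hg]
          _ = S.n⁻¹ * h * S.n⁻¹⁻¹ := by group
          _ = h⁻¹ := by rw [S.n_inv_self]; exact S.n_inv h hh
      obtain ⟨v, hv, k, hk, rfl⟩ := S.split b hb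
      have e2 : v * h * v⁻¹ * h⁻¹ = h⁻¹ * h⁻¹ := by
        rw [show v * k * h * (v * k)⁻¹ = v * (k * h * k⁻¹) * v⁻¹ by group, (S.commute_H hk hh).eq,
          mul_inv_cancel_right] at e
        rw [e]
      have h5 := S.eq_one_of_mem_UH (x := v * h * v⁻¹ * h⁻¹) (by
        rw [show v * h * v⁻¹ * h⁻¹ = v * (h * v⁻¹ * h⁻¹) by group]
        exact mul_mem hv (S.U_conj h (S.H_le hh) _ (inv_mem hv))) (e2 ▸ mul_mem (inv_mem hh) (inv_mem hh))
      rw [e2, ← mul_inv_rev, inv_eq_one] at h5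
      exact h2 h5
    · refine h2 (S.fpf h hh u hu h1 ?_)
      rw [mul_inv_eq_one, mul_assoc, inv_mul_eq_iff_eq_mul] at h4
      exact h4

/-- Elements moving a split element into `H`. -/
theorem conj_mem_H {h g : G} (hh : h ∈ S.H) (h2 : h * h ≠ 1) (hg : g * h * g⁻¹ ∈ S.H) :
    g ∈ S.H ∨ ∃ k ∈ S.H, g = S.n * k := by
  have inU : ∀ {v k : G}, v ∈ S.U → k ∈ S.H → k * k ≠ 1 → v * k * v⁻¹ ∈ S.H → v = 1 := by
    intro v k hv hk hk2 hm
    by_contra h1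
    have : v * k * v⁻¹ * k⁻¹ = 1 := S.eq_one_of_mem_UH (by
      rw [show v * k * v⁻¹ * k⁻¹ = v * (k * v⁻¹ * k⁻¹) by group]
      exact mul_mem hv (S.U_conj k (S.H_le hk) _ (inv_mem hv))) (mul_mem hm (inv_mem hk))
    rw [mul_inv_eq_one, mul_inv_eq_iff_eq_mul] at this
    exact hk2 (S.fpf k hk v hv h1 this.symm)
  have hg2 : (g * h * g⁻¹) * (g * h * g⁻¹) ≠ 1 := by
    rw [show (g * h * g⁻¹) * (g * h * g⁻¹) = g * (h * h) * g⁻¹ by group]
    exact fun e => h2 (conj_eq_one_iff.1 e)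
  by_cases hgB : g ∈ S.B
  · obtain ⟨v, hv, k, hk, rfl⟩ := S.split g hgB
    have e : v * k * h * (v * k)⁻¹ = v * h * v⁻¹ := by
      rw [show v * k * h * (v * k)⁻¹ = v * (k * h * k⁻¹) * v⁻¹ by group, (S.commute_H hk hh).eq,
        mul_inv_cancel_right]
    rw [e] at hg
    rw [inU hv hh h2 hg, one_mul]
    exact Or.inl hk
  · obtain ⟨u, hu, b, hb, rfl⟩ := S.cover g hgB
    have h3 := S.mem_H_of_two hu hb (S.H_le hg) (by
      rw [show (u * S.n * b)⁻¹ * (u * S.n * b * h * (u * S.n * b)⁻¹) * (u * S.n * b) = h by group]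
      exact S.H_le hh)
    have hu1 : u⁻¹ = 1 := inU (inv_mem hu) hg hg2 (by rwa [inv_inv])
    rw [inv_eq_one] at hu1
    subst hu1
    rw [one_mul] at hg ⊢
    obtain ⟨v, hv, k, hk, rfl⟩ := S.split b hb
    have hm : v * h * v⁻¹ ∈ S.H := by
      have e : S.n * (v * k) * h * (S.n * (v * k))⁻¹ = S.n * (v * h * v⁻¹) * S.n⁻¹ := by
        rw [show S.n * (v * k) * h * (S.n * (v * k))⁻¹ = S.n * (v * (k * h * k⁻¹) * v⁻¹) * S.n⁻¹ by group,
          (S.commute_H hk hh).eq, mul_inv_cancel_right]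
      rw [e] at hg
      have := inv_mem hg
      rw [← S.n_inv _ hg] at this
      rw [S.n_inv_self] at this
      have e2 : S.n * (S.n * (v * h * v⁻¹) * S.n) * S.n = v * h * v⁻¹ := by
        rw [← mul_assoc, ← mul_assoc, S.n_sq, one_mul, mul_assoc, S.n_sq, mul_one]
      rwa [e2] at this
    rw [inU hv hh h2 hm, one_mul]
    exact Or.inr ⟨k, hk, rfl⟩

/-- A conjugate of a nontrivial unipotent element lies in `B` only for a conjugating element in `B`. -/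
theorem mem_B_of_conj_U {u g : G} (hu : u ∈ S.U) (hu1 : u ≠ 1) (hg : g * u * g⁻¹ ∈ S.B) : g ∈ S.B := by
  by_contra hgB
  obtain ⟨v, hv, b, hb, rfl⟩ := S.cover g hgB
  have h3 := S.mem_H_of_two hv hb hg (by
    rw [show (v * S.n * b)⁻¹ * (v * S.n * b * u * (v * S.n * b)⁻¹) * (v * S.n * b) = u by group]
    exact S.U_le hu)
  have e : orderOf (v⁻¹ * (v * S.n * b * u * (v * S.n * b)⁻¹) * v) = orderOf u := by
    rw [show v⁻¹ * (v * S.n * b * u * (v * S.n * b)⁻¹) * v = (S.n * b) * u * (S.n * b)⁻¹ by group]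
    exact (SemiconjBy.conj_mk (S.n * b) u).orderOf_eq _ |>.symm
  refine hu1 (orderOf_eq_one_iff.1 (Nat.eq_one_of_dvd_coprimes S.coprime_U_H ?_ ?_))
  · rw [← S.card_U]; exact Subgroup.orderOf_dvd_natCard _ hu
  · rw [← e, ← S.card_H]; exact Subgroup.orderOf_dvd_natCard _ h3

theorem centralizer_U_le {u : G} (hu : u ∈ S.U) (hu1 : u ≠ 1) : centralizer ({u} : Set G) ≤ S.B :=
  fun g hg => S.mem_B_of_conj_U hu hu1 (by
    rw [mul_inv_eq_iff_eq_mul.2 (mem_centralizer_singleton_iff.1 hg)]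
    exact S.U_le hu)

/-- The centraliser of `a` in `U`. -/
abbrev CU : Subgroup G := S.U ⊓ centralizer ({S.a} : Set G)

/-- The centraliser of `a` in `B`. -/
abbrev CB : Subgroup G := S.B ⊓ centralizer ({S.a} : Set G)

/-- The centraliser of `a`. -/
abbrev Ca : Subgroup G := centralizer ({S.a} : Set G)

theorem mem_Ca {g : G} : g ∈ S.Ca ↔ Commute g S.a := mem_centralizer_singleton_iff

theorem H_le_Ca : S.H ≤ S.Ca := fun _ hh => S.mem_Ca.2 (S.commute_H hh S.a_mem)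

theorem n_mem_Ca : S.n ∈ S.Ca := S.mem_Ca.2 S.commute_n_a

theorem CU_Ca {g : G} (hg : g ∈ S.CU) : g ∈ S.Ca := (Subgroup.mem_inf.1 hg).2

theorem CB_Ca {g : G} (hg : g ∈ S.CB) : g ∈ S.Ca := (Subgroup.mem_inf.1 hg).2

theorem CU_U {g : G} (hg : g ∈ S.CU) : g ∈ S.U := (Subgroup.mem_inf.1 hg).1

theorem CB_B {g : G} (hg : g ∈ S.CB) : g ∈ S.B := (Subgroup.mem_inf.1 hg).1

theorem CB_split {g : G} (hg : g ∈ S.CB) : ∃ u ∈ S.CU, ∃ h ∈ S.H, g = u * h := by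
  obtain ⟨u, hu, h, hh, rfl⟩ := S.split g hg.1
  exact ⟨u, ⟨hu, by simpa using mul_mem (S.CB_Ca hg) (inv_mem (S.H_le_Ca hh))⟩, h, hh, rfl⟩

theorem card_CB : Nat.card ↥S.CB = q * (q - 1) := by
  conv_rhs => rw [← S.card_H, ← S.card_CU]
  rw [← Nat.card_prod]
  refine (Nat.card_congr (Equiv.ofBijective (fun p : ↥S.CU × ↥S.H => (⟨p.1 * p.2,
    mul_mem (S.U_le p.1.2.1) (S.H_le p.2.2), mul_mem p.1.2.2 (S.H_le_Ca p.2.2)⟩ : ↥S.CB)) ⟨?_, ?_⟩)).symm
  · intro p p' e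
    obtain ⟨e1, e2⟩ := S.uh_unique p.1.2.1 p'.1.2.1 p.2.2 p'.2.2 (congrArg Subtype.val e)
    exact Prod.ext (Subtype.ext e1) (Subtype.ext e2)
  · intro g
    obtain ⟨u, hu, h, hh, e⟩ := S.CB_split g.2
    exact ⟨(⟨u, hu⟩, ⟨h, hh⟩), Subtype.ext e.symm⟩

theorem Ca_cases {g : G} (hg : g ∈ S.Ca) (hgB : g ∉ S.B) : ∃ u ∈ S.CU, ∃ b ∈ S.CB, g = u * S.n * b := by
  obtain ⟨u, hu, b, hb, rfl⟩ := S.cover g hgB
  have hfix : (u * S.n * b)⁻¹ * S.a * (u * S.n * b) = S.a := by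
    rw [mul_assoc, ← (S.mem_Ca.1 hg).eq, inv_mul_cancel_left]
  have h3 := S.mem_H_of_two hu hb (S.H_le S.a_mem) (by rw [hfix]; exact S.H_le S.a_mem)
  have h4 : u⁻¹ * S.a * u * S.a⁻¹ = 1 := S.eq_one_of_mem_UH (by
    rw [show u⁻¹ * S.a * u * S.a⁻¹ = u⁻¹ * (S.a * u * S.a⁻¹) by group]
    exact mul_mem (inv_mem hu) (S.U_conj _ (S.H_le S.a_mem) u hu)) (mul_mem h3 (inv_mem S.a_mem))
  rw [mul_inv_eq_one, mul_assoc, inv_mul_eq_iff_eq_mul] at h4
  have hu' : u ∈ S.CU := ⟨hu, S.mem_Ca.2 h4.symm⟩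
  refine ⟨u, hu', b, ⟨hb, ?_⟩, rfl⟩
  have : b = (u * S.n)⁻¹ * (u * S.n * b) := by group
  rw [this]
  exact S.Ca.mul_mem (S.Ca.inv_mem (S.Ca.mul_mem (S.CU_Ca hu') S.n_mem_Ca)) hg

theorem nub_notMem {u b : G} (hu : u ∈ S.U) (hb : b ∈ S.B) : u * S.n * b ∉ S.B := fun h => S.n_notMem (by
  have e : S.n = u⁻¹ * (u * S.n * b) * b⁻¹ := by group
  exact e ▸ mul_mem (mul_mem (inv_mem (S.U_le hu)) h) (inv_mem hb))

theorem card_Ca : Nat.card ↥S.Ca = q * (q - 1) * (q + 1) := by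
  have e : Nat.card ↥S.Ca = Nat.card (↥S.CB ⊕ ↥S.CU × ↥S.CB) := by
    refine (Nat.card_congr (Equiv.ofBijective (Sum.elim (fun b : ↥S.CB => (⟨b, S.CB_Ca b.2⟩ : ↥S.Ca))
      (fun p : ↥S.CU × ↥S.CB => ⟨p.1 * S.n * p.2, mul_mem (mul_mem (S.CU_Ca p.1.2) S.n_mem_Ca) (S.CB_Ca p.2.2)⟩)) ⟨?_, ?_⟩)).symm
    · rintro (b | p) (b' | p') h <;> simp only [Sum.elim_inl, Sum.elim_inr, Subtype.mk.injEq] at h
      · exact congrArg Sum.inl (Subtype.ext h)
      · exact absurd (h ▸ b.2.1) (S.nub_notMem p'.1.2.1 p'.2.2.1)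
      · exact absurd (h.symm ▸ b'.2.1) (S.nub_notMem p.1.2.1 p.2.2.1)
      · obtain ⟨e1, e2⟩ := S.nub_unique p.1.2.1 p'.1.2.1 p.2.2.1 p'.2.2.1 h
        exact congrArg Sum.inr (Prod.ext (Subtype.ext e1) (Subtype.ext e2))
    · intro g
      by_cases hg : (g : G) ∈ S.B
      · exact ⟨Sum.inl ⟨g, hg, g.2⟩, rfl⟩
      · obtain ⟨u, hu, b, hb, e⟩ := S.Ca_cases g.2 hg
        exact ⟨Sum.inr (⟨u, hu⟩, ⟨b, hb⟩), Subtype.ext e.symm⟩
  rw [e, Nat.card_sum, Nat.card_prod, S.card_CB, S.card_CU]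
  ring

/-- An involution of `C(a)` in `B` is `a`. -/
theorem CB_sq {g : G} (hg : g ∈ S.CB) (h2 : g * g = 1) : g = 1 ∨ g = S.a := by
  obtain ⟨u, hu, h, hh, rfl⟩ := S.CB_split hg
  have hhu : h * u * h⁻¹ ∈ S.U := S.U_conj h (S.H_le hh) u hu.1
  have e : (u * (h * u * h⁻¹)) * (h * h) = 1 * 1 := by
    rw [one_mul, ← h2]; group
  obtain ⟨e1, e2⟩ := S.uh_unique (mul_mem hu.1 hhu) (one_mem _) (mul_mem hh hh) (one_mem _) e
  have hc : Commute h u := by
    rcases S.sq_eq_one hh e2 with rfl | rfl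
    · exact Commute.one_left u
    · exact (S.mem_Ca.1 hu.2).symm
  rw [hc.eq, mul_inv_cancel_right] at e1
  have : u = 1 := by
    have h9 := S.nine u hu.1
    rw [show u ^ 9 = (u * u) ^ 4 * u by rw [← pow_two, ← pow_mul, ← pow_succ], e1, one_pow, one_mul] at h9
    exact h9
  rw [this, one_mul]
  exact S.sq_eq_one hh e2

/-- Every other involution of `C(a)` is a conjugate of `n` or `na` there. -/
theorem Ca_involution {g : G} (hg : g ∈ S.Ca) (h1 : g ≠ 1) (ha : g ≠ S.a) (h2 : g * g = 1) :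
    ∃ c ∈ S.Ca, c * g * c⁻¹ = S.n ∨ c * g * c⁻¹ = S.n * S.a := by
  have hgB : g ∉ S.B := fun hb => by
    rcases S.CB_sq ⟨hb, hg⟩ h2 with e | e
    exacts [h1 e, ha e]
  obtain ⟨u, hu, b, hb, rfl⟩ := S.Ca_cases hg hgB
  set b' := b * u with hb'
  have hb'B : b' ∈ S.B := mul_mem hb.1 (S.U_le hu.1)
  have e : S.n * b' * (S.n * b') = 1 := by
    rw [hb', show S.n * (b * u) * (S.n * (b * u)) = u⁻¹ * ((u * S.n * b) * (u * S.n * b)) * u by group, h2]
    group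
  have hH : b' ∈ S.H := S.inter _ hb'B (by
    rw [S.n_inv_self]
    have : S.n * b' * S.n = b'⁻¹ := by
      rw [eq_inv_iff_mul_eq_one, mul_assoc]; exact e
    rw [this]
    exact inv_mem hb'B)
  obtain ⟨j, hj⟩ : Odd ((q - 1) / 2) := by
    rw [Nat.odd_iff]; have := S.q_mod_eight; omega
  have hp : (b' ^ ((q - 1) / 2)) * (b' ^ ((q - 1) / 2)) = 1 := by
    rw [← pow_add, show (q - 1) / 2 + (q - 1) / 2 = q - 1 by have := S.q_mod_eight; omega, ← S.card_H]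
    exact congrArg Subtype.val (pow_card_eq_one' (x := (⟨b', hH⟩ : ↥S.H)))
  set ε := b' ^ ((q - 1) / 2) with hε
  set k := (ε * b') ^ (j + 1) with hk
  have hεH : ε ∈ S.H := pow_mem hH _
  have hkH : k ∈ S.H := pow_mem (mul_mem hεH hH) _
  have hε' : ε ^ ((q - 1) / 2) = ε := by
    rw [hj, pow_succ, pow_mul, pow_two, hp, one_pow, one_mul]
  have hbk : b' = ε * (k * k) := by
    have h3 : (ε * b') ^ ((q - 1) / 2) = 1 := by
      rw [(S.commute_H hεH hH).mul_pow, hε', ← hε, hp]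
    rw [hk, ← pow_add, show j + 1 + (j + 1) = (q - 1) / 2 + 1 by omega, pow_succ, h3, one_mul, ← mul_assoc, hp,
      one_mul]
  have key : k * (S.n * b') * k⁻¹ = S.n * ε := by
    have hc := S.n_mul_H (inv_mem hkH)
    rw [inv_inv] at hc
    rw [hbk, ← mul_assoc k, ← hc, mul_assoc, mul_assoc]
    congr 1
    calc k⁻¹ * (ε * (k * k) * k⁻¹) = k⁻¹ * (ε * k) := by group
      _ = ε := by rw [(S.commute_H hεH hkH).eq, inv_mul_cancel_left]
  refine ⟨k * u⁻¹, mul_mem (S.H_le_Ca hkH) (inv_mem hu.2), ?_⟩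
  have e' : k * u⁻¹ * (u * S.n * b) * (k * u⁻¹)⁻¹ = k * (S.n * b') * k⁻¹ := by rw [hb']; group
  rw [e', key]
  rcases S.sq_eq_one hεH hp with h | h
  · exact Or.inl (by rw [h, mul_one])
  · exact Or.inr (by rw [h])

/-- No element of `C(a)` squares to `a`. -/
theorem sq_ne_a {g : G} (hg : g ∈ S.Ca) : g * g ≠ S.a := by
  intro h
  by_cases hgB : g ∈ S.B
  · obtain ⟨u, hu, k, hk, rfl⟩ := S.CB_split ⟨hgB, hg⟩
    have hku : k * u * k⁻¹ ∈ S.U := S.U_conj k (S.H_le hk) u hu.1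
    have e : (u * (k * u * k⁻¹)) * (k * k) = 1 * S.a := by rw [one_mul, ← h]; group
    obtain ⟨-, e2⟩ := S.uh_unique (mul_mem hu.1 hku) (one_mem _) (mul_mem hk hk) S.a_mem e
    have h4 : k ^ 4 = 1 := by
      rw [show 4 = 2 * 2 from rfl, pow_mul, pow_two k, e2, pow_two, S.a_sq]
    have hd : orderOf k ∣ 2 := by
      refine (Nat.Coprime.dvd_of_dvd_mul_right ?_ (show orderOf k ∣ 2 * ((q - 1) / 2) from ?_))
      · have h1 := orderOf_dvd_of_pow_eq_one h4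
        refine Nat.Coprime.coprime_dvd_left h1 ?_
        rw [show (4 : ℕ) = 2 ^ 2 by norm_num]
        refine Nat.Coprime.pow_left 2 (Nat.coprime_two_left.2 ?_)
        rw [Nat.odd_iff]; have := S.q_mod_eight; omega
      · rw [show 2 * ((q - 1) / 2) = q - 1 by have := S.q_mod_eight; omega, ← S.card_H]
        exact Subgroup.orderOf_dvd_natCard _ hk
    have := orderOf_dvd_iff_pow_eq_one.1 hd
    rw [pow_two, e2] at this
    exact S.a_ne this
  · obtain ⟨u, hu, b, hb, rfl⟩ := S.Ca_cases hg hgB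
    have hb'B : b * u ∈ S.B := mul_mem hb.1 (S.U_le hu.1)
    have ha : u⁻¹ * S.a * u = S.a := by
      rw [mul_assoc, ← (S.mem_Ca.1 hu.2).eq, inv_mul_cancel_left]
    have e : S.n * (b * u) * (S.n * (b * u)) = S.a := by
      rw [show S.n * (b * u) * (S.n * (b * u)) = u⁻¹ * ((u * S.n * b) * (u * S.n * b)) * u by group, h, ha]
    have e' : S.n * (b * u) * S.n⁻¹ = S.a * (b * u)⁻¹ := by
      rw [eq_mul_inv_iff_mul_eq, S.n_inv_self, mul_assoc]; exact e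
    have hH : b * u ∈ S.H := S.inter _ hb'B (e' ▸ mul_mem (S.H_le S.a_mem) (inv_mem hb'B))
    rw [S.n_inv _ hH] at e'
    exact S.a_ne (mul_eq_right.1 e'.symm)

end Sys

end Cfsg.Agent.Lib.Ree.Tori
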