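import Cfsg.Agent.Lib.Ree.Instance
import Cfsg.Agent.Lib.Ree.Points
import Cfsg.Agent.Lib.Ree.SylowThree
import Cfsg.Agent.Lib.Twisted.Ree.G2Sys
import Cfsg.Agent.Lib.Twisted.Ree.G2Action
import Cfsg.Agent.Lib.G2Inv.Iso
import Cfsg.Agent.Lib.Ree.Tori.Sys

/-!
The small Ree groups satisfy the abstract description.
-/

set_option autoImplicit false

namespace Cfsg.Agent.Lib.Ree.Tori

set_option maxHeartbeats 400000

open Cfsg.Lie Cfsg.Agent.Lib.Chev Cfsg.Agent.Lib.Twisted

variable {K : Type*} [Field K]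

theorem long_sq [CharP K 3] : nProd checked_G2 K longWord * nProd checked_G2 K longWord = 1 := by
  have e : constWordsEq chevG2 G2.cert 3 (nInts chevG2 longWord ++ nInts chevG2 longWord) [] = true := by
    decide +kernel
  have h := congrArg Subtype.val (wordG_const_eq (K := K) checked_G2 3 e)
  simp only [castW, List.map_append, wordG_append, List.map_nil, wordG_nil, Subgroup.coe_mul, Subgroup.coe_one] at h
  simp only [← castW.eq_1, coe_nInts checked_G2 isWord_long] at h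
  exact h

theorem zorn_one_mul (x : Fin 8 → K) : zornMul ![1, 0, 0, 0, 0, 0, 0, 1] x = x := by
  funext i
  fin_cases i <;> simp [zornMul, zA, zB, dot3, cross3]

theorem zorn_mul_one (x : Fin 8 → K) : zornMul x ![1, 0, 0, 0, 0, 0, 0, 1] = x := by
  funext i
  fin_cases i <;> simp [zornMul, zA, zB, dot3, cross3]

theorem G2_fix_one {g : GL (Fin 8) K} (hg : g ∈ Cfsg.Lie.G2 K) :
    Matrix.mulVec (g : Matrix (Fin 8) (Fin 8) K) ![1, 0, 0, 0, 0, 0, 0, 1] = ![1, 0, 0, 0, 0, 0, 0, 1] := by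
  set z := Matrix.mulVec (g : Matrix (Fin 8) (Fin 8) K) ![1, 0, 0, 0, 0, 0, 0, 1]
  have hz : ∀ x, zornMul z x = x := fun x => by
    have h : ∀ u v : Fin 8 → K, Matrix.mulVec (g : Matrix (Fin 8) (Fin 8) K) (zornMul u v) =
        zornMul (Matrix.mulVec (g : Matrix (Fin 8) (Fin 8) K) u) (Matrix.mulVec (g : Matrix (Fin 8) (Fin 8) K) v) := hg
    have e := h ![1, 0, 0, 0, 0, 0, 0, 1] (Matrix.mulVec ((g⁻¹ : GL (Fin 8) K) : Matrix (Fin 8) (Fin 8) K) x)
    rw [zorn_one_mul, Matrix.mulVec_mulVec, Units.mul_inv, Matrix.one_mulVec] at e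
    exact e.symm
  exact ((zorn_mul_one z).symm).trans (hz _)

variable [Fintype K]

theorem exists_rep [CharP K 3] (H : Subgroup (GG K)) (hH : H ≤ chevG2.group K) :
    ∃ ρ : ↥H →* Module.End K (Fin 8 → K), Function.Injective ρ ∧
      ∀ g, ρ g ![1, 0, 0, 0, 0, 0, 0, 1] = ![1, 0, 0, 0, 0, 0, 0, 1] := by
  obtain ⟨e⟩ := G2Inv.nonempty_iso (F := K)
  let f : ↥H →* GL (Fin 8) K := (Cfsg.Lie.G2 K).subtype.comp (e.toMonoidHom.comp (Subgroup.inclusion hH))
  let ρ : ↥H →* Module.End K (Fin 8 → K) :=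
    { toFun := fun g => Matrix.mulVecLin (f g : Matrix (Fin 8) (Fin 8) K)
      map_one' := by rw [map_one, Units.val_one, Matrix.mulVecLin_one]; rfl
      map_mul' := fun g k => by rw [map_mul, Units.val_mul, Matrix.mulVecLin_mul]; rfl }
  refine ⟨ρ, fun g k h => ?_, fun g => G2_fix_one (e _).2⟩
  have h1 : (f g : Matrix (Fin 8) (Fin 8) K) = f k :=
    Matrix.toLin'.injective (by simpa [ρ, Matrix.toLin'_apply'] using h)
  exact Subgroup.inclusion_injective hH (e.injective (Subtype.ext (Units.ext h1)))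

variable {m : ℕ} (F : Facts K m)
include F

theorem longEl_sq : F.longEl * F.longEl = 1 := by
  have := F.charP
  obtain ⟨t, ht, e⟩ := F.longEl_eq
  have hc := F.longEl_conj_diag ht
  calc F.longEl * F.longEl = F.longEl * t⁻¹ * F.longEl⁻¹ * (F.longEl * t * F.longEl) := by group
    _ = t * (F.longEl * t * F.longEl) := by
      rw [show F.longEl * t⁻¹ * F.longEl⁻¹ = (F.longEl * t * F.longEl⁻¹)⁻¹ by group, hc, inv_inv]
    _ = t * (F.longEl * t * F.longEl⁻¹) * (F.longEl * F.longEl) := by group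
    _ = F.longEl * F.longEl := by rw [hc]; group
  rw [e]
  obtain ⟨a, b, rfl⟩ := mem_diagonal_iff.1 ht
  calc nProd checked_G2 K longWord * tor a b * (nProd checked_G2 K longWord * tor a b)
      = nProd checked_G2 K longWord * tor a b * (nProd checked_G2 K longWord)⁻¹ *
          (nProd checked_G2 K longWord * nProd checked_G2 K longWord) * tor a b := by group
    _ = 1 := by rw [long_conj_tor, long_sq]; group

theorem coe_reeU_eq (t u v : K) :
    ((ReeG.reeU (3 ^ m) t u v : ↥(chevG2.group K)) : GG K) = uWord (3 ^ m) t u v := coe_reeU t u v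

theorem uWord_cube (t u v : K) : uWord (3 ^ m) t u v ^ 3 = 1 ↔ t = 0 := by
  have := F.charP
  rw [← coe_reeU_eq F, ← SubgroupClass.coe_pow, OneMemClass.coe_eq_one]
  exact ReeG.reeU_cube_eq_one_iff (by positivity) t u v

theorem uWord_nine (t u v : K) : uWord (3 ^ m) t u v ^ 9 = 1 := by
  have := F.charP
  rw [← coe_reeU_eq F, ← SubgroupClass.coe_pow, OneMemClass.coe_eq_one, ReeG.reeU_eq, show 9 = 3 * 3 by rfl,
    pow_mul, ReeG.srt_cube, ReeG.srt_cube, ← ReeG.srt_zero]
  simp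

omit F in
theorem mem_RU' {g : ↥(RG K m)} : g ∈ (U1 K (3 ^ m)).subgroupOf (RG K m) ↔ (g : GG K) ∈ U1 K (3 ^ m) :=
  Subgroup.mem_subgroupOf

/-- The small Ree group as an abstract system. -/
noncomputable def sys (hm : 1 ≤ m) : Sys ↥(RG K m) K := by
  classical
  have := F.charP
  have hρ := exists_rep (RG K m) (twistedG2_le_group (3 ^ m))
  refine
    { m := m
      one_le_m := hm
      card_K := F.card_field
      card_G := ?card_G
      B := RB K m
      U := (U1 K (3 ^ m)).subgroupOf (RG K m)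
      H := (H1 K (3 ^ m)).subgroupOf (RG K m)
      n := F.longG
      a := F.invG
      U_le := fun g hg => mem_RB.2 (F.U1_le_borel (Subgroup.mem_subgroupOf.1 hg))
      H_le := fun g hg => mem_RB.2 (F.H1_le_borel (Subgroup.mem_subgroupOf.1 hg))
      U_conj := ?U_conj
      card_U := ?card_U
      card_H := ?card_H
      split := ?split
      cyc := ?cyc
      n_sq := Subtype.ext (longEl_sq F)
      n_inv := fun h hh => Subtype.ext (F.longEl_conj_diag (Subgroup.mem_inf.1 (Subgroup.mem_subgroupOf.1 hh)).1)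
      n_notMem := fun h => F.longEl_notMem_borel (mem_RB.1 h)
      inter := ?inter
      cover := ?cover
      a_mem := Subgroup.mem_subgroupOf.2 F.invol_mem
      a_ne := fun h => F.invol_ne_one (congrArg Subtype.val h)
      a_sq := Subtype.ext (invol_mul_invol m)
      fpf := ?fpf
      card_CU := ?card_CU
      cube_CU := ?cube_CU
      nine := ?nine
      exists_nine := ?exists_nine
      card_cube := ?card_cube
      perfect := ?perfect
      ρ := hρ.choose
      ρ_inj := hρ.choose_spec.1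
      v₀ := ![1, 0, 0, 0, 0, 0, 0, 1]
      v₀_ne := fun h => one_ne_zero (congrFun h 0)
      ρ_v₀ := hρ.choose_spec.2 }
  case card_G => rw [F.card_group, F.card_field]
  case card_U => rw [Nat.card_congr (Subgroup.subgroupOfEquivOfLe inf_le_right).toEquiv, F.card_unip, F.card_field]
  case card_H => rw [Nat.card_congr (Subgroup.subgroupOfEquivOfLe inf_le_right).toEquiv, F.card_torus, F.card_field]
  case cyc =>
    have := F.torus_cyclic
    exact (Subgroup.subgroupOfEquivOfLe (inf_le_right : H1 K (3 ^ m) ≤ RG K m)).isCyclic.2 this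
  case split =>
    intro b hb
    obtain ⟨u, hu, h, hh, e⟩ := F.borel_split _ (Subgroup.mem_inf.2 ⟨mem_RB.1 hb, b.2⟩)
    exact ⟨⟨u, (Subgroup.mem_inf.1 hu).2⟩, Subgroup.mem_subgroupOf.2 hu, ⟨h, (Subgroup.mem_inf.1 hh).2⟩,
      Subgroup.mem_subgroupOf.2 hh, Subtype.ext e⟩
  case U_conj =>
    intro b hb x hx
    obtain ⟨u, hu, h, hh, e⟩ := F.borel_split _ (Subgroup.mem_inf.2 ⟨mem_RB.1 hb, b.2⟩)
    obtain ⟨hx1, hx2⟩ := Subgroup.mem_inf.1 (Subgroup.mem_subgroupOf.1 hx)
    have h1 : h * (x : GG K) * h⁻¹ ∈ U1 K (3 ^ m) := Subgroup.mem_inf.2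
      ⟨(Subgroup.mem_normalizer_iff.1 (rooted_G2.diagonal_le_normalizer_posUnipotent (Subgroup.mem_inf.1 hh).1) _).1 hx1,
        mul_mem (mul_mem (Subgroup.mem_inf.1 hh).2 hx2) (inv_mem (Subgroup.mem_inf.1 hh).2)⟩
    refine Subgroup.mem_subgroupOf.2 ?_
    rw [Subgroup.coe_mul, Subgroup.coe_mul, Subgroup.coe_inv, e,
      show u * h * (x : GG K) * (u * h)⁻¹ = u * (h * (x : GG K) * h⁻¹) * u⁻¹ by group]
    exact mul_mem (mul_mem hu h1) (inv_mem hu)
  case inter =>
    intro b hb hnb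
    obtain ⟨u, hu, h, hh, e⟩ := F.borel_split _ (Subgroup.mem_inf.2 ⟨mem_RB.1 hb, b.2⟩)
    obtain ⟨u', hu', h', hh', e'⟩ := F.borel_split _ (Subgroup.mem_inf.2 ⟨mem_RB.1 hnb, (F.longG * b * F.longG⁻¹).2⟩)
    simp only [Subgroup.coe_mul, Subgroup.coe_inv, Facts.longG] at e'
    rw [e] at e'
    have hconj : h⁻¹ * u * h ∈ U1 K (3 ^ m) := Subgroup.mem_inf.2
      ⟨by simpa using (Subgroup.mem_normalizer_iff.1 (rooted_G2.diagonal_le_normalizer_posUnipotent
          (inv_mem (Subgroup.mem_inf.1 hh).1)) _).1 (Subgroup.mem_inf.1 hu).1,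
        mul_mem (mul_mem (inv_mem (Subgroup.mem_inf.1 hh).2) (Subgroup.mem_inf.1 hu).2) (Subgroup.mem_inf.1 hh).2⟩
    have hl := F.longEl_mul_diag (inv_mem (Subgroup.mem_inf.1 hh').1)
    rw [inv_inv] at hl
    have key : 1 * F.longEl * h * (h⁻¹ * u * h) = u' * F.longEl * h'⁻¹ * 1 := by
      calc 1 * F.longEl * h * (h⁻¹ * u * h) = F.longEl * (u * h) * F.longEl⁻¹ * F.longEl := by group
        _ = u' * h' * F.longEl := by rw [e']
        _ = u' * (F.longEl * h'⁻¹) := by rw [hl]; group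
        _ = _ := by group
    obtain ⟨-, -, h3⟩ := F.cell_unique (one_mem _) hu' hh (inv_mem hh') hconj (one_mem _) key
    have hu1 : u = 1 := by
      calc u = h * (h⁻¹ * u * h) * h⁻¹ := by group
        _ = 1 := by rw [h3]; group
    refine Subgroup.mem_subgroupOf.2 ?_
    rw [e, hu1, one_mul]
    exact hh
  case cover =>
    intro g hg
    rcases F.cover g.2 with ⟨u, hu, h, hh, e⟩ | ⟨u, hu, h, hh, v, hv, e⟩
    · exact absurd (mem_RB.2 (e ▸ mul_mem (F.U1_le_borel hu) (F.H1_le_borel hh))) hg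
    · exact ⟨⟨u, (Subgroup.mem_inf.1 hu).2⟩, Subgroup.mem_subgroupOf.2 hu,
        ⟨h * v, mul_mem (Subgroup.mem_inf.1 hh).2 (Subgroup.mem_inf.1 hv).2⟩,
        mem_RB.2 (mul_mem (F.H1_le_borel hh) (F.U1_le_borel hv)), Subtype.ext (by
          simp only [Subgroup.coe_mul, Facts.longG]; rw [e]; group)⟩
  case fpf =>
    intro h hh u hu hu1 hc
    obtain ⟨μ, e⟩ := F.torus_shape (Subgroup.mem_subgroupOf.1 hh)
    obtain ⟨t, a, b, eu⟩ := (F.unip _).1 (Subgroup.mem_subgroupOf.1 hu)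
    have hne : uWord (3 ^ m) t a b ≠ 1 := fun e1 => hu1 (Subtype.ext (eu.trans e1))
    have hc' : (h : GG K) * u = u * h := congrArg Subtype.val hc.eq
    rw [e, eu] at hc'
    refine Subtype.ext ?_
    rw [Subgroup.coe_mul, e, hEl_mul, Subgroup.coe_one]
    rcases F.fix_cases hne hc' with rfl | ⟨rfl, -, -⟩
    · rw [one_mul, hEl_one]
    · rw [neg_mul_neg, one_mul, hEl_one]
  case card_CU =>
    let f : K → ↥((U1 K (3 ^ m)).subgroupOf (RG K m) ⊓ Subgroup.centralizer ({F.invG} : Set ↥(RG K m))) :=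
      fun u => ⟨uG m 0 u 0, Subgroup.mem_subgroupOf.2 (F.uWord_mem_U1 _ _ _),
        Subgroup.mem_centralizer_singleton_iff.2 (Subtype.ext ((F.invol_commute_uWord_iff 0 u 0).2 ⟨rfl, rfl⟩).symm)⟩
    rw [← Nat.card_eq_fintype_card]
    refine (Nat.card_congr (Equiv.ofBijective f ⟨fun u v h => ?_, fun g => ?_⟩)).symm
    · exact (F.uWord_injective (congrArg Subtype.val (congrArg Subtype.val h))).2.1
    · obtain ⟨h1, h2⟩ := Subgroup.mem_inf.1 g.2
      obtain ⟨t, u, v, e⟩ := (F.unip _).1 (Subgroup.mem_subgroupOf.1 h1)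
      have h3 : (invol K m) * ((g : ↥(RG K m)) : GG K) = ((g : ↥(RG K m)) : GG K) * invol K m :=
        (congrArg Subtype.val (Subgroup.mem_centralizer_singleton_iff.1 h2)).symm
      rw [e] at h3
      obtain ⟨rfl, rfl⟩ := (F.invol_commute_uWord_iff t u v).1 h3
      exact ⟨u, Subtype.ext (Subtype.ext e.symm)⟩
  case cube_CU =>
    intro g hg hc
    obtain ⟨t, u, v, e⟩ := (F.unip _).1 (Subgroup.mem_subgroupOf.1 hg)
    have h3 : (invol K m) * (g : GG K) = (g : GG K) * invol K m := congrArg Subtype.val hc.eq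
    rw [e] at h3
    refine Subtype.ext ?_
    rw [SubgroupClass.coe_pow, e, Subgroup.coe_one]
    exact (uWord_cube F t u v).2 ((F.invol_commute_uWord_iff t u v).1 h3).1
  case nine =>
    intro g hg
    obtain ⟨t, u, v, e⟩ := (F.unip _).1 (Subgroup.mem_subgroupOf.1 hg)
    refine Subtype.ext ?_
    rw [SubgroupClass.coe_pow, e, Subgroup.coe_one]
    exact uWord_nine F t u v
  case exists_nine =>
    refine ⟨uG m 1 0 0, Subgroup.mem_subgroupOf.2 (F.uWord_mem_U1 _ _ _), fun h => one_ne_zero (α := K) ?_⟩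
    exact (uWord_cube F 1 0 0).1 (by simpa [uG] using congrArg Subtype.val h)
  case card_cube =>
    rw [pow_two (Fintype.card K), ← Nat.card_eq_fintype_card, ← Nat.card_prod]
    let f : K × K → {u : ↥(RG K m) // u ∈ (U1 K (3 ^ m)).subgroupOf (RG K m) ∧ u ^ 3 = 1} := fun p =>
      ⟨uG m 0 p.1 p.2, Subgroup.mem_subgroupOf.2 (F.uWord_mem_U1 _ _ _), Subtype.ext (by
        simpa [uG] using (uWord_cube F 0 p.1 p.2).2 rfl)⟩
    refine (Nat.card_congr (Equiv.ofBijective f ⟨fun p p' h => ?_, fun g => ?_⟩)).symm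
    · obtain ⟨-, a, b⟩ := F.uWord_injective (congrArg Subtype.val (congrArg Subtype.val h))
      exact Prod.ext a b
    · obtain ⟨t, u, v, e⟩ := (F.unip _).1 (Subgroup.mem_subgroupOf.1 g.2.1)
      have h : uWord (3 ^ m) t u v ^ 3 = 1 := by
        rw [← e, ← SubgroupClass.coe_pow, g.2.2, Subgroup.coe_one]
      obtain rfl := (uWord_cube F t u v).1 h
      exact ⟨(u, v), Subtype.ext (Subtype.ext e.symm)⟩
  case perfect =>
    obtain ⟨σ, hσ⟩ := ReeG.exists_sigma F.card_field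
    obtain ⟨k, hk⟩ := ReeG.card_units_eq F.card_field
    exact ReeG.commutator_eq_top hσ (ReeG.pow_theta F.card_field) hk hm F.card_field

end Cfsg.Agent.Lib.Ree.Tori
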