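import Cfsg.Agent.Lib.Ree.Tori.Solvable
import Cfsg.Agent.Lib.Ree.Tori.Instance

/-!
The system of the small Ree group over a field of order `3^(2m+1)`.
-/

set_option autoImplicit false

namespace Cfsg.Agent.Lib.Ree.Tori

variable {K : Type*} [Field K] [Fintype K] {m : ℕ}

/-- The system. -/
noncomputable def reeSys (hm : 1 ≤ m) (hK : Fintype.card K = 3 ^ (2 * m + 1)) :
    Sys ↥(Cfsg.Lie.twistedG2 K (3 ^ m)) K :=
  sys (facts hK) hm

theorem reeSys_m (hm : 1 ≤ m) (hK : Fintype.card K = 3 ^ (2 * m + 1)) : (reeSys hm hK).m = m := rfl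

theorem reeSys_rt (hm : 1 ≤ m) (hK : Fintype.card K = 3 ^ (2 * m + 1)) : (reeSys hm hK).rt = 3 ^ (m + 1) := rfl

end Cfsg.Agent.Lib.Ree.Tori
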