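import Cfsg.Agent.Lib.Ree.Tori.Theorems

/-!
Solvable subgroups normalise a Sylow 2- or 3-subgroup or a cyclic Hall subgroup.
-/

set_option autoImplicit false

namespace Cfsg.Agent.Lib.Ree.Tori

open Subgroup
open scoped Pointwise

variable {G : Type*} [Group G] [Finite G] {K : Type*} [Field K] [Fintype K]

local notation "q" => Fintype.card K

/-- In a solvable group, outside a given normal subgroup there is a normal subgroup with derived group inside it. -/
theorem exists_normal_comm {X N : Subgroup G} (hX : Group.IsSolvable ↥X) (hne : ¬ X ≤ N) :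
    ∃ D : Subgroup G, D ≤ X ∧ ¬ D ≤ N ∧ (∀ s ∈ X, ∀ d ∈ D, s * d * s⁻¹ ∈ D) ∧
      ∀ x ∈ D, ∀ y ∈ D, x * y * x⁻¹ * y⁻¹ ∈ N := by
  classical
  obtain ⟨k, hk⟩ := (Group.isSolvable_def _).1 hX
  have hex : ∃ i, (derivedSeries ↥X i).map X.subtype ≤ N := ⟨k, by rw [hk, Subgroup.map_bot]; exact bot_le⟩
  obtain ⟨i, hi⟩ : ∃ i, Nat.find hex = i + 1 := by
    refine Nat.exists_eq_succ_of_ne_zero fun h => hne ?_
    have h0 := Nat.find_spec hex
    rw [h, derivedSeries_zero, ← MonoidHom.range_eq_map, Subgroup.range_subtype] at h0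
    exact h0
  have hmin := Nat.find_min hex (show i < Nat.find hex by omega)
  have hspec := Nat.find_spec hex
  rw [hi] at hspec
  refine ⟨(derivedSeries ↥X i).map X.subtype, map_subtype_le _, hmin, ?_, ?_⟩
  · rintro s hs _ ⟨d, hd, rfl⟩
    exact ⟨⟨s, hs⟩ * d * ⟨s, hs⟩⁻¹, (derivedSeries_normal ↥X i).conj_mem d hd _, rfl⟩
  · rintro _ ⟨x, hx, rfl⟩ _ ⟨y, hy, rfl⟩
    refine hspec ⟨x * y * x⁻¹ * y⁻¹, ?_, by simp⟩
    rw [derivedSeries_succ]
    exact Subgroup.commutator_mem_commutator hx hy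

namespace Sys

variable (S : Sys G K)
include S

theorem two_part_invol {x : G} : ∃ o, Odd o ∧ x ^ o * x ^ o = 1 := by
  obtain ⟨i, o, ho, hio⟩ := Nat.exists_eq_two_pow_mul_odd (orderOf_pos x).ne'
  refine ⟨o, ho, S.two_elem_sq (x := x ^ o) (j := i) (orderOf_dvd_of_pow_eq_one ?_)⟩
  rw [← pow_mul, mul_comm, ← hio, pow_orderOf_eq_one]

/-- In the centraliser of an involution, commutators equal to that involution do not occur. -/
theorem comm_of_commutator {a' x y : G} (ha : a' ≠ 1) (ha2 : a' * a' = 1) (hxa : Commute x a') (hya : Commute y a')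
    (h : x * y * x⁻¹ * y⁻¹ = 1 ∨ x * y * x⁻¹ * y⁻¹ = a') : Commute x y := by
  rcases h with h | h
  · exact mul_inv_eq_iff_eq_mul.1 (mul_inv_eq_one.1 h)
  exfalso
  obtain ⟨o, ho, hx2⟩ := S.two_part_invol (x := x)
  obtain ⟨o', ho', hy2⟩ := S.two_part_invol (x := y)
  have hxy : x * y * x⁻¹ = a' * y := by rw [← h]; group
  have odd_pow : ∀ {k : ℕ}, Odd k → a' ^ k = a' := fun ⟨m, hm⟩ => by
    rw [hm, pow_succ, pow_mul, pow_two, ha2, one_pow, one_mul]
  have h1 : x * y ^ o' * x⁻¹ = a' * y ^ o' := by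
    rw [← conj_pow, hxy, (show Commute a' y from hya.symm).mul_pow, odd_pow ho']
  set v := y ^ o' with hv
  have hva : Commute v a' := hya.pow_left o'
  have hk : ∀ k : ℕ, x ^ k * v * (x ^ k)⁻¹ = a' ^ k * v := by
    intro k
    induction k with
    | zero => simp
    | succ k ih =>
      calc x ^ (k + 1) * v * (x ^ (k + 1))⁻¹ = x * (x ^ k * v * (x ^ k)⁻¹) * x⁻¹ := by rw [pow_succ']; group
        _ = x * a' ^ k * v * x⁻¹ := by rw [ih]; group
        _ = a' ^ k * (x * v * x⁻¹) := by rw [(hxa.pow_right k).eq]; group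
        _ = a' ^ (k + 1) * v := by rw [h1, pow_succ]; group
  have h2 := hk o
  rw [odd_pow ho, inv_eq_of_mul_eq_one_left hx2] at h2
  set u := x ^ o
  obtain ⟨g, hg⟩ := S.exists_conj_a ha ha2
  have hsq : u * v * (u * v) = a' := by
    calc u * v * (u * v) = u * v * u * v := by group
      _ = a' * v * v := by rw [h2]
      _ = a' := by rw [mul_assoc, hy2, mul_one]
  refine S.sq_ne_a (g := g⁻¹ * (u * v) * g) (S.mem_Ca.2 ?_) ?_
  · show g⁻¹ * (u * v) * g * S.a = S.a * (g⁻¹ * (u * v) * g)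
    calc g⁻¹ * (u * v) * g * S.a = g⁻¹ * (u * v * (g * S.a * g⁻¹)) * g := by group
      _ = g⁻¹ * (g * S.a * g⁻¹ * (u * v)) * g := by rw [hg, ((hxa.pow_left o).mul_left hva).eq]
      _ = _ := by group
  · calc g⁻¹ * (u * v) * g * (g⁻¹ * (u * v) * g) = g⁻¹ * (u * v * (u * v)) * g := by group
      _ = g⁻¹ * (g * S.a * g⁻¹) * g := by rw [hsq, hg]
      _ = S.a := by group

theorem card_sylow_three (P : Subgroup G) (h : Nat.card ↥P = q ^ 3) : ∃ Q : Sylow 3 G, P = Q := by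
  have : Fact (Nat.Prime 3) := ⟨Nat.prime_three⟩
  obtain ⟨n, hn⟩ : ∃ n, q ^ 3 = 3 ^ n := ⟨(2 * S.m + 1) * 3, by rw [S.card_K, ← pow_mul]⟩
  have hq := S.q_ge
  have hfac : (Nat.card G).factorization 3 = n := by
    refine le_antisymm ?_ ((Nat.prime_three.pow_dvd_iff_le_factorization Nat.card_pos.ne').1
      (hn ▸ h ▸ Subgroup.card_subgroup_dvd_card P))
    have h1 : ¬ 3 ∣ q - 1 := fun h3 => by
      have := Nat.eq_one_of_dvd_coprimes (coprime_self_pred (k := q) (by omega)) S.three_dvd h3; omega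
    have h2 : ¬ 3 ∣ q ^ 3 + 1 := fun h3 => by
      have := (Nat.dvd_add_right (dvd_pow S.three_dvd (by norm_num : (3 : ℕ) ≠ 0))).1 h3; omega
    have hd := Nat.ordProj_dvd (Nat.card G) 3
    rw [S.card_G] at hd ⊢
    have h3 : 3 ^ (q ^ 3 * (q - 1) * (q ^ 3 + 1)).factorization 3 ∣ q ^ 3 :=
      ((Nat.prime_three.coprime_iff_not_dvd.2 h1).pow_left _).dvd_of_dvd_mul_right
        (((Nat.prime_three.coprime_iff_not_dvd.2 h2).pow_left _).dvd_of_dvd_mul_right hd)
    rw [hn] at h3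
    exact (Nat.pow_dvd_pow_iff_le_right (by norm_num : 1 < 3)).1 (hn ▸ h3)
  exact ⟨Sylow.ofCard P (by rw [h, hn, hfac]), rfl⟩

theorem card_sylow_two (P : Subgroup G) (h : Nat.card ↥P = 8) : ∃ Q : Sylow 2 G, P = Q := by
  have : Fact (Nat.Prime 2) := ⟨Nat.prime_two⟩
  exact ⟨Sylow.ofCard P (by rw [h, S.fac_two.1]; norm_num), rfl⟩

/-- The conclusion. -/
def Conclusion (X : Subgroup G) : Prop :=
  ∃ A : Subgroup G, X ≤ normalizer (A : Set G) ∧
    ((∃ P : Sylow 2 G, A = P) ∨ (∃ P : Sylow 3 G, A = P) ∨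
      (IsCyclic A ∧ (Nat.card A = (q - 1) / 2 ∨ Nat.card A = (q + 1) / 4 ∨
        Nat.card A = q - S.rt + 1 ∨ Nat.card A = q + S.rt + 1)))

theorem conj_normalizer_map {T : Subgroup G} {g s : G} (h : g * s * g⁻¹ ∈ normalizer (T : Set G)) :
    s ∈ normalizer ((T.map (MulAut.conj g⁻¹).toMonoidHom) : Set G) := mem_normalizer_of_conj fun w hw => by
  obtain ⟨t, ht, rfl⟩ := hw
  refine ⟨g * s * g⁻¹ * t * (g * s * g⁻¹)⁻¹, (Subgroup.mem_normalizer_iff.1 h t).1 ht, ?_⟩
  show g⁻¹ * (g * s * g⁻¹ * t * (g * s * g⁻¹)⁻¹) * g⁻¹⁻¹ = s * (g⁻¹ * t * g⁻¹⁻¹) * s⁻¹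
  group

/-- A solvable subgroup with an abelian normal subgroup containing an element of odd order, or of order at least four. -/
theorem conclusion_of_abelian {X F : Subgroup G} (hn : ∀ s ∈ X, ∀ f ∈ F, s * f * s⁻¹ ∈ F)
    (hc : ∀ x ∈ F, ∀ y ∈ F, Commute x y) (hF : (∃ z ∈ F, z * z ≠ 1) ∨ 2 < Nat.card ↥F) : S.Conclusion X := by
  classical
  have hq := S.q_ge
  by_cases hodd : ∃ z ∈ F, z * z ≠ 1
  · obtain ⟨z, hzF, hz⟩ := hodd
    obtain ⟨r, hr, hrz, hr2⟩ : ∃ r, r.Prime ∧ r ∣ orderOf z ∧ r ≠ 2 := by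
      by_contra hc'
      push Not at hc'
      obtain ⟨k, hk⟩ : ∃ k, orderOf z = 2 ^ k := ⟨_, Nat.eq_prime_pow_of_unique_prime_dvd (orderOf_pos z).ne'
        fun {d} hd hdz => hc' d hd hdz⟩
      exact hz (S.two_elem_sq hk.dvd)
    set w := z ^ (orderOf z / r)
    have how : orderOf w = r := orderOf_pow_orderOf_div (orderOf_pos z).ne' hrz
    have hwF : w ∈ F := pow_mem hzF _
    have hw1 : w ≠ 1 := fun h => hr.one_lt.ne' (by rw [← how, h, orderOf_one])
    have hcw : ∀ s ∈ X, s * w * s⁻¹ ∈ centralizer ({w} : Set G) := fun s hs =>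
      mem_centralizer_singleton_iff.2 (hc _ (hn s hs w hwF) w hwF).eq
    have hne : ∀ g : G, g * w * g⁻¹ ≠ 1 := fun g e => hw1 (conj_eq_one_iff.1 e)
    have hmove : ∀ g s : G, g * (s * w * s⁻¹) * g⁻¹ = (g * s * g⁻¹) * (g * w * g⁻¹) * (g * s * g⁻¹)⁻¹ := fun g s => by group
    have hconj : ∀ (g : G), ∀ s ∈ X, g * s * g⁻¹ * (g * w * g⁻¹) * (g * s * g⁻¹)⁻¹ ∈ centralizer ({g * w * g⁻¹} : Set G) :=
      fun g s hs => hmove g s ▸ mem_centralizer_conj (hcw s hs)
    have hd : r ∣ q * (q - 1) * (q + 1) * q ^ 2 * (q ^ 2 - q + 1) :=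
      S.card_G' ▸ hrz.trans (orderOf_dvd_natCard z)
    rcases hr.dvd_mul.1 hd with h | h
    swap
    · obtain ⟨T, hT, hwT⟩ := S.mem_big hr h (z := w) (by rw [how])
      refine ⟨T, fun s hs => ?_, Or.inr (Or.inr ⟨S.big_cyclic hT, ?_⟩)⟩
      · refine S.big_conj_mem hT hwT hw1 ?_
        rw [← S.big_centralizer hT hwT hw1]; exact hcw s hs
      · exact Or.inr (Or.inr (S.big_order_cases hT))
    have h' : r ∣ q ∨ r ∣ q - 1 ∨ r ∣ q + 1 := by
      rcases hr.dvd_mul.1 h with h | h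
      · rcases hr.dvd_mul.1 h with h | h
        · rcases hr.dvd_mul.1 h with h | h
          exacts [Or.inl h, Or.inr (Or.inl h)]
        · exact Or.inr (Or.inr h)
      · exact Or.inl (hr.dvd_of_dvd_pow h)
    rcases h' with h' | h' | h'
    · obtain ⟨g, hg⟩ := S.exists_conj_U (x := w) (j := 1) (by rw [how, S.q_prime_dvd hr h', pow_one])
      obtain ⟨Q, hQ⟩ := S.card_sylow_three (S.U.map (MulAut.conj g⁻¹).toMonoidHom)
        (by rw [Subgroup.card_map_of_injective (MulAut.conj g⁻¹).injective, S.card_U])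
      refine ⟨_, fun s hs => S.conj_normalizer_map (mem_normalizer_of_conj fun u hu => S.U_conj _ ?_ u hu),
        Or.inr (Or.inl ⟨Q, hQ⟩)⟩
      exact S.mem_B_of_conj_U hg (hne g) (S.centralizer_U_le hg (hne g) (hconj g s hs))
    · obtain ⟨g, hg⟩ := S.exists_conj_H_prime hr hr2 h' (x := w) (j := 1) (by rw [how, pow_one])
      have hg2 : g * w * g⁻¹ * (g * w * g⁻¹) ≠ 1 := fun e => by
        have := orderOf_dvd_of_pow_eq_one (show (g * w * g⁻¹) ^ 2 = 1 by rw [pow_two, e])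
        rw [orderOf_conj', how] at this
        exact hr2 ((Nat.prime_dvd_prime_iff_eq hr Nat.prime_two).1 this)
      refine ⟨S.H2.map (MulAut.conj g⁻¹).toMonoidHom, fun s hs => S.conj_normalizer_map ?_,
        Or.inr (Or.inr ⟨isCyclic_map_conj S.isCyclic_H2 _,
          Or.inl (by rw [Subgroup.card_map_of_injective (MulAut.conj g⁻¹).injective, S.card_H2])⟩)⟩
      have hne2 : S.H2 ≠ ⊥ := fun e => by
        have := S.card_H2; rw [e, Subgroup.card_bot] at this; omega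
      rw [S.normalizer_le_H2 le_rfl hne2]
      exact S.conj_mem_normalizer hg hg2 (S.centralizer_H hg hg2 ▸ hconj g s hs)
    · have hrl : r ∣ (q + 1) / 4 := by
        refine (Nat.Coprime.dvd_of_dvd_mul_left ?_ (S.quarter_facts.2.1 ▸ h'))
        exact hr.coprime_iff_not_dvd.2 fun h4 => hr2 ((Nat.prime_dvd_prime_iff_eq hr Nat.prime_two).1
          (hr.dvd_of_dvd_pow (show r ∣ 2 ^ 2 from h4)))
      obtain ⟨g, hg⟩ := S.exists_conj_W (x := w) (by rwa [how])
      refine ⟨S.W.map (MulAut.conj g⁻¹).toMonoidHom, fun s hs => S.conj_normalizer_map ?_,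
        Or.inr (Or.inr ⟨isCyclic_map_conj S.isCyclic_W _,
          Or.inr (Or.inl (by rw [Subgroup.card_map_of_injective (MulAut.conj g⁻¹).injective, S.card_W]))⟩)⟩
      have hw' : g * s * g⁻¹ * (g * w * g⁻¹) * (g * s * g⁻¹)⁻¹ ∈ S.A := S.centralizer_y hg (hne g) ▸ hconj g s hs
      refine mem_normalizer_of_conj fun y hy => S.A_odd ?_ (by rw [orderOf_conj']; exact (S.W_coprime hy).1)
      rw [← S.centralizer_y (S.A_odd hw' (by rw [orderOf_conj']; exact (S.W_coprime hg).1))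
        fun e => hne g (conj_eq_one_iff.1 e)]
      exact mem_centralizer_conj (by rw [S.centralizer_y hg (hne g)]; exact S.W_le_A hy)
  · push Not at hodd
    have h2F : 2 < Nat.card ↥F := hF.resolve_left fun ⟨z, hz, h⟩ => h (hodd z hz)
    have : Fact (Nat.Prime 2) := ⟨Nat.prime_two⟩
    obtain ⟨k, hk⟩ := IsPGroup.iff_card.1 (show IsPGroup 2 ↥F from fun z => ⟨1, Subtype.ext (by
      rw [pow_one, pow_two]; exact hodd z z.2)⟩)
    have hk2 : 2 ≤ k := by
      by_contra hlt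
      interval_cases k <;> omega
    have hk3 : k ≤ 3 := by
      by_contra hlt
      exact S.not_sixteen_dvd F (hk ▸ (show 2 ^ 4 ∣ 2 ^ k from pow_dvd_pow 2 (by omega)))
    interval_cases k
    · obtain ⟨⟨u, huF⟩, hu1⟩ := (Subgroup.ne_bot_iff_exists_ne_one (H := F)).mp fun e => by
        rw [e, Subgroup.card_bot] at hk; omega
      have hu1' : u ≠ 1 := fun e => hu1 (Subtype.ext e)
      obtain ⟨v, hvF, hv1, huv⟩ : ∃ v ∈ F, v ≠ 1 ∧ u ≠ v := by
        by_contra hcon
        push Not at hcon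
        have hsub : (F : Set G) ⊆ {1, u} := fun x hx => by
          by_cases e : x = 1
          · exact Or.inl e
          · exact Or.inr (hcon x hx e).symm
        have h := Set.ncard_le_ncard hsub (Set.toFinite _)
        rw [Set.ncard_pair (Ne.symm hu1'), ← Nat.card_coe_set_eq] at h
        have : Nat.card ↥(F : Set G) = Nat.card ↥F := rfl
        omega
      obtain ⟨g, hg⟩ := S.exists_conj_E (hodd u huF) (hodd v hvF) (hc u huF v hvF) hu1' hv1 huv
      have hFle : fourGrp (hodd u huF) (hodd v hvF) (hc u huF v hvF) = F := by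
        refine eq_of_le_of_card_ge ?_ (le_of_eq (by rw [hk, card_fourGrp _ _ _ hu1' hv1 huv]; norm_num))
        rintro x (rfl | rfl | rfl | rfl)
        exacts [one_mem _, huF, hvF, mul_mem huF hvF]
      rw [hFle] at hg
      refine ⟨S.W.map (MulAut.conj g⁻¹).toMonoidHom, fun s hs => S.conj_normalizer_map ?_,
        Or.inr (Or.inr ⟨isCyclic_map_conj S.isCyclic_W _,
          Or.inr (Or.inl (by rw [Subgroup.card_map_of_injective (MulAut.conj g⁻¹).injective, S.card_W]))⟩)⟩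
      rw [S.normalizer_W]
      have himg : F.map (MulAut.conj g).toMonoidHom = S.E := by
        refine eq_of_le_of_card_ge (by rintro _ ⟨x, hx, rfl⟩; exact hg x hx) ?_
        rw [Subgroup.card_map_of_injective (MulAut.conj g).injective, hk, S.card_E]; norm_num
      refine mem_normalizer_of_conj fun e he => ?_
      rw [← himg] at he
      obtain ⟨x, hx, rfl⟩ := he
      show g * s * g⁻¹ * (g * x * g⁻¹) * (g * s * g⁻¹)⁻¹ ∈ S.E
      rw [show g * s * g⁻¹ * (g * x * g⁻¹) * (g * s * g⁻¹)⁻¹ = g * (s * x * s⁻¹) * g⁻¹ by group]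
      exact hg _ (hn s hs x hx)
    · obtain ⟨Q, hQ⟩ := S.card_sylow_two F (by rw [hk]; norm_num)
      exact ⟨F, fun s hs => mem_normalizer_of_conj (hn s hs), Or.inl ⟨Q, hQ⟩⟩

/-- Solvable subgroups. -/
theorem solvable (X : Subgroup G) (hX : Group.IsSolvable X) : S.Conclusion X := by
  classical
  have : Fact (Nat.Prime 2) := ⟨Nat.prime_two⟩
  have small : ∀ Y : Subgroup G, IsPGroup 2 ↥Y → X ≤ Y → S.Conclusion X := by
    intro Y hY hle
    obtain ⟨P, hP⟩ := hY.exists_le_sylow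
    exact ⟨P, (hle.trans hP).trans Subgroup.le_normalizer, Or.inl ⟨P, rfl⟩⟩
  by_cases h0 : X ≤ ⊥
  · exact small ⊥ (IsPGroup.of_bot) h0
  obtain ⟨D, hDX, hD, hn, hcomm⟩ := exists_normal_comm hX h0
  have hc : ∀ x ∈ D, ∀ y ∈ D, Commute x y := fun x hx y hy =>
    mul_inv_eq_iff_eq_mul.1 (mul_inv_eq_one.1 (Subgroup.mem_bot.1 (hcomm x hx y hy)))
  by_cases hbig : (∃ z ∈ D, z * z ≠ 1) ∨ 2 < Nat.card ↥D
  · exact S.conclusion_of_abelian hn hc hbig
  push Not at hbig
  obtain ⟨hinv, hle2⟩ := hbig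
  obtain ⟨a', ha'D, ha'⟩ : ∃ a' ∈ D, a' ≠ 1 := by
    by_contra hc'
    push Not at hc'
    exact hD fun x hx => Subgroup.mem_bot.2 (hc' x hx)
  have hD2 : ∀ x ∈ D, x = 1 ∨ x = a' := by
    intro x hx
    by_contra hno
    push Not at hno
    have hsub : ({1, a', x} : Set G) ⊆ (D : Set G) := by
      rintro y (rfl | rfl | rfl)
      exacts [one_mem _, ha'D, hx]
    have h := Set.ncard_le_ncard hsub (Set.toFinite _)
    rw [Set.ncard_insert_of_notMem (by simp [Ne.symm ha', Ne.symm hno.1]),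
      Set.ncard_pair (Ne.symm hno.2), ← Nat.card_coe_set_eq] at h
    have : Nat.card ↥(D : Set G) = Nat.card ↥D := rfl
    omega
  have hcent : ∀ s ∈ X, Commute s a' := fun s hs => by
    rcases hD2 _ (hn s hs a' ha'D) with e | e
    · exact absurd (conj_eq_one_iff.1 e) ha'
    · exact mul_inv_eq_iff_eq_mul.1 e
  by_cases h1 : X ≤ D
  · exact small D (IsPGroup.of_card (n := 1) (by
      refine le_antisymm (by simpa using hle2) ?_
      have h := Nat.le_of_dvd Nat.card_pos (Subgroup.orderOf_dvd_natCard _ ha'D)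
      rw [orderOf_eq_prime (by rw [pow_two, hinv a' ha'D]) ha'] at h
      simpa using h)) h1
  obtain ⟨D', hDX', hD', hn', hcomm'⟩ := exists_normal_comm hX h1
  have hc' : ∀ x ∈ D', ∀ y ∈ D', Commute x y := fun x hx y hy =>
    S.comm_of_commutator ha' (hinv a' ha'D) (hcent x (hDX' hx)) (hcent y (hDX' hy)) (hD2 _ (hcomm' x hx y hy))
  let F : Subgroup G :=
    { carrier := {f | ∃ x ∈ D', ∃ e ∈ D, f = x * e}
      one_mem' := ⟨1, one_mem _, 1, one_mem _, (one_mul 1).symm⟩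
      mul_mem' := by
        rintro _ _ ⟨x, hx, e, he, rfl⟩ ⟨y, hy, f, hf, rfl⟩
        refine ⟨x * y, mul_mem hx hy, e * f, mul_mem he hf, ?_⟩
        have : Commute e y := by
          rcases hD2 e he with rfl | rfl
          exacts [Commute.one_left y, (hcent y (hDX' hy)).symm]
        rw [mul_assoc x e, ← mul_assoc e y, this.eq]; group
      inv_mem' := by
        rintro _ ⟨x, hx, e, he, rfl⟩
        refine ⟨x⁻¹, inv_mem hx, e⁻¹, inv_mem he, ?_⟩
        have : Commute e x := by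
          rcases hD2 e he with rfl | rfl
          exacts [Commute.one_left x, (hcent x (hDX' hx)).symm]
        rw [mul_inv_rev]; exact this.inv_inv.eq }
  refine S.conclusion_of_abelian (F := F) ?_ ?_ ?_
  · rintro s hs _ ⟨x, hx, e, he, rfl⟩
    exact ⟨s * x * s⁻¹, hn' s hs x hx, s * e * s⁻¹, hn s hs e he, by group⟩
  · rintro _ ⟨x, hx, e, he, rfl⟩ _ ⟨y, hy, f, hf, rfl⟩
    have hxe : ∀ {x e : G}, x ∈ D' → e ∈ D → Commute x e := by
      intro x e hx he
      rcases hD2 e he with rfl | rfl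
      exacts [Commute.one_right x, hcent x (hDX' hx)]
    exact ((hc' x hx y hy).mul_right (hxe hx hf)).mul_left ((hxe hy he).symm.mul_right (hc e he f hf))
  · right
    obtain ⟨x, hx, hxD⟩ := SetLike.not_le_iff_exists.1 hD'
    have hxn : x ≠ 1 ∧ x ≠ a' := ⟨fun e => hxD (e ▸ one_mem _), fun e => hxD (e ▸ ha'D)⟩
    have hsub : ({1, a', x} : Set G) ⊆ (F : Set G) := by
      rintro y (rfl | rfl | rfl)
      exacts [F.one_mem, ⟨1, one_mem _, _, ha'D, (one_mul _).symm⟩, ⟨_, hx, 1, one_mem _, (mul_one _).symm⟩]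
    have h := Set.ncard_le_ncard hsub (Set.toFinite _)
    rw [Set.ncard_insert_of_notMem (by simp [Ne.symm ha', Ne.symm hxn.1]), Set.ncard_pair (Ne.symm hxn.2),
      ← Nat.card_coe_set_eq] at h
    have : Nat.card ↥(F : Set G) = Nat.card ↥F := rfl
    omega

end Sys

end Cfsg.Agent.Lib.Ree.Tori
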