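import Cfsg.Agent.Lib.Ree.Tori.Classes

/-!
Hall subgroups, element orders, their numbers, conjugacy and centralisers of the cyclic tori.
-/

set_option autoImplicit false

namespace Cfsg.Agent.Lib.Ree.Tori

open Subgroup
open scoped Pointwise

variable {G : Type*} [Group G] [Finite G] {K : Type*} [Field K] [Fintype K]

local notation "q" => Fintype.card K

theorem isCyclic_map_conj {T : Subgroup G} (h : IsCyclic ↥T) (g : G) :
    IsCyclic ↥(T.map (MulAut.conj g).toMonoidHom) :=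
  (T.equivMapOfInjective _ (MulAut.conj g).injective).isCyclic.1 h

theorem ncard_orderOf {T : Subgroup G} (h : IsCyclic ↥T) {i : ℕ} (hi : i ∣ Nat.card ↥T) :
    {y | y ∈ T ∧ orderOf y = i}.ncard = Nat.totient i := by
  classical
  have := Fintype.ofFinite ↥T
  rw [← IsCyclic.card_orderOf_eq_totient (α := ↥T) (by rwa [← Nat.card_eq_fintype_card]),
    ← Nat.card_coe_set_eq, ← Fintype.card_subtype, ← Nat.card_eq_fintype_card]
  exact Nat.card_congr
    { toFun := fun y => ⟨⟨y.1, y.2.1⟩, by rw [Subgroup.orderOf_mk]; exact y.2.2⟩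
      invFun := fun y => ⟨(y.1 : G), y.1.2, by rw [Subgroup.orderOf_coe]; exact y.2⟩
      left_inv := fun y => rfl
      right_inv := fun y => rfl }

/-- Subgroups of equal order in a cyclic subgroup agree. -/
theorem eq_of_card_eq {T A B : Subgroup G} (h : IsCyclic ↥T) (hA : A ≤ T) (hB : B ≤ T)
    (hc : Nat.card ↥A = Nat.card ↥B) : A = B := by
  classical
  have := Fintype.ofFinite ↥T
  have key : ∀ X : Subgroup G, X ≤ T → (X : Set G) = {t | t ∈ T ∧ t ^ Nat.card ↥X = 1} := by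
    intro X hX
    refine Set.eq_of_subset_of_ncard_le (fun x hx => ⟨hX hx, ?_⟩) ?_ (Set.toFinite _)
    · exact orderOf_dvd_iff_pow_eq_one.1 (Subgroup.orderOf_dvd_natCard _ hx)
    · rw [← Nat.card_coe_set_eq, show (X : Set G).ncard = Nat.card ↥X from (Nat.card_coe_set_eq _).symm]
      refine le_trans (le_of_eq ?_) (IsCyclic.card_pow_eq_one_le (α := ↥T) (n := Nat.card ↥X) Nat.card_pos)
      rw [← Fintype.card_subtype, ← Nat.card_eq_fintype_card]
      exact Nat.card_congr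
        { toFun := fun y => ⟨⟨y.1, y.2.1⟩, Subtype.ext y.2.2⟩
          invFun := fun y => ⟨(y.1 : G), y.1.2, congrArg Subtype.val y.2⟩
          left_inv := fun y => rfl
          right_inv := fun y => rfl }
  exact SetLike.coe_injective (by rw [key A hA, key B hB, hc])

theorem exists_orderOf {g : G} {d : ℕ} (h : d ∣ orderOf g) : ∃ x : G, orderOf x = d :=
  ⟨_, orderOf_pow_orderOf_div (orderOf_pos g).ne' h⟩

theorem exists_orderOf_of_cyclic {T : Subgroup G} (h : IsCyclic ↥T) {d : ℕ} (hd : d ∣ Nat.card ↥T) :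
    ∃ x : G, orderOf x = d := by
  obtain ⟨g, hg⟩ := IsCyclic.exists_generator (α := ↥T)
  refine exists_orderOf (g := (g : G)) ?_
  rwa [Subgroup.orderOf_coe, orderOf_eq_card_of_forall_mem_zpowers hg]

namespace Sys

variable (S : Sys G K)
include S

/-- The subgroup of odd order of `H`. -/
noncomputable def H2 : Subgroup G := zpowers (((S.cyc.exists_generator).choose : G) ^ 2)

theorem H2_le : S.H2 ≤ S.H := zpowers_le.2 (pow_mem (SetLike.coe_mem _) 2)

theorem isCyclic_H2 : IsCyclic ↥S.H2 := by unfold H2; infer_instance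

theorem card_H2 : Nat.card ↥S.H2 = (q - 1) / 2 := by
  unfold H2
  rw [Nat.card_zpowers, orderOf_pow' _ (by norm_num : (2 : ℕ) ≠ 0), Subgroup.orderOf_coe,
    orderOf_eq_card_of_forall_mem_zpowers S.cyc.exists_generator.choose_spec, S.card_H]
  obtain ⟨k, hk, e⟩ := S.sub_one_split
  rw [e, Nat.gcd_mul_right_left]

theorem odd_half : Odd ((q - 1) / 2) := by
  obtain ⟨k, hk, e⟩ := S.sub_one_split
  rwa [e, Nat.mul_div_cancel_left _ (by norm_num : 0 < 2)]

theorem H2_sq {h : G} (hh : h ∈ S.H2) (h1 : h ≠ 1) : h * h ≠ 1 := fun h2 => h1 (orderOf_eq_one_iff.1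
  (Nat.eq_one_of_dvd_coprimes (Nat.coprime_two_left.2 S.odd_half) (orderOf_dvd_of_pow_eq_one (by rw [pow_two, h2]))
    (S.card_H2 ▸ Subgroup.orderOf_dvd_natCard _ hh)))

theorem normalizer_le_H2 {A₀ : Subgroup G} (hle : A₀ ≤ S.H2) (hne : A₀ ≠ ⊥) :
    normalizer (A₀ : Set G) = normalizer (S.H : Set G) := by
  obtain ⟨⟨y, hy⟩, hy1⟩ := (Subgroup.ne_bot_iff_exists_ne_one).mp hne
  have := S.cyc
  refine le_antisymm (fun g hg => ?_) fun g hg => mem_normalizer_of_conj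
    (conj_mem_of_cyclic (S := S) (fun w hw => (Subgroup.mem_normalizer_iff.1 hg w).1 hw) (hle.trans S.H2_le))
  exact S.conj_mem_normalizer (S.H2_le (hle hy)) (S.H2_sq (hle hy) fun e => hy1 (Subtype.ext e))
    (S.H2_le (hle ((Subgroup.mem_normalizer_iff.1 hg y).1 hy)))

/-- The four families of cyclic Hall subgroups. -/
theorem hall_subgroups {kn : ℕ × ℕ} (h : kn ∈ ({((q - 1) / 2, 2 * (q - 1)), ((q + 1) / 4, 6 * (q + 1)),
    (q - S.rt + 1, 6 * (q - S.rt + 1)), (q + S.rt + 1, 6 * (q + S.rt + 1))} : Set (ℕ × ℕ))) :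
    ∃ A : Subgroup G, IsCyclic A ∧ Nat.card A = kn.1 ∧ Nat.card (normalizer (A : Set G)) = kn.2 ∧
      ∀ A₀ : Subgroup G, A₀ ≤ A → A₀ ≠ ⊥ → normalizer (A₀ : Set G) = normalizer (A : Set G) := by
  obtain ⟨T₁, T₂, h₁, h₂, e₁, e₂, -, n₁, n₂⟩ := S.exists_two
  rcases h with rfl | rfl | rfl | rfl
  · have hne : S.H2 ≠ ⊥ := fun e => by
      have := S.card_H2; rw [e, Subgroup.card_bot] at this; have := S.q_ge; omega
    have hN := S.normalizer_le_H2 le_rfl hne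
    exact ⟨S.H2, S.isCyclic_H2, S.card_H2, hN ▸ S.card_normalizer_H, fun A₀ hle h0 =>
      (S.normalizer_le_H2 hle h0).trans hN.symm⟩
  · exact ⟨S.W, S.isCyclic_W, S.card_W, S.card_normalizer_W, fun A₀ => S.normalizer_le_W⟩
  · exact ⟨T₁, S.big_cyclic h₁, e₁, by rw [n₁, e₁], fun A₀ => S.big_normalizer_le h₁⟩
  · exact ⟨T₂, S.big_cyclic h₂, e₂, by rw [n₂, e₂], fun A₀ => S.big_normalizer_le h₂⟩

theorem dvd_big_of_torus {T : Subgroup G} (hT : S.IsBig T) {T₁ T₂ : Subgroup G} (h₁ : S.IsBig T₁) (h₂ : S.IsBig T₂)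
    (hprod : Nat.card ↥T₁ * Nat.card ↥T₂ = q ^ 2 - q + 1) :
    Nat.card ↥T = Nat.card ↥T₁ ∨ Nat.card ↥T = Nat.card ↥T₂ := by
  obtain ⟨r, hr, hrT⟩ := Nat.exists_prime_and_dvd (show Nat.card ↥T ≠ 1 by have := S.big_one_lt hT; omega)
  rcases hr.dvd_mul.1 (hprod ▸ hrT.trans (S.big_dvd hT)) with h | h
  · obtain ⟨g, rfl⟩ := S.big_conj_of_prime h₁ hT hr h hrT
    exact Or.inl (Subgroup.card_map_of_injective (MulAut.conj g).injective)
  · obtain ⟨g, rfl⟩ := S.big_conj_of_prime h₂ hT hr h hrT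
    exact Or.inr (Subgroup.card_map_of_injective (MulAut.conj g).injective)

theorem big_order_cases {T : Subgroup G} (hT : S.IsBig T) :
    Nat.card ↥T = q - S.rt + 1 ∨ Nat.card ↥T = q + S.rt + 1 := by
  obtain ⟨T₁, T₂, h₁, h₂, e₁, e₂, hp, -, -⟩ := S.exists_two
  rw [← e₁, ← e₂]
  exact S.dvd_big_of_torus hT h₁ h₂ hp

/-- The kinds of nontrivial elements. -/
theorem kinds {x : G} (hx1 : x ≠ 1) : orderOf x = 2 ∨ 3 ∣ orderOf x ∨ x ∈ conjs S.YH ∨ x ∈ conjs S.YA ∨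
    ∃ T, S.IsBig T ∧ x ∈ T := by
  by_cases h2 : ∃ r, r.Prime ∧ r ∣ orderOf x ∧ r ≠ 2
  · obtain ⟨r, hr, hrx, hr2⟩ := h2
    have hd : r ∣ q * (q - 1) * (q + 1) * q ^ 2 * (q ^ 2 - q + 1) :=
      S.card_G' ▸ hrx.trans (orderOf_dvd_natCard x)
    rcases hr.dvd_mul.1 hd with h | h
    swap
    · exact Or.inr (Or.inr (Or.inr (Or.inr (S.mem_big hr h hrx))))
    have h' : r ∣ q ∨ r ∣ q - 1 ∨ r ∣ q + 1 := by
      rcases hr.dvd_mul.1 h with h | h
      · rcases hr.dvd_mul.1 h with h | h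
        · rcases hr.dvd_mul.1 h with h | h
          exacts [Or.inl h, Or.inr (Or.inl h)]
        · exact Or.inr (Or.inr h)
      · exact Or.inl (hr.dvd_of_dvd_pow h)
    rcases h' with h' | h' | h'
    · exact Or.inr (Or.inl (S.q_prime_dvd hr h' ▸ hrx))
    · exact Or.inr (Or.inr (Or.inl (S.mem_conjs_YH hr hr2 h' hrx)))
    · refine Or.inr (Or.inr (Or.inr (Or.inl (S.mem_conjs_YA hr ?_ hrx))))
      refine (Nat.Coprime.dvd_of_dvd_mul_left ?_ (S.quarter_facts.2.1 ▸ h'))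
      exact hr.coprime_iff_not_dvd.2 fun h4 => hr2 ((Nat.prime_dvd_prime_iff_eq hr Nat.prime_two).1
        (hr.dvd_of_dvd_pow (show r ∣ 2 ^ 2 from h4)))
  · push Not at h2
    obtain ⟨k, hk⟩ : ∃ k, orderOf x = 2 ^ k := ⟨_, Nat.eq_prime_pow_of_unique_prime_dvd (orderOf_pos x).ne'
      fun {d} hd hdx => h2 d hd hdx⟩
    exact Or.inl (orderOf_eq_prime (by rw [pow_two]; exact S.two_elem_sq hk.dvd) hx1)

/-- The element orders. -/
theorem orders (d : ℕ) : (∃ g : G, orderOf g = d) ↔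
    (d ∣ 6 ∨ d ∣ 9 ∨ d ∣ q - 1 ∨ d ∣ (q + 1) / 2 ∨ d ∣ q - S.rt + 1 ∨ d ∣ q + S.rt + 1) := by
  constructor
  · rintro ⟨x, rfl⟩
    by_cases hx1 : x = 1
    · exact Or.inl (by rw [hx1, orderOf_one]; norm_num)
    rcases S.kinds hx1 with h | h | h | h | ⟨T, hT, hxT⟩
    · exact Or.inl (by rw [h]; norm_num)
    · obtain ⟨g, y, ⟨hy, hy3⟩, rfl⟩ := S.mem_conjs_YB.2 h
      rw [orderOf_conj']
      rcases S.order_three_B hy hy3 with e | e | e <;> rw [e]
      exacts [Or.inl (by norm_num), Or.inl (by norm_num), Or.inr (Or.inl (by norm_num))]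
    · exact Or.inr (Or.inr (Or.inl (orderOf_of_mem_conjs (P := fun k => k ∣ q - 1) (fun y hy => (S.YH_order hy).1) h)))
    · exact Or.inr (Or.inr (Or.inr (Or.inl
        (orderOf_of_mem_conjs (P := fun k => k ∣ (q + 1) / 2) (fun y hy => (S.YA_order hy).1) h))))
    · refine Or.inr (Or.inr (Or.inr (Or.inr ?_)))
      rcases S.big_order_cases hT with e | e <;> rw [← e]
      exacts [Or.inl (Subgroup.orderOf_dvd_natCard _ hxT), Or.inr (Subgroup.orderOf_dvd_natCard _ hxT)]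
  · rintro (h | h | h | h | h | h)
    · obtain ⟨u, hu, hu1⟩ : ∃ u ∈ S.CU, u ≠ 1 := by
        by_contra hc
        push Not at hc
        have : Nat.card ↥S.CU = q := S.card_CU
        rw [(Subgroup.eq_bot_iff_forall S.CU).2 hc, Subgroup.card_bot] at this
        have := S.q_ge
        omega
      have hc : Commute S.a u := (S.mem_Ca.1 hu.2).symm
      have : Fact (Nat.Prime 3) := ⟨Nat.prime_three⟩
      have o3 : orderOf u = 3 := orderOf_eq_prime (S.cube_CU u hu.1 hc) hu1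
      refine exists_orderOf (g := S.a * u) ?_
      rwa [hc.orderOf_mul_eq_mul_orderOf_of_coprime (by rw [S.orderOf_a, o3]; norm_num), S.orderOf_a, o3]
    · obtain ⟨u, hu, hu3⟩ := S.exists_nine
      have : Fact (Nat.Prime 3) := ⟨Nat.prime_three⟩
      refine exists_orderOf (g := u) ?_
      rwa [orderOf_eq_prime_pow (p := 3) (n := 1) (by simpa using hu3) (by simpa using S.nine u hu)]
    · exact exists_orderOf_of_cyclic S.cyc (S.card_H ▸ h)
    · obtain ⟨g, hg⟩ := S.isCyclic_W.exists_generator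
      have hc : Commute S.a (g : G) := S.E_commute_D (Or.inr (Or.inl rfl)) (S.W_le g.2)
      have og : orderOf (g : G) = (q + 1) / 4 := by
        rw [Subgroup.orderOf_coe, orderOf_eq_card_of_forall_mem_zpowers hg, S.card_W]
      refine exists_orderOf (g := S.a * g) ?_
      rw [hc.orderOf_mul_eq_mul_orderOf_of_coprime (by rw [S.orderOf_a, og]; exact Nat.coprime_two_left.2 S.quarter_facts.1),
        S.orderOf_a, og]
      rwa [show 2 * ((q + 1) / 4) = (q + 1) / 2 by have := S.quarter_facts.2.1; omega]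
    · obtain ⟨T₁, T₂, h₁, h₂, e₁, -, -, -, -⟩ := S.exists_two
      exact exists_orderOf_of_cyclic (S.big_cyclic h₁) (e₁ ▸ h)
    · obtain ⟨T₁, T₂, h₁, h₂, -, e₂, -, -, -⟩ := S.exists_two
      exact exists_orderOf_of_cyclic (S.big_cyclic h₂) (e₂ ▸ h)

theorem exists_prime_ne_two {i : ℕ} (hi : i ∣ q - 1) (h2 : 2 < i) : ∃ r, r.Prime ∧ r ∣ i ∧ r ≠ 2 := by
  by_contra hc
  push Not at hc
  obtain ⟨k, hk⟩ : ∃ k, i = 2 ^ k := ⟨_, Nat.eq_prime_pow_of_unique_prime_dvd (by omega) fun {d} hd hdi => hc d hd hdi⟩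
  have : 2 ^ 2 ∣ i := hk ▸ pow_dvd_pow 2 (by
    by_contra hlt
    interval_cases k <;> omega)
  have := this.trans hi
  have := S.q_mod_eight
  omega

theorem cube_set : {b | b ∈ S.B ∧ orderOf b = 3} = {u | u ∈ S.U ∧ u ^ 3 = 1} \ {1} := by
  have : Fact (Nat.Prime 3) := ⟨Nat.prime_three⟩
  ext b
  constructor
  · rintro ⟨hb, h⟩
    exact ⟨⟨S.mem_U_of_three hb (j := 1) (by rw [h, pow_one]), h ▸ pow_orderOf_eq_one b⟩, fun e => by
      rw [Set.mem_singleton_iff] at e; rw [e, orderOf_one] at h; norm_num at h⟩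
  · rintro ⟨⟨hb, h⟩, h1⟩
    exact ⟨S.U_le hb, orderOf_eq_prime h h1⟩

theorem nine_set : {b | b ∈ S.B ∧ orderOf b = 9} = (S.U : Set G) \ {u | u ∈ S.U ∧ u ^ 3 = 1} := by
  have : Fact (Nat.Prime 3) := ⟨Nat.prime_three⟩
  ext b
  constructor
  · rintro ⟨hb, h⟩
    refine ⟨S.mem_U_of_three hb (j := 2) (by rw [h]; norm_num), fun e => ?_⟩
    have := orderOf_dvd_of_pow_eq_one e.2
    rw [h] at this
    norm_num at this
  · rintro ⟨hb, h⟩
    refine ⟨S.U_le hb, ?_⟩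
    exact orderOf_eq_prime_pow (p := 3) (n := 1) (by simpa using fun e => h ⟨hb, e⟩) (by simpa using S.nine b hb)

theorem conjs_B_order {d : ℕ} (hd : 3 ∣ d) : {g : G | orderOf g = d} = conjs {b | b ∈ S.B ∧ orderOf b = d} := by
  ext x
  refine ⟨fun hx => ?_, orderOf_of_mem_conjs (P := fun k => k = d) fun y hy => hy.2⟩
  obtain ⟨g, y, ⟨hy, -⟩, rfl⟩ := S.mem_conjs_YB.2 (show 3 ∣ orderOf x from hx.symm ▸ hd)
  exact ⟨g, y, ⟨hy, by rw [← orderOf_conj' g y]; exact hx⟩, rfl⟩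

theorem ncard_cube : {b | b ∈ S.B ∧ orderOf b = 3}.ncard = q ^ 2 - 1 := by
  rw [S.cube_set, Set.ncard_diff_singleton_of_mem (show (1 : G) ∈ {u | u ∈ S.U ∧ u ^ 3 = 1} from ⟨one_mem _, one_pow 3⟩),
    ← Nat.card_coe_set_eq]
  exact congrArg (· - 1) S.card_cube

theorem ncard_nine : {b | b ∈ S.B ∧ orderOf b = 9}.ncard = q ^ 3 - q ^ 2 := by
  rw [S.nine_set, Set.ncard_diff (fun u hu => hu.1), ← Nat.card_coe_set_eq, ← Nat.card_coe_set_eq]
  exact congrArg₂ (· - ·) S.card_U S.card_cube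

theorem ncard_six : {b | b ∈ S.B ∧ orderOf b = 6}.ncard = q ^ 3 - q ^ 2 := by
  have e : S.YB = {b | b ∈ S.B ∧ orderOf b = 3} ∪ {b | b ∈ S.B ∧ orderOf b = 6} ∪ {b | b ∈ S.B ∧ orderOf b = 9} := by
    ext b
    constructor
    · rintro ⟨hb, h⟩
      rcases S.order_three_B hb h with e | e | e
      exacts [Or.inl (Or.inl ⟨hb, e⟩), Or.inl (Or.inr ⟨hb, e⟩), Or.inr ⟨hb, e⟩]
    · rintro ((⟨hb, e⟩ | ⟨hb, e⟩) | ⟨hb, e⟩) <;> exact ⟨hb, e ▸ (by norm_num)⟩
  have d1 : Disjoint {b | b ∈ S.B ∧ orderOf b = 3} {b | b ∈ S.B ∧ orderOf b = 6} :=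
    Set.disjoint_left.2 fun x h h' => by have := h.2.symm.trans h'.2; omega
  have d2 : Disjoint ({b | b ∈ S.B ∧ orderOf b = 3} ∪ {b | b ∈ S.B ∧ orderOf b = 6}) {b | b ∈ S.B ∧ orderOf b = 9} :=
    Set.disjoint_left.2 fun x h h' => by
      rcases h with h | h <;> (have := h.2.symm.trans h'.2; omega)
  have h := S.ncard_YB
  rw [e, Set.ncard_union_eq d2, Set.ncard_union_eq d1, S.ncard_cube, S.ncard_nine] at h
  have h1 : q ^ 2 ≤ q ^ 3 := Nat.pow_le_pow_right Fintype.card_pos (by norm_num)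
  have h2 : 0 < q ^ 2 := pow_pos Fintype.card_pos 2
  omega

theorem count_three {d : ℕ} (hd : 3 ∣ d) :
    Nat.card {g : G // orderOf g = d} = (q ^ 3 + 1) * {b | b ∈ S.B ∧ orderOf b = d}.ncard := by
  rw [← S.card_conjs_YB _ (Or.inr ⟨d, hd, rfl⟩), ← S.conjs_B_order hd]
  exact Nat.card_coe_set_eq _

theorem count_H {i : ℕ} (h2 : 2 < i) (hi : i ∣ q - 1) :
    2 * Nat.card {g : G // orderOf g = i} = Nat.totient i * q ^ 3 * (q ^ 3 + 1) := by
  have hsub : {y | y ∈ S.H ∧ orderOf y = i} ⊆ S.YH := fun y hy => ⟨hy.1, fun e => by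
    have := Nat.le_of_dvd (by norm_num) (hy.2 ▸ orderOf_dvd_of_pow_eq_one (show y ^ 2 = 1 by rw [pow_two, e]))
    omega⟩
  have h := S.card_conjs_subset_YH _ hsub fun y hy z hz e => ⟨hz, e.trans hy.2⟩
  have e : {g : G | orderOf g = i} = conjs {y | y ∈ S.H ∧ orderOf y = i} := by
    ext x
    refine ⟨fun hx => ?_, orderOf_of_mem_conjs (P := fun k => k = i) fun y hy => hy.2⟩
    obtain ⟨r, hr, hri, hr2⟩ := S.exists_prime_ne_two hi h2
    obtain ⟨g, y, ⟨hy, -⟩, rfl⟩ := S.mem_conjs_YH hr hr2 (hri.trans hi) (show r ∣ orderOf x from hx.symm ▸ hri)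
    exact ⟨g, y, ⟨hy, by rw [← orderOf_conj' g y]; exact hx⟩, rfl⟩
  rw [ncard_orderOf S.cyc (S.card_H ▸ hi), ← e, S.card_G] at h
  rw [show Nat.card {g : G // orderOf g = i} = {g : G | orderOf g = i}.ncard from Nat.card_coe_set_eq _]
  refine Nat.eq_of_mul_eq_mul_right (m := q - 1) (by have := S.q_ge; omega) ?_
  linear_combination h

theorem W_order_odd {i : ℕ} (hi : i ∣ (q + 1) / 4) : {y | y ∈ S.A ∧ orderOf y = i} = {y | y ∈ S.W ∧ orderOf y = i} := by
  ext y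
  exact ⟨fun h => ⟨S.A_odd h.1 (h.2 ▸ S.quarter_facts.1.of_dvd_nat hi), h.2⟩, fun h => ⟨S.W_le_A h.1, h.2⟩⟩

theorem conjs_A_order {d i : ℕ} (h1 : 1 < i) (hi : i ∣ (q + 1) / 4) (hid : i ∣ d) :
    {g : G | orderOf g = d} = conjs {y | y ∈ S.A ∧ orderOf y = d} := by
  ext x
  refine ⟨fun hx => ?_, orderOf_of_mem_conjs (P := fun k => k = d) fun y hy => hy.2⟩
  obtain ⟨r, hr, hri⟩ := Nat.exists_prime_and_dvd (show i ≠ 1 by omega)
  obtain ⟨g, y, ⟨hy, -⟩, rfl⟩ := S.mem_conjs_YA hr (hri.trans hi) (show r ∣ orderOf x from hx.symm ▸ hri.trans hid)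
  exact ⟨g, y, ⟨hy, by rw [← orderOf_conj' g y]; exact hx⟩, rfl⟩

theorem sub_YA {d : ℕ} (hd : 2 < d) : {y | y ∈ S.A ∧ orderOf y = d} ⊆ S.YA := fun y hy => ⟨hy.1, fun e => by
  have := Nat.le_of_dvd (by norm_num) (hy.2 ▸ orderOf_dvd_of_pow_eq_one (show y ^ 2 = 1 by rw [pow_two, S.E_sq e]))
  omega⟩

theorem ncard_A_two {i : ℕ} (hi : i ∣ (q + 1) / 4) (h1 : 1 < i) :
    {y | y ∈ S.A ∧ orderOf y = 2 * i}.ncard = 3 * Nat.totient i := by
  rw [← ncard_orderOf S.isCyclic_W (S.card_W ▸ hi)]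
  have e : {y | y ∈ S.A ∧ orderOf y = 2 * i} =
      (fun p : G × G => p.1 * p.2) '' (((S.E : Set G) \ {1}) ×ˢ {y | y ∈ S.W ∧ orderOf y = i}) := by
    ext y
    constructor
    · rintro ⟨⟨e, he, w, hw, rfl⟩, ho⟩
      have hc := S.E_commute_D he (S.W_le hw)
      by_cases he1 : e = 1
      · subst he1
        rw [one_mul] at ho
        exact absurd (ho ▸ dvd_mul_right 2 i) (S.W_coprime hw).1.not_two_dvd_nat
      have oe : orderOf e = 2 := orderOf_eq_prime (by rw [pow_two, S.E_sq he]) he1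
      rw [hc.orderOf_mul_eq_mul_orderOf_of_coprime (by rw [oe]; exact Nat.coprime_two_left.2 (S.W_coprime hw).1), oe] at ho
      refine ⟨(e, w), ⟨⟨he, he1⟩, hw, ?_⟩, rfl⟩
      show orderOf w = i
      omega
    · rintro ⟨⟨e, w⟩, ⟨⟨he, he1⟩, hw, ho⟩, rfl⟩
      refine ⟨⟨e, he, w, hw, rfl⟩, ?_⟩
      have oe : orderOf e = 2 := orderOf_eq_prime (by rw [pow_two, S.E_sq he]) he1
      rw [(S.E_commute_D he (S.W_le hw)).orderOf_mul_eq_mul_orderOf_of_coprime
        (by rw [oe]; exact Nat.coprime_two_left.2 (S.W_coprime hw).1), oe, ho]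
  rw [e, Set.ncard_image_of_injOn, Set.ncard_prod, Set.ncard_diff_singleton_of_mem S.E.one_mem, ← Nat.card_coe_set_eq,
    show Nat.card ↥(S.E : Set G) = 4 from S.card_E]
  rintro ⟨e, w⟩ ⟨he, hw⟩ ⟨e', w'⟩ ⟨he', hw'⟩ h
  obtain ⟨h1', h2'⟩ := S.EW_unique he.1 he'.1 hw.1 hw'.1 h
  exact Prod.ext h1' h2'

theorem count_A {i : ℕ} (h1 : 1 < i) (hi : i ∣ (q + 1) / 4) :
    6 * Nat.card {g : G // orderOf g = i} = Nat.totient i * q ^ 3 * (q - 1) * (q ^ 2 - q + 1) ∧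
    2 * Nat.card {g : G // orderOf g = 2 * i} = Nat.totient i * q ^ 3 * (q - 1) * (q ^ 2 - q + 1) := by
  have h2 : 2 < i := by
    rcases Nat.lt_or_ge 2 i with h | h
    · exact h
    · obtain rfl : i = 2 := by omega
      exact absurd hi S.quarter_facts.1.not_two_dvd_nat
  have key : ∀ d, 2 < d → i ∣ d →
      Nat.card {g : G // orderOf g = d} * (6 * (q + 1)) = Nat.card G * {y | y ∈ S.A ∧ orderOf y = d}.ncard := by
    intro d hd hid
    rw [show Nat.card {g : G // orderOf g = d} = {g : G | orderOf g = d}.ncard from Nat.card_coe_set_eq _,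
      S.conjs_A_order h1 hi hid]
    exact S.card_conjs_subset_YA _ (S.sub_YA hd) fun y hy z hz e => ⟨hz, e.trans hy.2⟩
  have k1 := key i h2 dvd_rfl
  have k2 := key (2 * i) (by omega) (dvd_mul_left i 2)
  rw [S.W_order_odd hi, ncard_orderOf S.isCyclic_W (S.card_W ▸ hi), S.card_G, S.cube_add_one] at k1
  rw [S.ncard_A_two hi h1, S.card_G, S.cube_add_one] at k2
  exact ⟨Nat.eq_of_mul_eq_mul_right (m := q + 1) (by omega) (by linear_combination k1),
    Nat.eq_of_mul_eq_mul_right (m := 3 * (q + 1)) (by omega) (by linear_combination k2)⟩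

theorem count_big {T T' : Subgroup G} (hT : S.IsBig T) (hN : Nat.card ↥(normalizer (T : Set G)) = 6 * Nat.card ↥T)
    (hprod : Nat.card ↥T * Nat.card ↥T' = q ^ 2 - q + 1) {i : ℕ} (h1 : 1 < i) (hi : i ∣ Nat.card ↥T) :
    6 * Nat.card {g : G // orderOf g = i} = Nat.totient i * q ^ 3 * (q ^ 2 - 1) * Nat.card ↥T' := by
  have hsub : {y | y ∈ T ∧ orderOf y = i} ⊆ YT T := fun y hy => ⟨hy.1, fun e => by
    have := hy.2; rw [e, orderOf_one] at this; omega⟩
  have h := S.card_conjs_subset_YT hT _ hsub fun y hy z hz e => ⟨hz, e.trans hy.2⟩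
  have e : {g : G | orderOf g = i} = conjs {y | y ∈ T ∧ orderOf y = i} := by
    ext x
    refine ⟨fun hx => ?_, orderOf_of_mem_conjs (P := fun k => k = i) fun y hy => hy.2⟩
    obtain ⟨r, hr, hri⟩ := Nat.exists_prime_and_dvd (show i ≠ 1 by omega)
    obtain ⟨g, y, ⟨hy, -⟩, rfl⟩ := S.mem_conjs_YT hT hr (hri.trans hi) (show r ∣ orderOf x from hx.symm ▸ hri)
    exact ⟨g, y, ⟨hy, by rw [← orderOf_conj' g y]; exact hx⟩, rfl⟩
  rw [ncard_orderOf (S.big_cyclic hT) hi, hN, ← e, S.card_G, S.cube_add_one, ← hprod] at h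
  rw [show Nat.card {g : G // orderOf g = i} = {g : G | orderOf g = i}.ncard from Nat.card_coe_set_eq _]
  refine Nat.eq_of_mul_eq_mul_right (m := Nat.card ↥T) Nat.card_pos ?_
  rw [show q ^ 2 - 1 = (q + 1) * (q - 1) by simpa using Nat.sq_sub_sq q 1]
  linear_combination h

/-- Numbers of elements of each order. -/
theorem counts :
    Nat.card {g : G // orderOf g = 2} = q ^ 2 * (q ^ 2 - q + 1) ∧
    Nat.card {g : G // orderOf g = 3} = (q ^ 2 - 1) * (q ^ 3 + 1) ∧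
    Nat.card {g : G // orderOf g = 6} = q ^ 2 * (q - 1) * (q ^ 3 + 1) ∧
    Nat.card {g : G // orderOf g = 9} = q ^ 2 * (q - 1) * (q ^ 3 + 1) ∧
    (∀ i : ℕ, 2 < i → i ∣ q - 1 →
      2 * Nat.card {g : G // orderOf g = i} = Nat.totient i * q ^ 3 * (q ^ 3 + 1)) ∧
    (∀ i : ℕ, 1 < i → i ∣ (q + 1) / 4 →
      6 * Nat.card {g : G // orderOf g = i} = Nat.totient i * q ^ 3 * (q - 1) * (q ^ 2 - q + 1) ∧
        2 * Nat.card {g : G // orderOf g = 2 * i} = Nat.totient i * q ^ 3 * (q - 1) * (q ^ 2 - q + 1)) ∧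
    (∀ i : ℕ, 1 < i → i ∣ q - S.rt + 1 →
      6 * Nat.card {g : G // orderOf g = i} = Nat.totient i * q ^ 3 * (q ^ 2 - 1) * (q + S.rt + 1)) ∧
    (∀ i : ℕ, 1 < i → i ∣ q + S.rt + 1 →
      6 * Nat.card {g : G // orderOf g = i} = Nat.totient i * q ^ 3 * (q ^ 2 - 1) * (q - S.rt + 1)) := by
  obtain ⟨T₁, T₂, h₁, h₂, e₁, e₂, hp, n₁, n₂⟩ := S.exists_two
  have e : q ^ 3 - q ^ 2 = q ^ 2 * (q - 1) := by rw [Nat.mul_sub, mul_one, ← pow_succ]
  refine ⟨(Nat.card_coe_set_eq _).trans S.ncard_invol, ?_, ?_, ?_, fun i => S.count_H, fun i => S.count_A,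
    fun i h1 hi => ?_, fun i h1 hi => ?_⟩
  · rw [S.count_three dvd_rfl, S.ncard_cube, mul_comm]
  · rw [S.count_three (by norm_num), S.ncard_six, e, mul_comm]
  · rw [S.count_three (by norm_num), S.ncard_nine, e, mul_comm]
  · rw [← e₂]; exact S.count_big h₁ n₁ hp h1 (e₁ ▸ hi)
  · rw [← e₁]; exact S.count_big h₂ n₂ (by rw [mul_comm]; exact hp) h1 (e₂ ▸ hi)

/-- Each family has one conjugacy class of tori through which all its element orders pass. -/
theorem exists_family {d : ℕ} (hd : d ∣ (q - 1) / 2 ∨ d ∣ (q + 1) / 4 ∨ d ∣ q - S.rt + 1 ∨ d ∣ q + S.rt + 1) :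
    ∃ T : Subgroup G, IsCyclic ↥T ∧ ∀ x : G, orderOf x ∣ d → ∃ g : G, g * x * g⁻¹ ∈ T := by
  have toT : ∀ {T : Subgroup G}, S.IsBig T → d ∣ Nat.card ↥T → ∀ x : G, orderOf x ∣ d → ∃ g : G, g * x * g⁻¹ ∈ T := by
    intro T hT hdT x hx
    by_cases hx1 : x = 1
    · exact ⟨1, by simp [hx1]⟩
    obtain ⟨r, hr, hrx⟩ := Nat.exists_prime_and_dvd (n := orderOf x) fun h => hx1 (orderOf_eq_one_iff.1 h)
    obtain ⟨g, y, hy, e⟩ := S.mem_conjs_YT hT hr ((hrx.trans hx).trans hdT) hrx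
    exact ⟨g⁻¹, by rw [← e]; simpa [mul_assoc] using hy.1⟩
  obtain ⟨T₁, T₂, h₁, h₂, e₁, e₂, -⟩ := S.exists_two
  rcases hd with h | h | h | h
  · refine ⟨S.H, S.cyc, fun x hx => ?_⟩
    by_cases hx1 : x = 1
    · exact ⟨1, by simp [hx1]⟩
    obtain ⟨r, hr, hrx⟩ := Nat.exists_prime_and_dvd (n := orderOf x) fun h => hx1 (orderOf_eq_one_iff.1 h)
    have hrk : r ∣ (q - 1) / 2 := (hrx.trans hx).trans h
    obtain ⟨k, -, ek⟩ := S.sub_one_split
    obtain ⟨g, y, hy, e⟩ := S.mem_conjs_YH hr (fun e => S.odd_half.not_two_dvd_nat (e ▸ hrk))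
      (hrk.trans (Nat.div_dvd_of_dvd (ek ▸ dvd_mul_right 2 k))) hrx
    exact ⟨g⁻¹, by rw [← e]; simpa [mul_assoc] using hy.1⟩
  · exact ⟨S.W, S.isCyclic_W, fun x hx => S.exists_conj_W (hx.trans h)⟩
  · exact ⟨T₁, S.big_cyclic h₁, toT h₁ (e₁ ▸ h)⟩
  · exact ⟨T₂, S.big_cyclic h₂, toT h₂ (e₂ ▸ h)⟩

/-- Cyclic subgroups of equal order in a family are conjugate. -/
theorem conjugate_cyclic {d : ℕ} (hd : d ∣ (q - 1) / 2 ∨ d ∣ (q + 1) / 4 ∨ d ∣ q - S.rt + 1 ∨ d ∣ q + S.rt + 1)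
    (A B : Subgroup G) (hA : IsCyclic A) (hB : IsCyclic B) (hAd : Nat.card A = d) (hBd : Nat.card B = d) :
    ∃ g : G, B = A.map (MulAut.conj g).toMonoidHom := by
  obtain ⟨T, hT, hconj⟩ := S.exists_family hd
  have key : ∀ X : Subgroup G, IsCyclic X → Nat.card X = d → ∃ g : G, X.map (MulAut.conj g).toMonoidHom ≤ T := by
    intro X hX hXd
    obtain ⟨x, hx⟩ := IsCyclic.exists_generator (α := ↥X)
    obtain ⟨g, hg⟩ := hconj x (by rw [Subgroup.orderOf_coe, orderOf_eq_card_of_forall_mem_zpowers hx, hXd])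
    refine ⟨g, ?_⟩
    rintro _ ⟨z, hz, rfl⟩
    obtain ⟨j, hj⟩ := Subgroup.mem_zpowers_iff.1 (hx ⟨z, hz⟩)
    have : z = (x : G) ^ j := by rw [← SubgroupClass.coe_zpow, hj]
    show g * z * g⁻¹ ∈ T
    rw [this, ← conj_zpow]
    exact zpow_mem hg j
  obtain ⟨g, hg⟩ := key A hA hAd
  obtain ⟨k, hk⟩ := key B hB hBd
  have e := eq_of_card_eq hT hk hg (by
    rw [Subgroup.card_map_of_injective (MulAut.conj k).injective, Subgroup.card_map_of_injective (MulAut.conj g).injective,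
      hAd, hBd])
  refine ⟨k⁻¹ * g, ?_⟩
  have h : (B.map (MulAut.conj k).toMonoidHom).map (MulAut.conj k⁻¹).toMonoidHom =
      (A.map (MulAut.conj g).toMonoidHom).map (MulAut.conj k⁻¹).toMonoidHom := by rw [e]
  rw [Subgroup.map_map, Subgroup.map_map] at h
  have c1 : (MulAut.conj k⁻¹).toMonoidHom.comp (MulAut.conj k).toMonoidHom = MonoidHom.id G :=
    MonoidHom.ext fun z => by simp [mul_assoc]
  have c2 : (MulAut.conj k⁻¹).toMonoidHom.comp (MulAut.conj g).toMonoidHom = (MulAut.conj (k⁻¹ * g)).toMonoidHom :=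
    MonoidHom.ext fun z => by simp [mul_assoc]
  rwa [c1, c2, Subgroup.map_id] at h

/-- The centraliser of every nontrivial subgroup of a conjugate of a torus. -/
theorem centralizer_torus {T C₀ : Subgroup G} (hC : ∀ y ∈ T, y ≠ 1 → centralizer ({y} : Set G) = C₀)
    {Hs : Subgroup G} {x : ↥Hs} (hx : ∀ z, z ∈ zpowers x) {g : G} (hg : g * x * g⁻¹ ∈ T) {A : Subgroup G}
    (hle : A ≤ Hs) (hne : A ≠ ⊥) :
    centralizer (A : Set G) = C₀.map (MulAut.conj g⁻¹).toMonoidHom := by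
  have hz : ∀ z ∈ Hs, z ≠ 1 → centralizer ({z} : Set G) = C₀.map (MulAut.conj g⁻¹).toMonoidHom := by
    intro z hz hz1
    obtain ⟨j, hj⟩ := Subgroup.mem_zpowers_iff.1 (hx ⟨z, hz⟩)
    have hm : g * z * g⁻¹ ∈ T := by
      rw [show z = (x : G) ^ j by rw [← SubgroupClass.coe_zpow, hj], ← conj_zpow]
      exact zpow_mem hg j
    rw [← hC _ hm fun e => hz1 (conj_eq_one_iff.1 e), ← centralizer_conj]
    congr 1
    rw [Set.singleton_eq_singleton_iff]; group
  obtain ⟨⟨y, hy⟩, hy1⟩ := (Subgroup.ne_bot_iff_exists_ne_one).mp hne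
  have hy1' : y ≠ 1 := fun e => hy1 (Subtype.ext e)
  refine le_antisymm ?_ fun u hu => mem_centralizer_iff.2 fun w hw => ?_
  · rw [← hz y (hle hy) hy1']
    exact fun u hu => mem_centralizer_singleton_iff.2 (mem_centralizer_iff.1 hu y hy).symm
  · by_cases hw1 : w = 1
    · simp [hw1]
    · exact (mem_centralizer_singleton_iff.1 (show u ∈ centralizer ({w} : Set G) by rw [hz w (hle hw) hw1]; exact hu)).symm

/-- Centralisers of the split and the quarter tori. -/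
theorem torus_centralizers (Hs : Subgroup G) (hH : IsCyclic Hs) :
    (Nat.card Hs = (q - 1) / 2 →
      IsCyclic ↥(centralizer (Hs : Set G)) ∧ Nat.card ↥(centralizer (Hs : Set G)) = q - 1 ∧
        ∀ A : Subgroup G, A ≤ Hs → A ≠ ⊥ → centralizer (A : Set G) = centralizer (Hs : Set G)) ∧
    (Nat.card Hs = (q + 1) / 4 →
      IsMulCommutative ↥(centralizer (Hs : Set G)) ∧ Nat.card ↥(centralizer (Hs : Set G)) = q + 1 ∧
        (∀ x ∈ centralizer (Hs : Set G), orderOf x ≠ 4) ∧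
        ∀ A : Subgroup G, A ≤ Hs → A ≠ ⊥ → centralizer (A : Set G) = centralizer (Hs : Set G)) := by
  obtain ⟨x, hx⟩ := IsCyclic.exists_generator (α := ↥Hs)
  have ox : orderOf (x : G) = Nat.card ↥Hs := by
    rw [Subgroup.orderOf_coe, orderOf_eq_card_of_forall_mem_zpowers hx]
  have hne : ∀ {k : ℕ}, Nat.card ↥Hs = k → 1 < k → Hs ≠ ⊥ := fun hk hk1 e => by
    rw [e, Subgroup.card_bot] at hk; omega
  have hq := S.q_ge
  constructor
  · intro hc
    obtain ⟨g, hg⟩ : ∃ g : G, g * x * g⁻¹ ∈ S.H2 := by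
      obtain ⟨r, hr, hrk⟩ := Nat.exists_prime_and_dvd (show (q - 1) / 2 ≠ 1 by omega)
      obtain ⟨k, -, ek⟩ := S.sub_one_split
      have hk2 : (q - 1) / 2 ∣ q - 1 := Nat.div_dvd_of_dvd (ek ▸ dvd_mul_right 2 k)
      obtain ⟨g, y, hy, e⟩ := S.mem_conjs_YH hr (fun e => S.odd_half.not_two_dvd_nat (e ▸ hrk)) (hrk.trans hk2)
        (x := (x : G)) (by rw [ox, hc]; exact hrk)
      refine ⟨g⁻¹, ?_⟩
      have hyo : orderOf y = (q - 1) / 2 := by rw [← orderOf_conj' g y, e, ox, hc]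
      have : zpowers y = S.H2 := eq_of_card_eq S.cyc (zpowers_le.2 hy.1) S.H2_le (by
        rw [Nat.card_zpowers, hyo, S.card_H2])
      rw [← e, show g⁻¹ * (g * y * g⁻¹) * g⁻¹⁻¹ = y by group, ← this]
      exact mem_zpowers y
    have hC := fun (A : Subgroup G) hle h0 => S.centralizer_torus (C₀ := S.H)
      (fun y hy hy1 => S.centralizer_H (S.H2_le hy) (S.H2_sq hy hy1)) hx hg (A := A) hle h0
    have hHs := hC Hs le_rfl (hne hc (by omega))
    refine ⟨hHs ▸ isCyclic_map_conj S.cyc _, ?_, fun A hle h0 => (hC A hle h0).trans hHs.symm⟩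
    rw [hHs, Subgroup.card_map_of_injective (MulAut.conj _).injective, S.card_H]
  · intro hc
    obtain ⟨g, hg⟩ := S.exists_conj_W (x := (x : G)) (by rw [ox, hc])
    have hC := fun (A : Subgroup G) hle h0 => S.centralizer_torus (C₀ := S.A)
      (fun y hy hy1 => S.centralizer_y hy hy1) hx hg (A := A) hle h0
    have hHs := hC Hs le_rfl (hne hc (by omega))
    refine ⟨⟨⟨fun u v => Subtype.ext ?_⟩⟩, ?_, fun u hu h4 => ?_, fun A hle h0 => (hC A hle h0).trans hHs.symm⟩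
    · obtain ⟨u', hu', eu⟩ : (u : G) ∈ S.A.map (MulAut.conj g⁻¹).toMonoidHom := hHs ▸ u.2
      obtain ⟨v', hv', ev⟩ : (v : G) ∈ S.A.map (MulAut.conj g⁻¹).toMonoidHom := hHs ▸ v.2
      show (u : G) * v = v * u
      rw [← eu, ← ev, ← map_mul, ← map_mul, (S.A_comm hu' hv').eq]
    · rw [hHs, Subgroup.card_map_of_injective (MulAut.conj _).injective, S.card_A]
    · rw [hHs] at hu
      obtain ⟨u', hu', rfl⟩ := hu
      have h : orderOf u' = 4 := by rw [← h4]; exact (orderOf_injective _ (MulAut.conj g⁻¹).injective u').symm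
      have hd := orderOf_dvd_of_pow_eq_one (S.A_pow hu')
      rw [h] at hd
      have := S.q_mod_eight
      omega

/-- The Sylow subgroups for primes above three are cyclic. -/
theorem sylow_cyclic {p : ℕ} [Fact p.Prime] (hp : 3 < p) (P : Sylow p G) : IsCyclic ↥(P : Subgroup G) := by
  have hpr : p.Prime := Fact.out
  by_cases hPb : Nat.card ↥(P : Subgroup G) = 1
  · exact @isCyclic_of_subsingleton _ _ (Nat.card_eq_one_iff_unique.1 hPb).1
  obtain ⟨n, hn⟩ := IsPGroup.iff_card.1 P.2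
  have hn0 : n ≠ 0 := fun e => hPb (by rw [hn, e, pow_zero])
  have : Nontrivial ↥(P : Subgroup G) := Finite.one_lt_card_iff_nontrivial.1 (hn ▸ Nat.one_lt_pow hn0 hpr.one_lt)
  have := (P.2).center_nontrivial
  obtain ⟨c, hc⟩ := exists_ne (1 : ↥(Subgroup.center ↥(P : Subgroup G)))
  set z := ((c : ↥(P : Subgroup G)) : G) with hz
  have hz1 : z ≠ 1 := fun e => hc (Subtype.ext (Subtype.ext e))
  have hPC : (P : Subgroup G) ≤ centralizer ({z} : Set G) := fun u hu =>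
    mem_centralizer_singleton_iff.2 (congrArg Subtype.val (Subgroup.mem_center_iff.1 c.2 ⟨u, hu⟩))
  obtain ⟨j, hj⟩ : ∃ j, orderOf z = p ^ (j + 1) := by
    have h := Subgroup.orderOf_dvd_natCard _ (c : ↥(P : Subgroup G)).2
    rw [hn] at h
    obtain ⟨j, -, hj⟩ := (Nat.dvd_prime_pow hpr).1 h
    cases j with
    | zero => exact absurd (orderOf_eq_one_iff.1 (hj.trans (pow_zero p))) hz1
    | succ j => exact ⟨j, hj⟩
  have hpz : p ∣ orderOf z := hj ▸ dvd_pow_self p (by omega)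
  have cyc : ∀ {T : Subgroup G}, IsCyclic ↥T → (P : Subgroup G) ≤ T → IsCyclic ↥(P : Subgroup G) := fun hT hle =>
    isCyclic_of_injective (Subgroup.inclusion hle) (Subgroup.inclusion_injective hle)
  have codd : ∀ {T : Subgroup G}, IsCyclic ↥T → ∀ (f : G), (∀ u ∈ (P : Subgroup G), f * u * f⁻¹ ∈ T) →
      IsCyclic ↥(P : Subgroup G) := fun {T} hT f h => cyc (isCyclic_map_conj hT f⁻¹)
    fun u hu => ⟨f * u * f⁻¹, h u hu, by simp [mul_assoc]⟩
  rcases S.kinds hz1 with h | h | ⟨g, y, hy, e⟩ | ⟨g, y, hy, e⟩ | ⟨T, hT, hzT⟩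
  · rw [h] at hpz; have := Nat.le_of_dvd (by norm_num) hpz; omega
  · rw [hj] at h
    exact absurd ((Nat.prime_dvd_prime_iff_eq Nat.prime_three hpr).1 (Nat.prime_three.dvd_of_dvd_pow h)) (by omega)
  · refine codd S.cyc g⁻¹ fun u hu => ?_
    rw [← S.centralizer_H hy.1 hy.2, show y = g⁻¹ * z * g⁻¹⁻¹ by rw [← e]; group]
    exact mem_centralizer_conj (hPC hu)
  · have hyW : y ∈ S.W := by
      refine S.A_odd hy.1 ?_
      rw [← orderOf_conj' g y, e, hj]
      exact (hpr.odd_of_ne_two (by omega)).pow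
    refine codd S.isCyclic_W g⁻¹ fun u hu => S.A_odd ?_ ?_
    · rw [← S.centralizer_y hyW fun e' => hy.2 (e' ▸ one_mem _), show y = g⁻¹ * z * g⁻¹⁻¹ by rw [← e]; group]
      exact mem_centralizer_conj (hPC hu)
    · rw [orderOf_conj']
      exact ((hpr.odd_of_ne_two (by omega)).pow).of_dvd_nat (hn ▸ Subgroup.orderOf_dvd_natCard _ hu)
  · exact cyc (S.big_cyclic hT) (hPC.trans (le_of_eq (S.big_centralizer hT hzT hz1)))

end Sys

end Cfsg.Agent.Lib.Ree.Tori
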