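import Cfsg.Agent.Lib.Ree.Tori.QuarterB

/-!
Normalisers of `E`, `W`; conjugacy of four-groups and of elements of the quarter torus.
-/

set_option autoImplicit false

namespace Cfsg.Agent.Lib.Ree.Tori

open Subgroup
open scoped Pointwise

variable {G : Type*} [Group G] [Finite G] {K : Type*} [Field K] [Fintype K]

local notation "q" => Fintype.card K

theorem mem_normalizer_of_conj {T : Subgroup G} {g : G} (h : ∀ x ∈ T, g * x * g⁻¹ ∈ T) :
    g ∈ normalizer (T : Set G) := by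
  have he : T.map (MulAut.conj g).toMonoidHom = T := by
    refine eq_of_le_of_card_ge ?_ (le_of_eq (Subgroup.card_map_of_injective (MulAut.conj g).injective).symm)
    rintro _ ⟨x, hx, rfl⟩
    exact h x hx
  refine Subgroup.mem_normalizer_iff.2 fun x => ⟨h x, fun hx => ?_⟩
  rw [← he] at hx
  obtain ⟨z, hz, e⟩ := hx
  have : z = x := (MulAut.conj g).injective e
  exact this ▸ hz

namespace Sys

variable (S : Sys G K)
include S

theorem conj_E_of_pair {g : G} (ha : g * S.a * g⁻¹ ∈ S.E) (hn : g * S.n * g⁻¹ ∈ S.E) :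
    ∀ e ∈ S.E, g * e * g⁻¹ ∈ S.E := by
  rintro e (rfl | rfl | rfl | rfl)
  · simpa using S.E.one_mem
  · exact ha
  · exact hn
  · rw [show g * (S.a * S.n) * g⁻¹ = g * S.a * g⁻¹ * (g * S.n * g⁻¹) by group]; exact mul_mem ha hn

/-- A four-group is conjugate to `E`. -/
theorem exists_conj_E {u v : G} (hu : u * u = 1) (hv : v * v = 1) (huv : Commute u v) (hu1 : u ≠ 1) (hv1 : v ≠ 1)
    (hne : u ≠ v) : ∃ g : G, ∀ x ∈ fourGrp hu hv huv, g * x * g⁻¹ ∈ S.E := by
  obtain ⟨g, hg⟩ := S.exists_conj_a hu1 hu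
  have hv'C : g⁻¹ * v * g ∈ S.Ca := S.mem_Ca.2 (by
    show g⁻¹ * v * g * S.a = S.a * (g⁻¹ * v * g)
    calc g⁻¹ * v * g * S.a = g⁻¹ * (v * (g * S.a * g⁻¹)) * g := by group
      _ = g⁻¹ * (g * S.a * g⁻¹ * v) * g := by rw [hg, huv.eq]
      _ = _ := by group)
  have h2 : g⁻¹ * v * g * (g⁻¹ * v * g) = 1 := by
    rw [show g⁻¹ * v * g * (g⁻¹ * v * g) = g⁻¹ * (v * v) * g by group, hv]; group
  have h1 : g⁻¹ * v * g ≠ 1 := fun h => hv1 (by
    calc v = g * (g⁻¹ * v * g) * g⁻¹ := by group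
      _ = 1 := by rw [h]; group)
  have ha : g⁻¹ * v * g ≠ S.a := fun h => hne (by
    calc u = g * S.a * g⁻¹ := hg.symm
      _ = v := by rw [← h]; group)
  obtain ⟨c, hc, e⟩ := S.Ca_involution hv'C h1 ha h2
  have hu' : c * g⁻¹ * u * (c * g⁻¹)⁻¹ = S.a := by
    rw [← hg, show c * g⁻¹ * (g * S.a * g⁻¹) * (c * g⁻¹)⁻¹ = c * S.a * c⁻¹ by group, (S.mem_Ca.1 hc).eq,
      mul_inv_cancel_right]
  have hv' : c * g⁻¹ * v * (c * g⁻¹)⁻¹ = c * (g⁻¹ * v * g) * c⁻¹ := by group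
  refine ⟨c * g⁻¹, ?_⟩
  rintro x (rfl | rfl | rfl | rfl)
  · simpa using S.E.one_mem
  · exact hu' ▸ Or.inr (Or.inl rfl)
  · rcases e with e | e
    · exact hv' ▸ e ▸ Or.inr (Or.inr (Or.inl rfl))
    · exact hv' ▸ e ▸ Or.inr (Or.inr (Or.inr S.commute_n_a.eq))
  · rw [show c * g⁻¹ * (u * v) * (c * g⁻¹)⁻¹ = c * g⁻¹ * u * (c * g⁻¹)⁻¹ * (c * g⁻¹ * v * (c * g⁻¹)⁻¹) by group,
      hu', hv']
    rcases e with e | e
    · rw [e]; exact Or.inr (Or.inr (Or.inr rfl))
    · rw [e, S.commute_n_a.eq, ← mul_assoc, S.a_sq, one_mul]; exact Or.inr (Or.inr (Or.inl rfl))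

/-- Some element normalises `E` without centralising it. -/
theorem exists_fusion : ∃ g : G, g ∈ normalizer (S.E : Set G) ∧ g ∉ S.D := by
  classical
  obtain ⟨P, s, hP, hnP, hE, hs, hsE, hPD, hdec⟩ := S.exists_frame
  have hs1 : s ≠ 1 := fun h => hsE (h ▸ one_mem _)
  have hsa : s ≠ S.a := fun h => hsE (h ▸ Or.inr (Or.inl rfl))
  -- an element of `P` outside `E` in the class of `n`
  obtain ⟨x, hx, hxE, c, hc, hcx⟩ : ∃ x ∈ (P : Subgroup G), x ∉ S.E ∧ ∃ c ∈ S.Ca, c * x * c⁻¹ = S.n := by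
    obtain ⟨c, hc, e | e⟩ := S.Ca_involution (hP hs) hs1 hsa (S.P_sq P hP hs)
    · exact ⟨s, hs, hsE, c, hc, e⟩
    · refine ⟨s * S.a, mul_mem hs (S.a_mem_P P hP), fun h => hsE ?_, c, hc, ?_⟩
      · simpa [mul_assoc, S.a_sq] using mul_mem h (show S.a ∈ S.E from Or.inr (Or.inl rfl))
      · rw [show c * (s * S.a) * c⁻¹ = c * s * c⁻¹ * (c * S.a * c⁻¹) by group, e, (S.mem_Ca.1 hc).eq,
          mul_inv_cancel_right, mul_assoc, S.a_sq, mul_one]
  -- Burnside fusion inside the centraliser of `a`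
  let P₁ : Sylow 2 ↥S.D := P.subtype hPD
  have hle : ∀ p ∈ (P : Subgroup G), c * p * c⁻¹ ∈ S.D := fun p hp => by
    refine Subgroup.mem_inf.2 ⟨mul_mem (mul_mem hc (hP hp)) (inv_mem hc), ?_⟩
    have := mem_centralizer_conj (g := c) (mem_centralizer_singleton_iff.2 (S.P_comm P hP hp hx) : p ∈ centralizer ({x} : Set G))
    rwa [hcx] at this
  let T : Subgroup ↥S.D := ((P : Subgroup G).map (MulAut.conj c).toMonoidHom).subgroupOf S.D
  have hTle : (P : Subgroup G).map (MulAut.conj c).toMonoidHom ≤ S.D := by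
    rintro _ ⟨p, hp, rfl⟩; exact hle p hp
  have hT : IsPGroup 2 ↥T := by
    have : Fact (Nat.Prime 2) := ⟨Nat.prime_two⟩
    refine IsPGroup.of_card (n := 3) ?_
    rw [Nat.card_congr (Subgroup.subgroupOfEquivOfLe hTle).toEquiv,
      Subgroup.card_map_of_injective (MulAut.conj c).injective, S.card_P P]
    norm_num
  obtain ⟨Q, hQ⟩ := hT.exists_le_sylow
  have : Fact (Nat.Prime 2) := ⟨Nat.prime_two⟩
  obtain ⟨d, hd⟩ := MulAction.exists_smul_eq ↥S.D Q P₁
  set h := (d : G) * c with hh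
  have hhP : ∀ p ∈ (P : Subgroup G), h * p * h⁻¹ ∈ (P : Subgroup G) := by
    intro p hp
    have h1 : (⟨c * p * c⁻¹, hle p hp⟩ : ↥S.D) ∈ (Q : Subgroup ↥S.D) := hQ ⟨p, hp, rfl⟩
    have h2 : d * (⟨c * p * c⁻¹, hle p hp⟩ : ↥S.D) * d⁻¹ ∈ (d • Q : Sylow 2 ↥S.D).toSubgroup := by
      rw [Sylow.coe_subgroup_smul, Subgroup.mem_pointwise_smul_iff_inv_smul_mem, ← map_inv, MulAut.smul_def,
        MulAut.conj_apply, inv_inv]
      simpa [mul_assoc] using h1
    rw [hd] at h2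
    have h3 : (d : G) * (c * p * c⁻¹) * (d : G)⁻¹ ∈ (P : Subgroup G) := h2
    rw [hh]; simpa [mul_assoc] using h3
  have hha : h * S.a * h⁻¹ = S.a := by
    rw [(show Commute h S.a from (S.mem_D.1 d.2).1.mul_left (S.mem_Ca.1 hc)).eq, mul_inv_cancel_right]
  have hhx : h * x * h⁻¹ = S.n := by
    rw [hh, show (d : G) * c * x * ((d : G) * c)⁻¹ = d * (c * x * c⁻¹) * (d : G)⁻¹ by group, hcx,
      (S.mem_D.1 d.2).2.eq, mul_inv_cancel_right]
  have hnconj : ∀ {k u : G}, k ∈ S.Ca → k * u * k⁻¹ = S.n → ∀ {l : G}, l ∈ S.Ca → l * (u * S.a) * l⁻¹ ≠ S.n := by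
    intro k u hk hu l hl he
    refine S.n_not_conj (c := l * k⁻¹) (mul_mem hl (inv_mem hk)) ?_
    have h1 : l * u * l⁻¹ = S.n * S.a := by
      have : l * (u * S.a) * l⁻¹ = l * u * l⁻¹ * S.a := by
        rw [show l * (u * S.a) * l⁻¹ = l * u * l⁻¹ * (l * S.a * l⁻¹) by group, (S.mem_Ca.1 hl).eq, mul_inv_cancel_right]
      rw [he] at this
      rw [this, mul_assoc, mul_assoc, S.a_sq, mul_one]
    rw [← h1, ← hu]; group
  have hhC : h ∈ S.Ca := S.Ca.mul_mem (S.mem_Ca.2 (S.mem_D.1 d.2).1) hc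
  set y := h * S.n * h⁻¹ with hy
  have hyP : y ∈ (P : Subgroup G) := hhP _ hnP
  have hxn : x ≠ S.n := fun e => hxE (e ▸ Or.inr (Or.inr (Or.inl rfl)))
  have hyn : y ≠ S.n := fun e => hxn (by
    have : h * S.n * h⁻¹ = h * x * h⁻¹ := e.trans hhx.symm
    exact (mul_left_cancel (mul_right_cancel this)).symm)
  have hgen : ∀ {g : G}, Commute g S.a → Commute g S.n → Commute g x → ∀ p ∈ (P : Subgroup G), Commute g p := by
    intro g hga hgn hgx
    have hgE : ∀ e ∈ S.E, Commute g e := by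
      rintro e (rfl | rfl | rfl | rfl)
      exacts [Commute.one_right g, hga, hgn, hga.mul_right hgn]
    obtain hxe | ⟨e, he, rfl⟩ := hdec x hx
    · exact absurd hxe hxE
    intro p hp
    have hgs : Commute g s := by
      have := (hgE e⁻¹ (inv_mem he)).mul_right hgx
      rwa [inv_mul_cancel_left] at this
    rcases hdec p hp with hpe | ⟨f, hf, rfl⟩
    · exact hgE p hpe
    · exact (hgE f hf).mul_right hgs
  have hyx : y ≠ x := by
    intro e
    have h2n : Commute (h ^ 2) S.n := mul_inv_eq_iff_eq_mul.1 (by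
      rw [pow_two, show h * h * S.n * (h * h)⁻¹ = h * (h * S.n * h⁻¹) * h⁻¹ by group, ← hy, e, hhx])
    have h2x : Commute (h ^ 2) x := mul_inv_eq_iff_eq_mul.1 (by
      rw [pow_two, show h * h * x * (h * h)⁻¹ = h * (h * x * h⁻¹) * h⁻¹ by group, hhx, ← hy, e])
    have h2P := S.centralizer_P P hP (hgen (Commute.pow_left (show Commute h S.a from mul_inv_eq_iff_eq_mul.1 hha) 2) h2n h2x)
    have h4 : orderOf h ∣ 2 ^ 2 := orderOf_dvd_of_pow_eq_one (by
      rw [show 2 ^ 2 = 2 * 2 by norm_num, pow_mul, pow_two, S.P_sq P hP h2P])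
    obtain ⟨k, -, hk⟩ := (Nat.dvd_prime_pow Nat.prime_two).1 h4
    have hp : IsPGroup 2 ↥(zpowers h) := IsPGroup.of_card (n := k) (by rw [Nat.card_zpowers, hk])
    have hmem := P.3 (hp.to_sup_of_normal_right' P.2 (zpowers_le.2 (mem_normalizer_of_conj hhP))) le_sup_right
    have hhP' : h ∈ (P : Subgroup G) := hmem ▸ Subgroup.mem_sup_left (mem_zpowers h)
    apply hxn
    rw [← hhx, S.P_comm P hP hhP' hx, mul_inv_cancel_right]
  -- the classes of `n` in `P`
  have hcls : ∀ {u : G} {k : G}, k ∈ S.Ca → k * u * k⁻¹ = S.n → u ≠ 1 ∧ u ≠ S.a ∧ u ≠ S.n * S.a ∧ u ≠ x * S.a := by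
    intro u k hk hu
    refine ⟨?_, ?_, ?_, ?_⟩ <;> rintro rfl
    · rw [mul_one, mul_inv_cancel] at hu; exact S.n_ne_one hu.symm
    · rw [(S.mem_Ca.1 hk).eq, mul_inv_cancel_right] at hu; exact S.a_ne_n hu
    · exact hnconj (one_mem S.Ca) (u := S.n) (by group) hk hu
    · exact hnconj hhC hhx hk hu
  have hPmem : ∀ p ∈ (P : Subgroup G), p ∈ S.E ∨ ∃ e ∈ S.E, p = e * x := by
    intro p hp
    obtain hxe | ⟨e, he, hxe⟩ := hdec x hx
    · exact absurd hxe hxE
    rcases hdec p hp with hpe | ⟨f, hf, rfl⟩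
    · exact Or.inl hpe
    · exact Or.inr ⟨f * e⁻¹, mul_mem hf (inv_mem he), by rw [hxe]; group⟩
  have hthree : ∀ u ∈ (P : Subgroup G), ∀ k ∈ S.Ca, k * u * k⁻¹ = S.n → u ≠ S.n → u ≠ x →
      u = S.n * x ∨ u = S.n * x * S.a := by
    intro u hu k hk hku hun hux
    obtain ⟨u1, u2, u3, u4⟩ := hcls hk hku
    have hax : S.a * x = x * S.a := (S.mem_Ca.1 (hP hx)).eq.symm
    rcases hPmem u hu with he | ⟨e, he, rfl⟩
    · rcases S.E_cases he with e | e | e | e
      exacts [absurd e u1, absurd e u2, absurd e hun, absurd (e.trans S.commute_n_a.eq.symm) u3]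
    · rcases S.E_cases he with rfl | rfl | rfl | rfl
      · exact absurd (one_mul x) hux
      · exact absurd hax u4
      · exact Or.inl rfl
      · right
        rw [← S.commute_n_a.eq, mul_assoc S.n, hax, ← mul_assoc]
  have hyC : h⁻¹ * y * h⁻¹⁻¹ = S.n := by rw [hy]; group
  set z := h * y * h⁻¹ with hz
  have hzP : z ∈ (P : Subgroup G) := hhP _ hyP
  have hzx : z = x := by
    by_contra hzx
    have hzC : (h⁻¹ * h⁻¹) * z * (h⁻¹ * h⁻¹)⁻¹ = S.n := by rw [hz, hy]; group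
    have hzn : z ≠ S.n := fun e => hyx (by
      have : h * y * h⁻¹ = h * x * h⁻¹ := e.trans hhx.symm
      exact mul_left_cancel (mul_right_cancel this))
    have hzy : z ≠ y := fun e => hyn (by
      have : h * y * h⁻¹ = h * S.n * h⁻¹ := e
      exact mul_left_cancel (mul_right_cancel this))
    have e1 := hthree y hyP _ (inv_mem hhC) hyC hyn hyx
    have e2 := hthree z hzP _ (mul_mem (inv_mem hhC) (inv_mem hhC)) hzC hzn hzx
    rcases e1 with e1 | e1 <;> rcases e2 with e2 | e2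
    · exact hzy (e2.trans e1.symm)
    · exact hnconj (inv_mem hhC) (e1 ▸ hyC) (mul_mem (inv_mem hhC) (inv_mem hhC)) (e2 ▸ hzC)
    · exact hnconj (mul_mem (inv_mem hhC) (inv_mem hhC)) (e2 ▸ hzC) (inv_mem hhC) (e1 ▸ hyC)
    · exact hzy (e2.trans e1.symm)
  -- the four-group moved by `h`
  set u := S.n * x with hu
  set v := y * S.n with hv
  have hPc : ∀ {p r : G}, p ∈ (P : Subgroup G) → r ∈ (P : Subgroup G) → Commute p r := fun hp hr => S.P_comm P hP hp hr
  have huP : u ∈ (P : Subgroup G) := mul_mem hnP hx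
  have hvP : v ∈ (P : Subgroup G) := mul_mem hyP hnP
  have hu2 := S.P_sq P hP huP
  have hv2 := S.P_sq P hP hvP
  have huv : Commute u v := hPc huP hvP
  have hu1 : u ≠ 1 := fun e => hxn (mul_left_cancel (e.trans S.n_sq.symm))
  have hv1 : v ≠ 1 := fun e => hyn (mul_right_cancel (e.trans S.n_sq.symm))
  have hne : u ≠ v := fun e => hyx (by
    have : S.n * x = S.n * y := e.trans (hPc hyP hnP).eq
    exact (mul_left_cancel this).symm)
  have hhu : h * u * h⁻¹ = v := by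
    rw [hu, show h * (S.n * x) * h⁻¹ = h * S.n * h⁻¹ * (h * x * h⁻¹) by group, hhx, ← hy]
  have hhv : h * v * h⁻¹ = u * v := by
    rw [hv, show h * (y * S.n) * h⁻¹ = h * y * h⁻¹ * (h * S.n * h⁻¹) by group, ← hy, ← hz, hzx, hu,
      (hPc hnP hx).eq, mul_assoc, (hPc hyP hnP).eq, ← mul_assoc S.n, S.n_sq, one_mul]
  obtain ⟨g, hg⟩ := S.exists_conj_E hu2 hv2 huv hu1 hv1 hne
  have himg : (fourGrp hu2 hv2 huv).map (MulAut.conj g).toMonoidHom = S.E := by
    refine eq_of_le_of_card_ge (by rintro _ ⟨p, hp, rfl⟩; exact hg p hp) ?_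
    rw [Subgroup.card_map_of_injective (MulAut.conj g).injective, card_fourGrp _ _ _ hu1 hv1 hne, S.card_E]
  refine ⟨g * h * g⁻¹, mem_normalizer_of_conj fun e he => ?_, fun hD => ?_⟩
  · rw [← himg] at he
    obtain ⟨p, hp, rfl⟩ := he
    show g * h * g⁻¹ * (g * p * g⁻¹) * (g * h * g⁻¹)⁻¹ ∈ S.E
    rw [show g * h * g⁻¹ * (g * p * g⁻¹) * (g * h * g⁻¹)⁻¹ = g * (h * p * h⁻¹) * g⁻¹ by group]
    refine hg _ ?_
    rcases hp with rfl | rfl | rfl | rfl
    · simpa using (fourGrp hu2 hv2 huv).one_mem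
    · rw [hhu]; exact Or.inr (Or.inr (Or.inl rfl))
    · rw [hhv]; exact Or.inr (Or.inr (Or.inr rfl))
    · rw [show h * (u * v) * h⁻¹ = h * u * h⁻¹ * (h * v * h⁻¹) by group, hhu, hhv, huv.eq, ← mul_assoc, hv2,
        one_mul]
      exact Or.inr (Or.inl rfl)
  · have hcu := (S.E_commute_D (hg u (Or.inr (Or.inl rfl))) hD).eq
    apply hne
    calc u = g⁻¹ * (g * u * g⁻¹ * (g * h * g⁻¹)) * (g * h * g⁻¹)⁻¹ * g := by group
      _ = g⁻¹ * ((g * h * g⁻¹) * (g * u * g⁻¹)) * (g * h * g⁻¹)⁻¹ * g := by rw [hcu]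
      _ = h * u * h⁻¹ := by group
      _ = v := hhu

theorem normalizer_E_conj_D {g d : G} (hg : g ∈ normalizer (S.E : Set G)) (hd : d ∈ S.D) : g * d * g⁻¹ ∈ S.D := by
  have key : ∀ e ∈ S.E, Commute (g * d * g⁻¹) e := by
    intro e he
    have h1 : g⁻¹ * e * g ∈ S.E := ((Subgroup.mem_normalizer_iff''.mp hg) e).1 he
    have h2 := (S.E_commute_D h1 hd).eq
    calc g * d * g⁻¹ * e = g * (d * (g⁻¹ * e * g)) * g⁻¹ := by group
      _ = g * (g⁻¹ * e * g * d) * g⁻¹ := by rw [h2]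
      _ = e * (g * d * g⁻¹) := by group
  exact S.mem_D.2 ⟨key _ (Or.inr (Or.inl rfl)), key _ (Or.inr (Or.inr (Or.inl rfl)))⟩

theorem normalizer_E_conj_W {g w : G} (hg : g ∈ normalizer (S.E : Set G)) (hw : w ∈ S.W) : g * w * g⁻¹ ∈ S.W :=
  S.mem_W_of_odd (S.normalizer_E_conj_D hg (S.W_le hw))
    (((SemiconjBy.conj_mk g w).orderOf_eq _) ▸ (S.W_coprime hw).1)

theorem normalizer_W : normalizer (S.W : Set G) = normalizer (S.E : Set G) := by
  refine le_antisymm (fun g hg => ?_) fun g hg => mem_normalizer_of_conj fun w hw => S.normalizer_E_conj_W hg hw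
  obtain ⟨y, hy, hy1⟩ := S.W_ne_one
  have hy' : g * y * g⁻¹ ∈ S.W := (Subgroup.mem_normalizer_iff.1 hg y).1 hy
  have hy1' : g * y * g⁻¹ ≠ 1 := fun h => hy1 (conj_eq_one_iff.1 h)
  refine mem_normalizer_of_conj fun e he => S.A_invol ?_ ?_
  · rw [← S.centralizer_y hy' hy1']
    exact mem_centralizer_conj (by rw [S.centralizer_y hy hy1]; exact S.E_le_A he)
  · rw [show g * e * g⁻¹ * (g * e * g⁻¹) = g * (e * e) * g⁻¹ by group, S.E_sq he]; group

theorem D_le_normalizer : S.D ≤ normalizer (S.E : Set G) := fun g hg => mem_normalizer_of_conj fun e he => by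
  rw [← (S.E_commute_D he hg).eq, mul_inv_cancel_right]; exact he

/-- The normaliser of the four-group. -/
theorem card_normalizer_E : Nat.card ↥(normalizer (S.E : Set G)) = 6 * (q + 1) := by
  classical
  set N := normalizer (S.E : Set G) with hN
  have hnorm : (S.D.subgroupOf N).Normal := ⟨fun d hd g => by
    simpa [Subgroup.mem_subgroupOf] using S.normalizer_E_conj_D g.2 (Subgroup.mem_subgroupOf.1 hd)⟩
  have hidx : (S.D.subgroupOf N).index = S.D.relIndex N := rfl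
  have hcard := Subgroup.card_mul_index (S.D.subgroupOf N)
  rw [Nat.card_congr (Subgroup.subgroupOfEquivOfLe S.D_le_normalizer).toEquiv, S.card_D] at hcard
  set i := (S.D.subgroupOf N).index
  have hcoset : ∀ g h : ↥N, (g : G) * S.a * (g : G)⁻¹ = h * S.a * (h : G)⁻¹ →
      (g : G) * S.n * (g : G)⁻¹ = h * S.n * (h : G)⁻¹ → g⁻¹ * h ∈ S.D.subgroupOf N := by
    intro g h e1 e2
    rw [Subgroup.mem_subgroupOf, S.mem_D]
    push_cast
    constructor
    · show (g : G)⁻¹ * h * S.a = S.a * ((g : G)⁻¹ * h)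
      calc (g : G)⁻¹ * h * S.a = (g : G)⁻¹ * (h * S.a * (h : G)⁻¹) * h := by group
        _ = S.a * ((g : G)⁻¹ * h) := by rw [← e1]; group
    · show (g : G)⁻¹ * h * S.n = S.n * ((g : G)⁻¹ * h)
      calc (g : G)⁻¹ * h * S.n = (g : G)⁻¹ * (h * S.n * (h : G)⁻¹) * h := by group
        _ = S.n * ((g : G)⁻¹ * h) := by rw [← e2]; group
  let pr : Set (G × G) :=
    {(S.a, S.n), (S.a, S.a * S.n), (S.n, S.a), (S.n, S.a * S.n), (S.a * S.n, S.a), (S.a * S.n, S.n)}
  have hmem : ∀ g : ↥N, ((g : G) * S.a * (g : G)⁻¹, (g : G) * S.n * (g : G)⁻¹) ∈ pr := by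
    intro g
    have h1 : (g : G) * S.a * (g : G)⁻¹ ∈ S.E := (Subgroup.mem_normalizer_iff.1 g.2 _).1 (Or.inr (Or.inl rfl))
    have h2 : (g : G) * S.n * (g : G)⁻¹ ∈ S.E := (Subgroup.mem_normalizer_iff.1 g.2 _).1 (Or.inr (Or.inr (Or.inl rfl)))
    have n1 : (g : G) * S.a * (g : G)⁻¹ ≠ 1 := fun e => S.a_ne (conj_eq_one_iff.1 e)
    have n2 : (g : G) * S.n * (g : G)⁻¹ ≠ 1 := fun e => S.n_ne_one (conj_eq_one_iff.1 e)
    have n3 : (g : G) * S.a * (g : G)⁻¹ ≠ (g : G) * S.n * (g : G)⁻¹ := fun e =>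
      S.a_ne_n (mul_left_cancel (mul_right_cancel e))
    rcases S.E_cases h1 with e | e | e | e <;> rcases S.E_cases h2 with e' | e' | e' | e' <;>
      simp_all [pr]
  let F : ↥N ⧸ S.D.subgroupOf N → ↥pr := fun c =>
    ⟨((c.out : G) * S.a * (c.out : G)⁻¹, (c.out : G) * S.n * (c.out : G)⁻¹), hmem c.out⟩
  have hF : Function.Injective F := fun c d e => by
    have e' := congrArg Subtype.val e
    simp only [F, Prod.mk.injEq] at e'
    rw [← QuotientGroup.out_eq' c, ← QuotientGroup.out_eq' d]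
    exact QuotientGroup.eq.2 (hcoset _ _ e'.1 e'.2)
  have hi6 : i ≤ 6 := by
    refine (Nat.card_le_card_of_injective F hF).trans ?_
    rw [Nat.card_coe_set_eq]
    exact ((Set.ncard_insert_le _ _).trans (Nat.add_le_add_right ((Set.ncard_insert_le _ _).trans
      (Nat.add_le_add_right ((Set.ncard_insert_le _ _).trans (Nat.add_le_add_right ((Set.ncard_insert_le _ _).trans
      (Nat.add_le_add_right ((Set.ncard_insert_le _ _).trans (Nat.add_le_add_right
        (le_of_eq (Set.ncard_singleton _)) 1)) 1)) 1)) 1)) 1))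
  have hi0 : i ≠ 0 := Subgroup.index_ne_zero_of_finite
  have hi1 : i ≠ 1 := fun h => by
    obtain ⟨g, hg, hgD⟩ := S.exists_fusion
    rw [Subgroup.index_eq_one, Subgroup.subgroupOf_eq_top] at h
    exact hgD (h hg)
  have hodd : ¬ 2 ∣ i := by
    rintro ⟨k, hk⟩
    exact S.not_sixteen_dvd N ⟨(q + 1) / 4 * k, by rw [← hcard, hk]; ring⟩
  have h5 : i ≠ 5 := by
    intro h
    have : Fact (Nat.Prime 5) := ⟨by norm_num⟩
    obtain ⟨z, hz⟩ := exists_prime_orderOf_dvd_card' (G := ↥N ⧸ S.D.subgroupOf N) 5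
      (by rw [← Subgroup.index_eq_card]; exact h ▸ dvd_rfl)
    obtain ⟨g, rfl⟩ := QuotientGroup.mk'_surjective _ z
    have h6 : g ^ 6 ∈ S.D.subgroupOf N := Subgroup.mem_subgroupOf.2 (by
      push_cast; exact S.pow_six_mem_D fun e he => (Subgroup.mem_normalizer_iff.1 g.2 e).1 he)
    have h7 : orderOf (QuotientGroup.mk' (S.D.subgroupOf N) g) ∣ 6 := orderOf_dvd_of_pow_eq_one (by
      rw [← map_pow]; exact (QuotientGroup.eq_one_iff _).2 h6)
    rw [hz] at h7
    norm_num at h7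
  have hi3 : i = 3 := by
    have h2 := Nat.two_dvd_ne_zero.1 hodd
    omega
  rw [← hcard, hi3]
  have := S.quarter_facts.2.1
  omega

theorem card_normalizer_W : Nat.card ↥(normalizer (S.W : Set G)) = 6 * (q + 1) :=
  S.normalizer_W ▸ S.card_normalizer_E

/-- Nontrivial subgroups of the quarter torus have the same normaliser. -/
theorem normalizer_le_W {A₀ : Subgroup G} (hle : A₀ ≤ S.W) (hne : A₀ ≠ ⊥) :
    normalizer (A₀ : Set G) = normalizer (S.W : Set G) := by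
  obtain ⟨⟨y, hy⟩, hy1⟩ := (Subgroup.ne_bot_iff_exists_ne_one).mp hne
  have hy1' : y ≠ 1 := fun e => hy1 (Subtype.ext e)
  refine le_antisymm (fun g hg => mem_normalizer_of_conj fun w hw => ?_) fun g hg => ?_
  · have hy' : g * y * g⁻¹ ∈ A₀ := (Subgroup.mem_normalizer_iff.1 hg y).1 hy
    have : g * w * g⁻¹ ∈ S.A := by
      rw [← S.centralizer_y (hle hy') fun h => hy1' (conj_eq_one_iff.1 h)]
      exact mem_centralizer_conj (by rw [S.centralizer_y (hle hy) hy1']; exact S.W_le_A hw)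
    exact S.A_odd this (((SemiconjBy.conj_mk g w).orderOf_eq _) ▸ (S.W_coprime hw).1)
  · have := S.isCyclic_W
    refine mem_normalizer_of_conj fun x hx => ?_
    -- a subgroup of a cyclic group is determined by its order
    have hgw : ∀ w ∈ S.W, g * w * g⁻¹ ∈ S.W := fun w hw => (Subgroup.mem_normalizer_iff.1 hg w).1 hw
    obtain ⟨k, hk⟩ := (MonoidHom.map_cyclic (G := ↥S.W)
      { toFun := fun w => (⟨g * w * g⁻¹, hgw w w.2⟩ : ↥S.W)
        map_one' := Subtype.ext (by simp)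
        map_mul' := fun u v => Subtype.ext (by simp [mul_assoc]) })
    have e : g * x * g⁻¹ = x ^ k := congrArg Subtype.val (hk ⟨x, hle hx⟩)
    rw [e]
    exact A₀.zpow_mem hx k

/-- Elements of order dividing `(q + 1) / 4` are conjugate into `W`. -/
theorem exists_conj_W {x : G} (hx : orderOf x ∣ (q + 1) / 4) : ∃ g : G, g * x * g⁻¹ ∈ S.W := by
  by_cases hx1 : x = 1
  · exact ⟨1, by simp [hx1]⟩
  obtain ⟨hlodd, el, hlq, hlq1⟩ := S.quarter_facts
  obtain ⟨r, hr, hrd⟩ := Nat.exists_prime_and_dvd (n := orderOf x) (fun h => hx1 (orderOf_eq_one_iff.1 h))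
  have hrl : r ∣ (q + 1) / 4 := hrd.trans hx
  have := Fact.mk hr
  have hr2 : r ≠ 2 := fun h => hlodd.not_two_dvd_nat (h ▸ hrl)
  have hrq : ¬ r ∣ q := fun h => hr.one_lt.ne' (Nat.eq_one_of_dvd_coprimes hlq hrl h)
  have hrq1 : ¬ r ∣ q - 1 := fun h => hr.one_lt.ne' (Nat.eq_one_of_dvd_coprimes hlq1 hrl h)
  have hr3 : r ≠ 3 := fun h => hrq (h ▸ S.three_dvd)
  have hMr : ¬ r ∣ q ^ 2 - q + 1 := by
    intro h
    have h1 : r ∣ q + 1 := el ▸ dvd_mul_of_dvd_right hrl 4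
    have h2 : r ∣ (q + 1) * q := dvd_mul_of_dvd_left h1 _
    have hle : q ≤ q ^ 2 := Nat.le_self_pow (by norm_num) _
    have h4 : r ∣ 3 := by
      have e1 : (q + 1) * q + 3 = (q ^ 2 - q + 1) + 2 * (q + 1) := by
        have : (q + 1) * q = q ^ 2 + q := by ring
        omega
      exact (Nat.dvd_add_right h2).1 (e1 ▸ dvd_add h (dvd_mul_of_dvd_right h1 2))
    exact hr3 ((Nat.prime_dvd_prime_iff_eq hr Nat.prime_three).1 h4)
  set v := ((q + 1) / 4).factorization r with hv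
  have hfac : (Nat.card G).factorization r = v := by
    refine le_antisymm ?_ ((Nat.factorization_le_iff_dvd (by omega) Nat.card_pos.ne').2 ?_ r)
    · have hd : r ^ (Nat.card G).factorization r ∣ q ^ 3 * (q - 1) * (4 * ((q + 1) / 4) * (q ^ 2 - q + 1)) := by
        rw [← el, ← S.cube_add_one, ← S.card_G]; exact Nat.ordProj_dvd _ _
      have c1 : (r ^ (Nat.card G).factorization r).Coprime (q ^ 3 * (q - 1)) :=
        Nat.Coprime.mul_right ((hr.coprime_iff_not_dvd.2 hrq).pow _ _) ((hr.coprime_iff_not_dvd.2 hrq1).pow_left _)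
      have c2 : (r ^ (Nat.card G).factorization r).Coprime (q ^ 2 - q + 1) :=
        (hr.coprime_iff_not_dvd.2 hMr).pow_left _
      have c3 : (r ^ (Nat.card G).factorization r).Coprime 4 :=
        (hr.coprime_iff_not_dvd.2 fun h => hr2 ((Nat.prime_dvd_prime_iff_eq hr Nat.prime_two).1
          (hr.dvd_of_dvd_pow (show r ∣ 2 ^ 2 from h)))).pow_left _
      exact (hr.pow_dvd_iff_le_factorization (by omega)).1
        (c3.dvd_of_dvd_mul_left (c2.dvd_of_dvd_mul_right (c1.dvd_of_dvd_mul_left hd)))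
    · rw [← S.card_W]; exact Subgroup.card_subgroup_dvd_card _
  obtain ⟨R⟩ : Nonempty (Sylow r ↥S.W) := inferInstance
  have hcR : Nat.card ↥((R : Subgroup ↥S.W).map S.W.subtype) = r ^ (Nat.card G).factorization r := by
    rw [Subgroup.card_map_of_injective S.W.subtype_injective, hfac, hv, ← S.card_W]
    exact R.card_eq_multiplicity
  set y := x ^ (orderOf x / r) with hy
  have hoy : orderOf y = r := orderOf_pow_orderOf_div (orderOf_pos x).ne' hrd
  obtain ⟨Q, hQ⟩ := (IsPGroup.of_card (n := 1) (by rw [Nat.card_zpowers, hoy, pow_one]) :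
    IsPGroup r ↥(zpowers y)).exists_le_sylow
  obtain ⟨g, hg⟩ := MulAction.exists_smul_eq G Q (Sylow.ofCard _ hcR)
  refine ⟨g, ?_⟩
  have hyW : g * y * g⁻¹ ∈ S.W := by
    have : g * y * g⁻¹ ∈ (g • Q : Sylow r G).toSubgroup := by
      rw [Sylow.coe_subgroup_smul, Subgroup.mem_pointwise_smul_iff_inv_smul_mem, ← map_inv, MulAut.smul_def,
        MulAut.conj_apply, inv_inv]
      simpa [mul_assoc] using hQ (mem_zpowers y)
    rw [hg] at this
    exact map_subtype_le (R : Subgroup ↥S.W) this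
  refine S.A_odd ?_ (((SemiconjBy.conj_mk g x).orderOf_eq _) ▸ hlodd.of_dvd_nat hx)
  rw [← S.centralizer_y hyW fun h => hr.one_lt.ne' (by rw [← hoy, conj_eq_one_iff.1 h, orderOf_one])]
  exact mem_centralizer_conj (mem_centralizer_singleton_iff.2 ((Commute.refl x).pow_right _).eq)

end Sys

end Cfsg.Agent.Lib.Ree.Tori
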