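import Mathlib

/-!
An element of prime order `p`, where `q` has order 6 modulo `p`, acting faithfully in dimension 8 over
the field with `q` elements: its centraliser is cyclic when it has order prime to `q(q^2-1)`, and the
normaliser of the cyclic group it generates induces a group of order dividing 6.
-/

set_option autoImplicit false

namespace Cfsg.Agent.Lib.Ree.Tori

open Polynomial

variable {G : Type*} [Group G] [Finite G] {F : Type*} [Field F] [Fintype F]

/-- `p` is a prime at which `q` has order six. -/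
structure SixPrime (q p : ℕ) : Prop where
  prime : p.Prime
  not_dvd : ¬ p ∣ q
  dvd_six : p ∣ q ^ 6 - 1
  lt_six : ∀ k, 0 < k → k < 6 → ¬ p ∣ q ^ k - 1

namespace Linear

variable {V : Type*} [AddCommGroup V] [Module F V] [FiniteDimensional F V]

theorem natCast_ne_zero {p : ℕ} (hp : p.Prime) (hq : ¬ p ∣ Fintype.card F) : (p : F) ≠ 0 := by
  intro h
  obtain ⟨c, hc⟩ := CharP.exists F
  obtain ⟨n, hcp, e⟩ := FiniteField.card F c
  have h1 : c ∣ p := (CharP.cast_eq_zero_iff F c p).1 h
  have h2 : c = p := (Nat.prime_dvd_prime_iff_eq hcp hp).1 h1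
  exact hq (e ▸ h2 ▸ dvd_pow_self c n.ne_zero)

theorem inf_eq_bot {f : Module.End F V} {p : ℕ} (hf : f ^ p = 1) (hp : (p : F) ≠ 0) :
    LinearMap.ker (f - 1) ⊓ LinearMap.range (f - 1) = ⊥ := by
  rw [eq_bot_iff]
  rintro v ⟨hk, w, hw⟩
  have hk' : f v = v := sub_eq_zero.1 (by simpa using hk)
  have hw' : f w = w + v := by rw [← hw]; simp
  have e : ∀ k : ℕ, (f ^ k) w = w + (k : F) • v := by
    intro k
    induction k with
    | zero => simp
    | succ k ih =>
      rw [pow_succ', Module.End.mul_apply, ih, map_add, map_smul, hk', hw', Nat.cast_succ, add_smul, one_smul]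
      abel
  have := e p
  rw [hf, Module.End.one_apply, left_eq_add, smul_eq_zero] at this
  simpa using this.resolve_left hp

/-- An invariant subspace free of fixed vectors. -/
theorem dvd_pow_finrank_sub_one {f : Module.End F V} {p : ℕ} [Fact p.Prime] (hf : f ^ p = 1) (S : Submodule F V)
    (hS : ∀ v ∈ S, f v ∈ S) (hfree : ∀ v ∈ S, f v = v → v = 0) :
    p ∣ Fintype.card F ^ Module.finrank F S - 1 := by
  classical
  have : Finite V := Module.finite_of_finite F
  have := Fintype.ofFinite S
  let φ : Function.End S := fun v => ⟨f v, hS v v.2⟩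
  have hφ : φ ^ p ^ 1 = 1 := by
    have e : ∀ (k : ℕ) (v : S), (((φ ^ k : Function.End S) v : S) : V) = (f ^ k) (v : V) := by
      intro k
      induction k with
      | zero => intro v; rfl
      | succ k ih =>
        intro v
        rw [pow_succ', pow_succ']
        show f (((φ ^ k : Function.End S) v : S) : V) = _
        rw [ih]
        rfl
    funext v
    refine Subtype.ext ?_
    rw [pow_one, e p v, hf]
    rfl
  have hfix : Fintype.card φ.fixedPoints = 1 := by
    refine Fintype.card_eq_one_iff.2 ⟨⟨0, Subtype.ext (map_zero f)⟩, fun v => Subtype.ext (Subtype.ext ?_)⟩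
    exact hfree v.1 v.1.2 (congrArg Subtype.val v.2)
  have h := Equiv.Perm.card_fixedPoints_modEq (n := 1) hφ
  rw [hfix, ← Nat.card_eq_fintype_card, Module.natCard_eq_pow_finrank (K := F), Nat.card_eq_fintype_card] at h
  exact (Nat.modEq_iff_dvd' (Nat.one_le_pow _ _ Fintype.card_pos)).1 h.symm

end Linear

/-- The subspace moved by `x`. -/
def moved (ρ : G →* Module.End F (Fin 8 → F)) (x : G) : Submodule F (Fin 8 → F) := LinearMap.range (ρ x - 1)

variable {ρ : G →* Module.End F (Fin 8 → F)} {x : G} {p : ℕ}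

theorem rho_pow (hxp : x ^ p = 1) : ρ x ^ p = 1 := by rw [← map_pow, hxp, map_one]

theorem moved_mapsTo {g : G} {k : ℕ} (h : g * x * g⁻¹ = x ^ k) :
    ∀ v ∈ moved ρ x, ρ g v ∈ moved ρ x := by
  rintro _ ⟨w, rfl⟩
  have e1 : ρ g * (ρ x - 1) = (ρ x ^ k - 1) * ρ g := by
    rw [mul_sub, sub_mul, mul_one, one_mul, ← map_pow, ← map_mul, ← map_mul, ← h]
    congr 2
    group
  refine ⟨(∑ i ∈ Finset.range k, ρ x ^ i) (ρ g w), ?_⟩
  rw [← Module.End.mul_apply, ← Module.End.mul_apply, mul_geom_sum, ← e1, Module.End.mul_apply]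

theorem fixed_mapsTo {g : G} (h : Commute g x) :
    ∀ v ∈ LinearMap.ker (ρ x - 1), ρ g v ∈ LinearMap.ker (ρ x - 1) := by
  intro v hv
  simp only [LinearMap.mem_ker, LinearMap.sub_apply, Module.End.one_apply] at hv ⊢
  rw [← Module.End.mul_apply, ← map_mul, ← h.eq, map_mul, Module.End.mul_apply, ← map_sub, hv, map_zero]

section

variable (h6 : SixPrime (Fintype.card F) p) (hρ : Function.Injective ρ) (hxp : x ^ p = 1) (hx : x ≠ 1)
include h6 hρ hxp hx

theorem inf_moved : LinearMap.ker (ρ x - 1) ⊓ moved ρ x = ⊥ :=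
  Linear.inf_eq_bot (rho_pow hxp) (Linear.natCast_ne_zero h6.prime h6.not_dvd)

theorem six_le {S : Submodule F (Fin 8 → F)} (hS : ∀ v ∈ S, ρ x v ∈ S) (hle : S ≤ moved ρ x) (h0 : S ≠ ⊥) :
    6 ≤ Module.finrank F S ∧ p ∣ Fintype.card F ^ Module.finrank F S - 1 := by
  have := Fact.mk h6.prime
  have hfree : ∀ v ∈ S, ρ x v = v → v = 0 := fun v hv e => by
    have : v ∈ LinearMap.ker (ρ x - 1) ⊓ moved ρ x := ⟨by simp [e], hle hv⟩
    rwa [inf_moved h6 hρ hxp hx, Submodule.mem_bot] at this
  have hd := Linear.dvd_pow_finrank_sub_one (rho_pow hxp) S hS hfree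
  refine ⟨?_, hd⟩
  by_contra hlt
  exact h6.lt_six _ (Nat.pos_of_ne_zero fun e => h0 (Submodule.finrank_eq_zero.1 e)) (by omega) hd

theorem finrank_moved : Module.finrank F ↥(moved ρ x) = 6 := by
  have hne : moved ρ x ≠ ⊥ := by
    intro h
    refine hx (hρ ?_)
    rw [map_one, ← sub_eq_zero]
    exact LinearMap.range_eq_bot.1 h
  obtain ⟨h, hd⟩ := six_le h6 hρ hxp hx (moved_mapsTo (k := 1) (by group)) le_rfl hne
  have h8 : Module.finrank F ↥(moved ρ x) ≤ 8 := by
    have := Submodule.finrank_le (moved ρ x)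
    rwa [Module.finrank_fin_fun] at this
  by_contra hne6
  set d := Module.finrank F ↥(moved ρ x)
  have e1 : p ∣ Fintype.card F ^ (d - 6) - 1 := by
    have a6 : (Fintype.card F ^ 6) ≡ 1 [MOD p] :=
      ((Nat.modEq_iff_dvd' (Nat.one_le_pow _ _ Fintype.card_pos)).2 h6.dvd_six).symm
    have ad : (Fintype.card F ^ d) ≡ 1 [MOD p] :=
      ((Nat.modEq_iff_dvd' (Nat.one_le_pow _ _ Fintype.card_pos)).2 hd).symm
    have : Fintype.card F ^ (d - 6) ≡ 1 [MOD p] := by
      have := a6.mul_left (Fintype.card F ^ (d - 6))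
      rw [← pow_add, show d - 6 + 6 = d by omega, mul_one] at this
      exact this.symm.trans ad
    exact (Nat.modEq_iff_dvd' (Nat.one_le_pow _ _ Fintype.card_pos)).1 this.symm
  exact h6.lt_six (d - 6) (by omega) (by omega) e1

theorem moved_simple (S : Submodule F ↥(moved ρ x))
    (hS : ∀ v ∈ S, (⟨ρ x v, moved_mapsTo (k := 1) (by group) v.1 v.2⟩ : ↥(moved ρ x)) ∈ S) :
    S = ⊥ ∨ S = ⊤ := by
  rcases eq_or_ne S ⊥ with h | h
  · exact Or.inl h
  refine Or.inr ?_
  have h0 : S.map (moved ρ x).subtype ≠ ⊥ := fun e =>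
    h (Submodule.map_injective_of_injective (Submodule.injective_subtype _) (e.trans (Submodule.map_bot _).symm))
  have hmaps : ∀ v ∈ S.map (moved ρ x).subtype, ρ x v ∈ S.map (moved ρ x).subtype := by
    rintro _ ⟨v, hv, rfl⟩
    exact ⟨_, hS v hv, rfl⟩
  obtain ⟨h1, -⟩ := six_le h6 hρ hxp hx hmaps (Submodule.map_subtype_le _ _) h0
  rw [Submodule.finrank_map_subtype_eq] at h1
  refine Submodule.eq_top_of_finrank_eq (le_antisymm (Submodule.finrank_le S) ?_)
  rw [finrank_moved h6 hρ hxp hx]
  exact h1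

theorem finrank_fixed : Module.finrank F ↥(LinearMap.ker (ρ x - 1)) = 2 := by
  have := LinearMap.finrank_range_add_finrank_ker (ρ x - 1)
  rw [show LinearMap.range (ρ x - 1) = moved ρ x from rfl, finrank_moved h6 hρ hxp hx, Module.finrank_fin_fun] at this
  omega

variable (hcop : ∀ g, Commute g x → (orderOf g).Coprime (Fintype.card F * (Fintype.card F - 1) * (Fintype.card F + 1)))
include hcop

/-- A centralising element is determined by its action on the moved subspace. -/
theorem eq_one_of_moved {g : G} (hg : Commute g x) (h : ∀ v ∈ moved ρ x, ρ g v = v) : g = 1 := by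
  set K := LinearMap.ker (ρ x - 1) with hK
  have hcomp : K ⊔ moved ρ x = ⊤ := by
    refine Submodule.eq_top_of_finrank_eq ?_
    have e := Submodule.finrank_sup_add_finrank_inf_eq K (moved ρ x)
    rw [inf_moved h6 hρ hxp hx, finrank_bot, finrank_fixed h6 hρ hxp hx, finrank_moved h6 hρ hxp hx, add_zero] at e
    rw [e, Module.finrank_fin_fun]
  let C := Subgroup.centralizer ({x} : Set G)
  have hC : ∀ c : ↥C, Commute (c : G) x := fun c => (Subgroup.mem_centralizer_singleton_iff.1 c.2)
  let r : ↥C →* (Module.End F ↥K)ˣ := MonoidHom.toHomUnits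
    { toFun := fun c => (ρ c).restrict (fixed_mapsTo (hC c))
      map_one' := LinearMap.ext fun v => Subtype.ext (by simp)
      map_mul' := fun c c' => LinearMap.ext fun v => Subtype.ext (by simp) }
  let b : Module.Basis (Fin 2) F ↥K := Module.finBasisOfFinrankEq F ↥K (finrank_fixed h6 hρ hxp hx)
  let e : (Module.End F ↥K)ˣ ≃* GL (Fin 2) F := Units.mapEquiv (algEquivMatrix b).toMulEquiv
  let c : ↥C := ⟨g, Subgroup.mem_centralizer_singleton_iff.2 hg⟩
  have hcard : Nat.card (GL (Fin 2) F) =
      Fintype.card F * (Fintype.card F - 1) * (Fintype.card F + 1) * (Fintype.card F - 1) := by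
    rw [Matrix.card_GL_field, Fin.prod_univ_two]
    simp only [Fin.val_zero, Fin.val_one, pow_zero, pow_one]
    set q := Fintype.card F
    have h1 : 1 ≤ q := Fintype.card_pos
    zify [Nat.one_le_pow 2 q h1, h1, Nat.le_self_pow (two_ne_zero) q]
    ring
  have hord : orderOf (e (r c)) = 1 := by
    have h1 : orderOf (e (r c)) ∣ orderOf g := by
      rw [← Subgroup.orderOf_mk g c.2]
      exact orderOf_map_dvd (e.toMonoidHom.comp r) c
    have h2 : orderOf (e (r c)) ∣ Nat.card (GL (Fin 2) F) := orderOf_dvd_natCard _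
    rw [hcard] at h2
    have hc1 := hcop g hg
    have hc2 : (orderOf g).Coprime (Fintype.card F * (Fintype.card F - 1) * (Fintype.card F + 1) * (Fintype.card F - 1)) :=
      Nat.Coprime.mul_right hc1 (hc1.coprime_dvd_right (Dvd.dvd.mul_right (Dvd.intro_left _ rfl) _))
    exact Nat.eq_one_of_dvd_coprimes hc2 h1 h2
  have hr : r c = 1 := e.injective (by rw [map_one]; exact orderOf_eq_one_iff.1 hord)
  refine hρ ?_
  rw [map_one]
  refine LinearMap.ext fun v => ?_
  obtain ⟨a, ha, w, hw, rfl⟩ := Submodule.mem_sup.1 (hcomp.ge (Submodule.mem_top : v ∈ ⊤))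
  have ha' : ρ g a = a := by
    have := congrArg (fun u : (Module.End F ↥K)ˣ => ((u : Module.End F ↥K) ⟨a, ha⟩ : Fin 8 → F)) hr
    exact this
  rw [map_add, ha', h w hw, Module.End.one_apply]

/-- The endomorphism of the moved subspace. -/
theorem exists_algebra :
    ∃ (D : Subalgebra F (Module.End F ↥(moved ρ x))) (φ : ↥(Subgroup.centralizer ({x} : Set G)) →* ↥D),
      Function.Injective φ ∧
      (∀ a b : ↥D, a * b = b * a) ∧ (∀ a b : ↥D, a * b = 0 → a = 0 ∨ b = 0) ∧ Module.finrank F ↥D ≤ 6 ∧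
      (∀ c v, ((φ c : Module.End F ↥(moved ρ x)) v : Fin 8 → F) = ρ (c : G) v) := by
  classical
  set W := moved ρ x with hWdef
  let fW : Module.End F ↥W := (ρ x).restrict (moved_mapsTo (k := 1) (by group))
  let D := Subalgebra.centralizer F ({fW} : Set (Module.End F ↥W))
  have hD : ∀ a : ↥D, fW * (a : Module.End F ↥W) = a * fW := fun a =>
    Subalgebra.mem_centralizer_iff F |>.1 a.2 fW rfl
  have hD' : ∀ (a : ↥D) (v : ↥W), fW ((a : Module.End F ↥W) v) = (a : Module.End F ↥W) (fW v) := fun a v =>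
    LinearMap.congr_fun (hD a) v
  have hsimple : ∀ (a : Module.End F ↥W), fW * a = a * fW → LinearMap.ker a = ⊥ ∨ LinearMap.ker a = ⊤ := by
    intro a ha
    refine moved_simple h6 hρ hxp hx _ fun v hv => ?_
    show a (fW v) = 0
    rw [← Module.End.mul_apply, ← ha, Module.End.mul_apply, show a v = 0 from hv, map_zero]
  have hne : ∃ w : ↥W, w ≠ 0 := by
    have := finrank_moved h6 hρ hxp hx
    have : Nontrivial ↥W := Module.nontrivial_of_finrank_eq_succ this
    exact exists_ne 0
  obtain ⟨w, hw⟩ := hne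
  have hdet : ∀ a : Module.End F ↥W, fW * a = a * fW → a w = 0 → a = 0 := by
    intro a ha hw0
    rcases hsimple a ha with h | h
    · exact absurd (by rwa [← LinearMap.mem_ker, h, Submodule.mem_bot] at hw0) hw
    · exact LinearMap.ker_eq_top.1 h
  have hcyc : ∀ a : Module.End F ↥W, ∃ P ∈ Algebra.adjoin F ({fW} : Set (Module.End F ↥W)), a w = P w := by
    let S : Submodule F ↥W :=
      (Algebra.adjoin F ({fW} : Set (Module.End F ↥W))).toSubmodule.map (LinearMap.applyₗ w)
    have hS : S = ⊤ := by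
      refine (moved_simple h6 hρ hxp hx S fun v hv => ?_).resolve_left fun e => hw ?_
      · obtain ⟨P, hP, rfl⟩ := hv
        exact ⟨fW * P, (Subalgebra.mem_toSubmodule _).2 (mul_mem (Algebra.self_mem_adjoin_singleton F fW) ((Subalgebra.mem_toSubmodule _).1 hP)), rfl⟩
      · have : w ∈ S := ⟨1, (Subalgebra.mem_toSubmodule _).2 (one_mem _), rfl⟩
        rwa [e, Submodule.mem_bot] at this
    intro a
    obtain ⟨P, hP, e⟩ := hS.ge (Submodule.mem_top : a w ∈ ⊤)
    exact ⟨P, hP, e.symm⟩
  have hP : ∀ P ∈ Algebra.adjoin F ({fW} : Set (Module.End F ↥W)), fW * P = P * fW ∧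
      ∀ a : ↥D, (a : Module.End F ↥W) * P = P * a := by
    intro P hP
    refine ⟨(Algebra.commute_of_mem_adjoin_self hP).eq, fun a => ?_⟩
    exact (Algebra.commute_of_mem_adjoin_singleton_of_commute hP (show Commute (a : Module.End F ↥W) fW from (hD a).symm)).eq
  have hcomm : ∀ a b : ↥D, a * b = b * a := by
    intro a b
    refine Subtype.ext (sub_eq_zero.1 (hdet _ ?_ ?_))
    · refine LinearMap.ext fun v => ?_
      simp only [Module.End.mul_apply, LinearMap.sub_apply, Subalgebra.coe_mul, map_sub, hD']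
    · obtain ⟨P, hPm, eP⟩ := hcyc a
      obtain ⟨Q, hQm, eQ⟩ := hcyc b
      obtain ⟨-, hPa⟩ := hP P hPm
      obtain ⟨-, hQa⟩ := hP Q hQm
      simp only [Subalgebra.coe_mul, LinearMap.sub_apply, Module.End.mul_apply, eP, eQ]
      rw [← Module.End.mul_apply, hQa a, Module.End.mul_apply, eP, ← Module.End.mul_apply (b : Module.End F ↥W),
        hPa b, Module.End.mul_apply, eQ, ← Module.End.mul_apply, ← Module.End.mul_apply,
        (Algebra.commute_of_mem_adjoin_singleton_of_commute hPm
          (Algebra.commute_of_mem_adjoin_self hQm).symm).eq, sub_self]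
  have hdom : ∀ a b : ↥D, a * b = 0 → a = 0 ∨ b = 0 := by
    intro a b hab
    rcases hsimple a (hD a) with h | h
    · refine Or.inr (Subtype.ext (LinearMap.ext fun v => ?_))
      have : (b : Module.End F ↥W) v ∈ LinearMap.ker (a : Module.End F ↥W) :=
        congrArg (fun z : ↥D => (z : Module.End F ↥W) v) hab
      rw [h, Submodule.mem_bot] at this
      exact this
    · exact Or.inl (Subtype.ext (LinearMap.ker_eq_top.1 h))
  have hfin : Module.finrank F ↥D ≤ 6 := by
    rw [← finrank_moved h6 hρ hxp hx]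
    refine LinearMap.finrank_le_finrank_of_injective (f := (LinearMap.applyₗ w).comp D.val.toLinearMap) ?_
    intro a b hab
    refine Subtype.ext (sub_eq_zero.1 (hdet _ (LinearMap.ext fun v => by simp only [Module.End.mul_apply, LinearMap.sub_apply, map_sub, hD']) ?_))
    rw [LinearMap.sub_apply]
    exact sub_eq_zero.2 hab
  have hC : ∀ c : ↥(Subgroup.centralizer ({x} : Set G)), Commute (c : G) x := fun c =>
    Subgroup.mem_centralizer_singleton_iff.1 c.2
  have hC1 : ∀ c : ↥(Subgroup.centralizer ({x} : Set G)), (c : G) * x * (c : G)⁻¹ = x ^ 1 := fun c => by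
    rw [pow_one, (hC c).eq, mul_inv_cancel_right]
  let φ : ↥(Subgroup.centralizer ({x} : Set G)) →* ↥D :=
    { toFun := fun c => ⟨(ρ (c : G)).restrict (moved_mapsTo (hC1 c)), Subalgebra.mem_centralizer_iff F |>.2 (by
        rintro g (rfl : g = fW)
        refine LinearMap.ext fun v => Subtype.ext ?_
        show ρ x (ρ c v) = ρ c (ρ x v)
        rw [← Module.End.mul_apply, ← map_mul, ← (hC c).eq, map_mul, Module.End.mul_apply])⟩
      map_one' := Subtype.ext (LinearMap.ext fun v => Subtype.ext (by simp))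
      map_mul' := fun c c' => Subtype.ext (LinearMap.ext fun v => Subtype.ext (by simp)) }
  refine ⟨D, φ, ?_, hcomm, hdom, hfin, fun c v => rfl⟩
  refine (injective_iff_map_eq_one φ).2 fun c hc => Subtype.ext ?_
  refine eq_one_of_moved h6 hρ hxp hx hcop (hC c) fun v hv => ?_
  exact congrArg (fun a : ↥D => (((a : Module.End F ↥W) ⟨v, hv⟩ : ↥W) : Fin 8 → F)) hc

/-- The centraliser is cyclic. -/
theorem isCyclic_centralizer : IsCyclic ↥(Subgroup.centralizer ({x} : Set G)) := by
  obtain ⟨D, φ, hφ, hcomm, hdom, -, -⟩ := exists_algebra h6 hρ hxp hx hcop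
  letI : CommRing ↥D := { (Subalgebra.toRing (R := F) (A := Module.End F ↥(moved ρ x)) D : Ring ↥D) with mul_comm := fun a b => hcomm a b }
  have : Nontrivial ↥D := ⟨φ ⟨x, Subgroup.mem_centralizer_singleton_iff.2 rfl⟩, 1, fun e => hx (congrArg Subtype.val (hφ (e.trans φ.map_one.symm)))⟩
  have : NoZeroDivisors ↥D := ⟨fun {a b} h => hdom a b h⟩
  have : IsDomain ↥D := NoZeroDivisors.to_isDomain _
  exact isCyclic_of_subgroup_isDomain φ hφ

/-- Elements normalising `⟨x⟩` conjugate `x` to a power `x^(q^i)`. -/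
theorem exists_conj_eq {n : G} (hn : n * x * n⁻¹ ∈ Subgroup.zpowers x) :
    ∃ i, n * x * n⁻¹ = x ^ (Fintype.card F ^ i) := by
  obtain ⟨k, hk⟩ : ∃ k : ℕ, x ^ k = n * x * n⁻¹ :=
    Submonoid.mem_powers_iff _ _ |>.1 ((isOfFinOrder_of_finite x).mem_powers_iff_mem_zpowers.2 hn)
  obtain ⟨D, φ, hφ, hcomm, hdom, hfin, happ⟩ := exists_algebra h6 hρ hxp hx hcop
  letI : CommRing ↥D := { (Subalgebra.toRing (R := F) (A := Module.End F ↥(moved ρ x)) D : Ring ↥D) with mul_comm := fun a b => hcomm a b }
  letI : Algebra F ↥D := Subalgebra.algebra D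
  set q := Fintype.card F with hq
  have : Nontrivial ↥D := ⟨φ ⟨x, Subgroup.mem_centralizer_singleton_iff.2 rfl⟩, 1, fun e => hx (congrArg Subtype.val (hφ (e.trans φ.map_one.symm)))⟩
  have : NoZeroDivisors ↥D := ⟨fun {a b} h => hdom a b h⟩
  have : IsDomain ↥D := NoZeroDivisors.to_isDomain _
  let xC : ↥(Subgroup.centralizer ({x} : Set G)) := ⟨x, Subgroup.mem_centralizer_singleton_iff.2 rfl⟩
  set δ : ↥D := φ xC with hδ
  set P := minpoly F δ with hP
  have : Module.Finite F ↥D := Module.Finite.of_injective D.val.toLinearMap Subtype.val_injective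
  have hint : IsIntegral F δ := IsIntegral.of_finite F δ
  have h0 : P ≠ 0 := minpoly.ne_zero hint
  have hroot : ∀ i : ℕ, aeval (δ ^ (q ^ i)) P = 0 := by
    intro i
    induction i with
    | zero => rw [pow_zero, pow_one, minpoly.aeval]
    | succ i ih =>
      have := congrArg (FiniteField.frobeniusAlgHom F ↥D) ih
      rw [← aeval_algHom_apply, map_zero, FiniteField.coe_frobeniusAlgHom] at this
      simpa [← pow_mul, ← pow_succ, hq] using this
  have hk0 : aeval (δ ^ k) P = 0 := by
    have hn' : ∀ v ∈ moved ρ x, ρ n v ∈ moved ρ x := moved_mapsTo hk.symm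
    have hlin : ∀ (Q : F[X]) (v : ↥(moved ρ x)),
        ρ n (((aeval δ Q : ↥D) : Module.End F ↥(moved ρ x)) v) =
          ((((aeval (δ ^ k) Q : ↥D) : Module.End F ↥(moved ρ x)) ⟨ρ n v, hn' v v.2⟩ : ↥(moved ρ x)) : Fin 8 → F) := by
      intro Q
      induction Q using Polynomial.induction_on' with
      | add P Q hP hQ => intro v; simp [hP v, hQ v]
      | monomial j a =>
        intro v
        have e : ∀ (y : ↥(Subgroup.centralizer ({x} : Set G))) (j : ℕ) (v : ↥(moved ρ x)),
            ((((φ y ^ j : ↥D) : Module.End F ↥(moved ρ x)) v : ↥(moved ρ x)) : Fin 8 → F) = ρ ((y : G) ^ j) v := by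
          intro y j v
          rw [← map_pow, happ, SubmonoidClass.coe_pow]
        simp only [aeval_monomial, ← Algebra.smul_def, Subalgebra.coe_smul, LinearMap.smul_apply, Submodule.coe_smul,
          map_smul]
        rw [hδ, ← map_pow, happ, ← map_pow, ← map_pow, happ, SubmonoidClass.coe_pow, SubmonoidClass.coe_pow,
          SubmonoidClass.coe_pow]
        show a • ρ n (ρ (x ^ j) v) = a • ρ ((x ^ k) ^ j) (ρ n v)
        rw [← Module.End.mul_apply, ← map_mul, ← Module.End.mul_apply, ← map_mul, hk, conj_pow,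
          inv_mul_cancel_right]
    refine Subtype.ext (LinearMap.ext fun v => ?_)
    obtain ⟨u, hu⟩ : ∃ u : ↥(moved ρ x), (⟨ρ n u, hn' u u.2⟩ : ↥(moved ρ x)) = v := by
      have hinj : Function.Injective ((ρ n).restrict hn') := fun a b e => Subtype.ext (by
        have e' := congrArg Subtype.val e
        simp only [LinearMap.restrict_apply] at e'
        have := congrArg (ρ n⁻¹) e'
        rwa [← Module.End.mul_apply, ← Module.End.mul_apply, ← map_mul, inv_mul_cancel, map_one] at this)
      exact LinearMap.injective_iff_surjective.1 hinj v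
    have h := hlin P u
    rw [hu, hP, minpoly.aeval, ZeroMemClass.coe_zero, LinearMap.zero_apply, ZeroMemClass.coe_zero, map_zero] at h
    exact Subtype.ext h.symm
  classical
  let R : Finset ↥D := (Finset.range 6).image fun i => δ ^ (q ^ i)
  have hord : orderOf δ = p := by
    rw [orderOf_injective φ hφ, ← Subgroup.orderOf_coe]
    exact (Nat.Prime.eq_one_or_self_of_dvd h6.prime _ (orderOf_dvd_of_pow_eq_one hxp)).resolve_left
      fun e => hx (orderOf_eq_one_iff.1 e)
  have hR : R.card = 6 := by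
    rw [Finset.card_image_of_injOn, Finset.card_range]
    suffices ∀ i j, i ≤ j → j < 6 → δ ^ (q ^ i) = δ ^ (q ^ j) → i = j by
      intro i hi j hj e
      rcases le_total i j with hij | hij
      · exact this i j hij (Finset.mem_range.1 hj) e
      · exact (this j i hij (Finset.mem_range.1 hi) e.symm).symm
    intro i j hij hj e
    have hu : IsUnit δ := IsUnit.of_pow_eq_one (hord ▸ pow_orderOf_eq_one δ) h6.prime.ne_zero
    have hmod : q ^ i ≡ q ^ j [MOD p] := by
      obtain ⟨u, hu⟩ := hu
      rw [← hu, orderOf_units] at hord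
      rw [← hu] at e
      rw [← hord]
      exact (pow_eq_pow_iff_modEq).1 (Units.ext (by simpa using e))
    by_contra hne
    have : q ^ i * 1 ≡ q ^ i * q ^ (j - i) [MOD p] := by rw [mul_one, ← pow_add, Nat.add_sub_cancel' hij]; exact hmod
    have hc : Nat.Coprime p (q ^ i) := Nat.Coprime.pow_right i ((Nat.Prime.coprime_iff_not_dvd h6.prime).2 h6.not_dvd)
    have := Nat.ModEq.cancel_left_of_coprime hc this
    exact h6.lt_six (j - i) (by omega) (by omega)
      ((Nat.modEq_iff_dvd' (Nat.one_le_pow _ _ Fintype.card_pos)).1 this)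
  have hdeg : P.natDegree ≤ 6 := (minpoly.natDegree_le δ).trans hfin
  have hmem : δ ^ k ∈ R := by
    by_contra hnot
    have hsub : insert (δ ^ k) R ⊆ (P.map (algebraMap F ↥D)).roots.toFinset := by
      intro z hz
      rw [Multiset.mem_toFinset, mem_roots (Polynomial.map_ne_zero h0), IsRoot.def, eval_map_algebraMap]
      rcases Finset.mem_insert.1 hz with rfl | hz
      · exact hk0
      · obtain ⟨i, -, rfl⟩ := Finset.mem_image.1 hz
        exact hroot i
    have := (Finset.card_le_card hsub).trans ((Multiset.toFinset_card_le _).trans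
      ((card_roots' _).trans natDegree_map_le))
    rw [Finset.card_insert_of_notMem hnot, hR] at this
    omega
  obtain ⟨i, -, e⟩ := Finset.mem_image.1 hmem
  refine ⟨i, ?_⟩
  rw [← hk]
  have : xC ^ k = xC ^ (q ^ i) := hφ (by rw [map_pow, map_pow, ← hδ, e])
  simpa [xC] using congrArg Subtype.val this

omit hρ in
theorem mulAut_zpowers_isCyclic : IsCyclic (MulAut ↥(Subgroup.zpowers x)) := by
  have := Fact.mk h6.prime
  have hc : Nat.card ↥(Subgroup.zpowers x) = p := by
    rw [Nat.card_zpowers]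
    exact (Nat.Prime.eq_one_or_self_of_dvd h6.prime _ (orderOf_dvd_of_pow_eq_one hxp)).resolve_left
      fun e => hx (orderOf_eq_one_iff.1 e)
  have e := IsCyclic.mulAutMulEquiv (G := ↥(Subgroup.zpowers x))
  rw [hc] at e
  exact isCyclic_of_injective e.toMonoidHom e.injective

/-- The group induced on `⟨x⟩` by any normalising subgroup has order dividing six. -/
theorem relIndex_dvd_six (N : Subgroup G) (hN : ∀ n ∈ N, n * x * n⁻¹ ∈ Subgroup.zpowers x) :
    (Subgroup.centralizer ({x} : Set G)).relIndex N ∣ 6 := by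
  have hcyc := mulAut_zpowers_isCyclic h6 hxp hx hcop
  have hmap : ∀ n ∈ N, ∀ a ∈ Subgroup.zpowers x, n * a * n⁻¹ ∈ Subgroup.zpowers x := by
    intro n hn a ha
    obtain ⟨j, rfl⟩ := Subgroup.mem_zpowers_iff.1 ha
    rw [← conj_zpow]
    exact zpow_mem (hN n hn) j
  let ψ : ↥N →* MulAut ↥(Subgroup.zpowers x) :=
    { toFun := fun n =>
        { toFun := fun a => ⟨n * a * (n : G)⁻¹, hmap n n.2 a a.2⟩
          invFun := fun a => ⟨(n : G)⁻¹ * a * n, by simpa using hmap _ (inv_mem n.2) a a.2⟩
          left_inv := fun a => Subtype.ext (by simp [mul_assoc])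
          right_inv := fun a => Subtype.ext (by simp [mul_assoc])
          map_mul' := fun a b => Subtype.ext (by simp) }
      map_one' := MulEquiv.ext fun a => Subtype.ext (by simp)
      map_mul' := fun n n' => MulEquiv.ext fun a => Subtype.ext (by simp [mul_assoc]) }
  have hker : ψ.ker = (Subgroup.centralizer ({x} : Set G)).subgroupOf N := by
    ext n
    rw [MonoidHom.mem_ker, Subgroup.mem_subgroupOf, Subgroup.mem_centralizer_singleton_iff]
    constructor
    · intro h
      have := congrArg (fun e : MulAut ↥(Subgroup.zpowers x) => ((e ⟨x, Subgroup.mem_zpowers x⟩ : ↥(Subgroup.zpowers x)) : G)) h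
      exact mul_inv_eq_iff_eq_mul.1 this
    · intro h
      refine MulEquiv.ext fun a => Subtype.ext ?_
      obtain ⟨j, hj⟩ := Subgroup.mem_zpowers_iff.1 a.2
      show (n : G) * a * (n : G)⁻¹ = a
      rw [← hj]
      exact mul_inv_eq_iff_eq_mul.2 ((show Commute (n : G) x from h).zpow_right j).eq
  rw [Subgroup.relIndex, ← hker, Subgroup.index_ker]
  obtain ⟨g, hg⟩ := IsCyclic.exists_generator (α := ↥ψ.range)
  rw [← orderOf_eq_card_of_forall_mem_zpowers hg]
  refine orderOf_dvd_of_pow_eq_one (Subtype.ext ?_)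
  obtain ⟨_, n, rfl⟩ := g
  obtain ⟨i, hi⟩ := exists_conj_eq h6 hρ hxp hx hcop (hN n n.2)
  have key : ∀ j : ℕ, ((ψ n ^ j) ⟨x, Subgroup.mem_zpowers x⟩ : G) = x ^ ((Fintype.card F ^ i) ^ j) := by
    intro j
    induction j with
    | zero => simp
    | succ j ih =>
      rw [pow_succ', MulAut.mul_apply]
      show (n : G) * _ * (n : G)⁻¹ = _
      rw [ih, ← conj_pow, hi, ← pow_mul, ← pow_succ']
  have h1 : x ^ ((Fintype.card F ^ i) ^ 6) = x := by
    have hmod : (Fintype.card F ^ i) ^ 6 ≡ 1 [MOD p] := by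
      rw [← pow_mul, mul_comm, pow_mul]
      simpa using (((Nat.modEq_iff_dvd' (Nat.one_le_pow _ _ Fintype.card_pos)).2 h6.dvd_six).symm).pow i
    have ho : orderOf x ∣ p := orderOf_dvd_of_pow_eq_one hxp
    conv_rhs => rw [← pow_one x]
    exact pow_eq_pow_iff_modEq.2 (hmod.of_dvd ho)
  show ψ n ^ 6 = 1
  refine MulEquiv.ext fun a => Subtype.ext ?_
  obtain ⟨j, hj⟩ := Subgroup.mem_zpowers_iff.1 a.2
  have ha : a = (⟨x, Subgroup.mem_zpowers x⟩ : ↥(Subgroup.zpowers x)) ^ j := Subtype.ext (by simpa using hj.symm)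
  rw [ha, map_zpow, SubgroupClass.coe_zpow, key 6, h1]
  rfl

end

end Cfsg.Agent.Lib.Ree.Tori
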