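import Cfsg.Agent.Lib.Ree.Tori.Count
import Cfsg.Agent.Lib.Ree.Tori.Rep

/-!
The tori of order dividing `q^2 - q + 1`.
-/

set_option autoImplicit false

namespace Cfsg.Agent.Lib.Ree.Tori

open Subgroup
open scoped Pointwise

variable {G : Type*} [Group G] [Finite G] {K : Type*} [Field K] [Fintype K]

local notation "q" => Fintype.card K

namespace Sys

variable (S : Sys G K)
include S

theorem big_facts : (q ^ 2 - q + 1).Coprime q ∧ (q ^ 2 - q + 1).Coprime (q - 1) ∧ (q ^ 2 - q + 1).Coprime (q + 1) := by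
  have hle : q ≤ q ^ 2 := Nat.le_self_pow (by norm_num) _
  have hq := S.q_ge
  refine ⟨?_, ?_, ?_⟩ <;> refine Nat.coprime_of_dvd' fun r hr h1 h2 => ?_
  · have h3 : r ∣ q ^ 2 - q := Nat.dvd_sub (dvd_pow h2 (by norm_num)) h2
    exact (Nat.dvd_add_right h3).1 h1
  · have e : q ^ 2 - q = q * (q - 1) := by rw [Nat.mul_sub, mul_one, pow_two]
    exact (Nat.dvd_add_right (dvd_mul_of_dvd_right h2 q)).1 (e ▸ h1)
  · have e1 : (q + 1) * q + 3 = (q ^ 2 - q + 1) + 2 * (q + 1) := by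
      have : (q + 1) * q = q ^ 2 + q := by ring
      omega
    have h4 : r ∣ 3 := (Nat.dvd_add_right (dvd_mul_of_dvd_left h2 q)).1 (e1 ▸ dvd_add h1 (dvd_mul_of_dvd_right h2 2))
    have h5 := (Nat.prime_dvd_prime_iff_eq hr Nat.prime_three).1 h4
    subst h5
    have := (Nat.dvd_add_right S.three_dvd).1 h2
    omega

theorem big_pos : 1 < q ^ 2 - q + 1 := by
  have hq := S.q_ge
  have : q * 2 ≤ q ^ 2 := by rw [pow_two]; exact Nat.mul_le_mul_left _ (by omega)
  omega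

theorem sixPrime {p : ℕ} (hp : p.Prime) (hd : p ∣ q ^ 2 - q + 1) : SixPrime q p := by
  have := Fact.mk hp
  obtain ⟨h1, h2, h3⟩ := S.big_facts
  have hpq : ¬ p ∣ q := fun h => hp.one_lt.ne' (Nat.eq_one_of_dvd_coprimes h1 hd h)
  have hp2 : p ≠ 2 := fun h => S.odd_big.not_two_dvd_nat (h ▸ hd)
  have h1' : ∀ k, (q : ZMod p) ^ k = 1 ↔ p ∣ q ^ k - 1 := by
    intro k
    rw [← Nat.cast_pow, ← Nat.cast_one (R := ZMod p), eq_comm, ZMod.natCast_eq_natCast_iff, Nat.modEq_iff_dvd' (Nat.one_le_pow _ _ Fintype.card_pos)]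
  have e3 : (q : ZMod p) ^ 3 = -1 := by
    rw [eq_neg_iff_add_eq_zero]
    have : p ∣ q ^ 3 + 1 := S.cube_add_one ▸ dvd_mul_of_dvd_right hd _
    have := (ZMod.natCast_eq_zero_iff (q ^ 3 + 1) p).2 this
    push_cast at this
    exact this
  have n1 : (q : ZMod p) ≠ 1 := fun h => by
    have := (h1' 1).1 (by rw [pow_one, h])
    rw [pow_one] at this
    exact hp.one_lt.ne' (Nat.eq_one_of_dvd_coprimes h2 hd this)
  have n2 : (q : ZMod p) ^ 2 ≠ 1 := fun h => by
    have h4 := (h1' 2).1 h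
    have e : q ^ 2 - 1 = (q + 1) * (q - 1) := by simpa using Nat.sq_sub_sq q 1
    rw [e] at h4
    rcases hp.dvd_mul.1 h4 with h5 | h5
    exacts [hp.one_lt.ne' (Nat.eq_one_of_dvd_coprimes h3 hd h5), hp.one_lt.ne' (Nat.eq_one_of_dvd_coprimes h2 hd h5)]
  have n3 : (q : ZMod p) ^ 3 ≠ 1 := fun h => by
    rw [e3] at h
    have : ((2 : ℕ) : ZMod p) = 0 := by
      rw [show ((2 : ℕ) : ZMod p) = 1 + 1 by norm_num]
      nth_rw 1 [← h]
      exact neg_add_cancel 1
    exact hp2 ((Nat.prime_dvd_prime_iff_eq hp Nat.prime_two).1 ((ZMod.natCast_eq_zero_iff 2 p).1 this))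
  have e6 : (q : ZMod p) ^ 6 = 1 := by rw [show 6 = 3 * 2 by norm_num, pow_mul, e3]; ring
  refine ⟨hp, hpq, (h1' 6).1 e6, fun k hk0 hk h => ?_⟩
  have hk' := (h1' k).2 h
  have hg : (q : ZMod p) ^ Nat.gcd k 6 = 1 := pow_gcd_eq_one.2 ⟨hk', e6⟩
  interval_cases k
  exacts [n1 (by simpa using hg), n2 (by rwa [show Nat.gcd 2 6 = 2 from rfl] at hg),
    n3 (by rwa [show Nat.gcd 3 6 = 3 from rfl] at hg), n2 (by rwa [show Nat.gcd 4 6 = 2 from rfl] at hg),
    n1 (by simpa [show Nat.gcd 5 6 = 1 from rfl] using hg)]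

theorem seven_le {p : ℕ} (hp : p.Prime) (hd : p ∣ q ^ 2 - q + 1) : 7 ≤ p := by
  have h6 := S.sixPrime hp hd
  have := Fact.mk hp
  by_contra hlt
  have hne : (q : ZMod p) ≠ 0 := fun h => h6.not_dvd ((ZMod.natCast_eq_zero_iff q p).1 h)
  have h := ZMod.pow_card_sub_one_eq_one hne
  refine h6.lt_six (p - 1) (by have := hp.two_le; omega) (by omega) ?_
  rw [← Nat.cast_pow, ← Nat.cast_one (R := ZMod p), eq_comm, ZMod.natCast_eq_natCast_iff, Nat.modEq_iff_dvd' (Nat.one_le_pow _ _ Fintype.card_pos)] at h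
  exact h

/-- Elements centralising an element of prime order dividing `q^2 - q + 1`. -/
theorem coprime_of_commute {x z : G} {p : ℕ} (hp : p.Prime) (hd : p ∣ q ^ 2 - q + 1) (hx : orderOf x = p)
    (hz : Commute z x) : (orderOf z).Coprime (q * (q - 1) * (q + 1)) := by
  obtain ⟨b1, b2, b3⟩ := S.big_facts
  have hq := S.q_ge
  have hpq : ¬ p ∣ q := fun h => hp.one_lt.ne' (Nat.eq_one_of_dvd_coprimes b1 hd h)
  have hpq1 : ¬ p ∣ q - 1 := fun h => hp.one_lt.ne' (Nat.eq_one_of_dvd_coprimes b2 hd h)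
  have hpq2 : ¬ p ∣ q + 1 := fun h => hp.one_lt.ne' (Nat.eq_one_of_dvd_coprimes b3 hd h)
  refine Nat.coprime_of_dvd fun r hr hrz hrd => ?_
  set w := z ^ (orderOf z / r)
  have how : orderOf w = r := orderOf_pow_orderOf_div (orderOf_pos z).ne' hrz
  have hwx : x ∈ centralizer ({w} : Set G) := mem_centralizer_singleton_iff.2 (hz.pow_left _).symm.eq
  have hw1 : w ≠ 1 := fun h => hr.one_lt.ne' (by rw [← how, h, orderOf_one])
  have hcase : ∀ g : G, ∀ {T : Subgroup G}, centralizer ({g * w * g⁻¹} : Set G) ≤ T → p ∣ Nat.card ↥T := by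
    intro g T hle
    have := Subgroup.orderOf_dvd_natCard _ (hle (mem_centralizer_conj (g := g) hwx))
    rwa [orderOf_conj', hx] at this
  by_cases hr2 : r = 2
  · subst hr2
    obtain ⟨g, hg⟩ := S.exists_conj_a hw1 (by rw [← pow_two, ← how]; exact pow_orderOf_eq_one w)
    have := hcase g⁻¹ (T := S.Ca) (by rw [show g⁻¹ * w * g⁻¹⁻¹ = S.a by rw [← hg]; group])
    rw [S.card_Ca] at this
    rcases hp.dvd_mul.1 this with h | h
    · rcases hp.dvd_mul.1 h with h | h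
      exacts [hpq h, hpq1 h]
    · exact hpq2 h
  rcases hr.dvd_mul.1 hrd with h | h
  · rcases hr.dvd_mul.1 h with h | h
    · have h3 := S.q_prime_dvd hr h
      obtain ⟨g, hg⟩ := S.exists_conj_U (x := w) (j := 1) (by rw [how, h3, pow_one])
      have := hcase g (S.centralizer_U_le hg fun e => hw1 (conj_eq_one_iff.1 e))
      rw [S.card_B] at this
      rcases hp.dvd_mul.1 this with h' | h'
      exacts [hpq (hp.dvd_of_dvd_pow h'), hpq1 h']
    · obtain ⟨g, hg⟩ := S.exists_conj_H_prime hr hr2 h (x := w) (j := 1) (by rw [how, pow_one])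
      have hne : g * w * g⁻¹ * (g * w * g⁻¹) ≠ 1 := fun e => by
        have := orderOf_dvd_of_pow_eq_one (show (g * w * g⁻¹) ^ 2 = 1 by rw [pow_two, e])
        rw [orderOf_conj', how] at this
        exact hr2 ((Nat.prime_dvd_prime_iff_eq hr Nat.prime_two).1 this)
      have := hcase g (le_of_eq (S.centralizer_H hg hne))
      rw [S.card_H] at this
      exact hpq1 this
  · have el := S.quarter_facts.2.1
    have hrl : r ∣ (q + 1) / 4 := by
      refine (Nat.Coprime.dvd_of_dvd_mul_left ?_ (el ▸ h))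
      exact hr.coprime_iff_not_dvd.2 fun h4 => hr2 ((Nat.prime_dvd_prime_iff_eq hr Nat.prime_two).1
        (hr.dvd_of_dvd_pow (show r ∣ 2 ^ 2 from h4)))
    obtain ⟨g, hg⟩ := S.exists_conj_W (x := w) (by rwa [how])
    have := hcase g (le_of_eq (S.centralizer_y hg fun e => hw1 (conj_eq_one_iff.1 e)))
    rw [S.card_A] at this
    exact hpq2 this

/-- A torus of order dividing `q^2 - q + 1`. -/
def IsBig (_S : Sys G K) (T : Subgroup G) : Prop :=
  ∃ (p : ℕ) (x : G), p.Prime ∧ p ∣ q ^ 2 - q + 1 ∧ orderOf x = p ∧ T = centralizer ({x} : Set G)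

theorem big_mk {x : G} {p : ℕ} (hp : p.Prime) (hd : p ∣ q ^ 2 - q + 1) (hx : orderOf x = p) :
    S.IsBig (centralizer ({x} : Set G)) := ⟨p, x, hp, hd, hx, rfl⟩

variable {T : Subgroup G}

theorem big_cyclic (hT : S.IsBig T) : IsCyclic ↥T := by
  obtain ⟨p, x, hp, hd, hx, rfl⟩ := hT
  exact isCyclic_centralizer (S.sixPrime hp hd) S.ρ_inj (hx ▸ pow_orderOf_eq_one x)
    (fun h => hp.one_lt.ne' (by rw [← hx, h, orderOf_one])) fun g hg => S.coprime_of_commute hp hd hx hg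

theorem card_G' : Nat.card G = q * (q - 1) * (q + 1) * q ^ 2 * (q ^ 2 - q + 1) := by
  rw [S.card_G, S.cube_add_one]; ring

theorem big_dvd (hT : S.IsBig T) : Nat.card ↥T ∣ q ^ 2 - q + 1 := by
  have hc := S.big_cyclic hT
  obtain ⟨p, x, hp, hd, hx, rfl⟩ := hT
  obtain ⟨g, hg⟩ := IsCyclic.exists_generator (α := ↥(centralizer ({x} : Set G)))
  have e : Nat.card ↥(centralizer ({x} : Set G)) = orderOf (g : G) := by
    rw [Subgroup.orderOf_coe]; exact (orderOf_eq_card_of_forall_mem_zpowers hg).symm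
  have hco := S.coprime_of_commute hp hd hx (mem_centralizer_singleton_iff.1 g.2)
  rw [e]
  have h := orderOf_dvd_natCard (g : G)
  rw [S.card_G'] at h
  refine (Nat.Coprime.mul_right hco ?_).dvd_of_dvd_mul_left h
  exact ((hco.coprime_dvd_right (dvd_mul_of_dvd_left (dvd_mul_right q _) _)).pow_right 2)

theorem big_p_dvd {x : G} {p : ℕ} (hx : orderOf x = p) :
    p ∣ Nat.card ↥(centralizer ({x} : Set G)) :=
  hx ▸ Subgroup.orderOf_dvd_natCard _ (mem_centralizer_singleton_iff.2 rfl)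

theorem big_one_lt (hT : S.IsBig T) : 1 < Nat.card ↥T := by
  obtain ⟨p, x, hp, -, hx, rfl⟩ := hT
  exact hp.one_lt.trans_le (Nat.le_of_dvd Nat.card_pos (big_p_dvd (S := S) hx))

theorem big_comm (hT : S.IsBig T) {u v : G} (hu : u ∈ T) (hv : v ∈ T) : Commute u v := by
  have := S.big_cyclic hT
  exact congrArg Subtype.val (IsMulCommutative.is_comm.comm (⟨u, hu⟩ : ↥T) ⟨v, hv⟩)

theorem big_order (hT : S.IsBig T) {z : G} (hz : z ∈ T) : orderOf z ∣ q ^ 2 - q + 1 :=
  (Subgroup.orderOf_dvd_natCard _ hz).trans (S.big_dvd hT)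

theorem big_centralizer (hT : S.IsBig T) {z : G} (hz : z ∈ T) (hz1 : z ≠ 1) : centralizer ({z} : Set G) = T := by
  have hTz : T ≤ centralizer ({z} : Set G) := fun u hu =>
    mem_centralizer_singleton_iff.2 (S.big_comm hT hu hz).eq
  obtain ⟨r, hr, hrz⟩ := Nat.exists_prime_and_dvd (n := orderOf z) fun h => hz1 (orderOf_eq_one_iff.1 h)
  set w := z ^ (orderOf z / r)
  have how : orderOf w = r := orderOf_pow_orderOf_div (orderOf_pos z).ne' hrz
  have hw := S.big_mk hr (hrz.trans (S.big_order hT hz)) how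
  refine le_antisymm ?_ hTz
  have hwT : w ∈ T := pow_mem hz _
  obtain ⟨p, x, hp, hd, hx, rfl⟩ := hT
  intro u hu
  have huw : u ∈ centralizer ({w} : Set G) :=
    mem_centralizer_singleton_iff.2 ((show Commute u z from mem_centralizer_singleton_iff.1 hu).pow_right _).eq
  have hxw : x ∈ centralizer ({w} : Set G) :=
    mem_centralizer_singleton_iff.2 (mem_centralizer_singleton_iff.1 hwT).symm
  exact mem_centralizer_singleton_iff.2 (S.big_comm hw huw hxw).eq

theorem big_eq {T' : Subgroup G} (hT : S.IsBig T) (hT' : S.IsBig T') {z : G} (hz : z ∈ T) (hz' : z ∈ T')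
    (hz1 : z ≠ 1) : T = T' :=
  (S.big_centralizer hT hz hz1).symm.trans (S.big_centralizer hT' hz' hz1)

theorem mem_big {z : G} {p : ℕ} (hp : p.Prime) (hd : p ∣ q ^ 2 - q + 1) (hz : p ∣ orderOf z) :
    ∃ T : Subgroup G, S.IsBig T ∧ z ∈ T :=
  ⟨_, S.big_mk hp hd (orderOf_pow_orderOf_div (orderOf_pos z).ne' hz),
    mem_centralizer_singleton_iff.2 ((Commute.refl z).pow_right _).eq⟩

/-- Cyclic groups: subgroups are invariant under automorphisms. -/
theorem conj_mem_of_cyclic {W : Subgroup G} [IsCyclic ↥W] {g : G} (hg : ∀ w ∈ W, g * w * g⁻¹ ∈ W)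
    {A₀ : Subgroup G} (hle : A₀ ≤ W) : ∀ x ∈ A₀, g * x * g⁻¹ ∈ A₀ := by
  intro x hx
  obtain ⟨k, hk⟩ := MonoidHom.map_cyclic (G := ↥W)
    { toFun := fun w => (⟨g * w * g⁻¹, hg w w.2⟩ : ↥W)
      map_one' := Subtype.ext (by simp)
      map_mul' := fun u v => Subtype.ext (by simp [mul_assoc]) }
  rw [show g * x * g⁻¹ = x ^ k from congrArg Subtype.val (hk ⟨x, hle hx⟩)]
  exact zpow_mem hx k

theorem big_conj_mem (hT : S.IsBig T) {g z : G} (hz : z ∈ T) (hz1 : z ≠ 1) (hgz : g * z * g⁻¹ ∈ T) :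
    g ∈ normalizer (T : Set G) := mem_normalizer_of_conj fun u hu => by
  rw [← S.big_centralizer hT hgz fun h => hz1 (conj_eq_one_iff.1 h)]
  exact mem_centralizer_conj (by rw [S.big_centralizer hT hz hz1]; exact hu)

theorem big_normalizer_le (hT : S.IsBig T) {A₀ : Subgroup G} (hle : A₀ ≤ T) (hne : A₀ ≠ ⊥) :
    normalizer (A₀ : Set G) = normalizer (T : Set G) := by
  obtain ⟨⟨y, hy⟩, hy1⟩ := (Subgroup.ne_bot_iff_exists_ne_one).mp hne
  have := S.big_cyclic hT
  refine le_antisymm (fun g hg => ?_) fun g hg => mem_normalizer_of_conj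
    (conj_mem_of_cyclic (S := S) (fun w hw => (Subgroup.mem_normalizer_iff.1 hg w).1 hw) hle)
  exact S.big_conj_mem hT (hle hy) (fun e => hy1 (Subtype.ext e)) (hle ((Subgroup.mem_normalizer_iff.1 hg y).1 hy))

/-- The index of a torus in its normaliser. -/
theorem big_normalizer (hT : S.IsBig T) :
    ∃ i, i ∣ 6 ∧ Nat.card ↥(normalizer (T : Set G)) = i * Nat.card ↥T := by
  obtain ⟨p, x, hp, hd, hx, rfl⟩ := hT
  set N := normalizer (centralizer ({x} : Set G) : Set G) with hN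
  have hT := S.big_mk hp hd hx
  have := S.big_cyclic hT
  have hxC : x ∈ centralizer ({x} : Set G) := mem_centralizer_singleton_iff.2 rfl
  refine ⟨(centralizer ({x} : Set G)).relIndex N, relIndex_dvd_six (S.sixPrime hp hd) S.ρ_inj
    (hx ▸ pow_orderOf_eq_one x) (fun h => hp.one_lt.ne' (by rw [← hx, h, orderOf_one]))
    (fun g hg => S.coprime_of_commute hp hd hx hg) N fun g hg => conj_mem_of_cyclic (S := S)
      (fun w hw => (Subgroup.mem_normalizer_iff.1 hg w).1 hw) (zpowers_le.2 hxC) x (mem_zpowers x), ?_⟩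
  rw [mul_comm, Subgroup.relIndex, ← Subgroup.card_mul_index ((centralizer ({x} : Set G)).subgroupOf N),
    Nat.card_congr (Subgroup.subgroupOfEquivOfLe (Subgroup.le_normalizer)).toEquiv]

/-- A torus contains the full Sylow subgroups of its primes. -/
theorem big_sylow (hT : S.IsBig T) {r : ℕ} [Fact r.Prime] (hr : r ∣ Nat.card ↥T) :
    ∃ P : Sylow r G, (P : Subgroup G) ≤ T := by
  obtain ⟨z, hz⟩ := exists_prime_orderOf_dvd_card' r hr
  have hz' : orderOf (z : G) = r := by rw [Subgroup.orderOf_coe]; exact hz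
  have hz1 : (z : G) ≠ 1 := fun h => (Fact.out : r.Prime).one_lt.ne' (by rw [← hz', h, orderOf_one])
  obtain ⟨P, hP⟩ := (IsPGroup.of_card (n := 1) (by rw [Nat.card_zpowers, hz', pow_one]) :
    IsPGroup r ↥(zpowers (z : G))).exists_le_sylow
  have hzP : (z : G) ∈ (P : Subgroup G) := hP (mem_zpowers _)
  have : Nontrivial ↥(P : Subgroup G) := ⟨⟨⟨z, hzP⟩, 1, fun e => hz1 (congrArg Subtype.val e)⟩⟩
  have := (P.2).center_nontrivial
  obtain ⟨c, hc⟩ := exists_ne (1 : ↥(Subgroup.center ↥(P : Subgroup G)))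
  have hc1 : ((c : ↥(P : Subgroup G)) : G) ≠ 1 := fun e => hc (Subtype.ext (Subtype.ext e))
  have hcc : ∀ p ∈ (P : Subgroup G), p * ((c : ↥(P : Subgroup G)) : G) = ((c : ↥(P : Subgroup G)) : G) * p :=
    fun p hp => congrArg Subtype.val (Subgroup.mem_center_iff.1 c.2 ⟨p, hp⟩)
  have hcT : ((c : ↥(P : Subgroup G)) : G) ∈ T := by
    rw [← S.big_centralizer hT z.2 hz1]; exact mem_centralizer_singleton_iff.2 (hcc z hzP).symm
  exact ⟨P, fun p hp => by rw [← S.big_centralizer hT hcT hc1]; exact mem_centralizer_singleton_iff.2 (hcc p hp)⟩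

theorem big_conj_of_prime {T' : Subgroup G} (hT : S.IsBig T) (hT' : S.IsBig T') {r : ℕ} (hr : r.Prime)
    (h : r ∣ Nat.card ↥T) (h' : r ∣ Nat.card ↥T') : ∃ g : G, T' = T.map (MulAut.conj g).toMonoidHom := by
  have := Fact.mk hr
  obtain ⟨P, hP⟩ := S.big_sylow hT h
  obtain ⟨z, hz⟩ := exists_prime_orderOf_dvd_card' r h'
  have hz' : orderOf (z : G) = r := by rw [Subgroup.orderOf_coe]; exact hz
  obtain ⟨Q, hQ⟩ := (IsPGroup.of_card (n := 1) (by rw [Nat.card_zpowers, hz', pow_one]) :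
    IsPGroup r ↥(zpowers (z : G))).exists_le_sylow
  obtain ⟨g, hg⟩ := MulAction.exists_smul_eq G Q P
  have hm : g * z * g⁻¹ ∈ T := by
    have : g * z * g⁻¹ ∈ (g • Q : Sylow r G).toSubgroup := by
      rw [Sylow.coe_subgroup_smul, Subgroup.mem_pointwise_smul_iff_inv_smul_mem, ← map_inv, MulAut.smul_def,
        MulAut.conj_apply, inv_inv]
      simpa [mul_assoc] using hQ (mem_zpowers _)
    rw [hg] at this
    exact hP this
  have hz1 : (z : G) ≠ 1 := fun e => hr.one_lt.ne' (by rw [← hz', e, orderOf_one])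
  refine ⟨g⁻¹, ?_⟩
  rw [← S.big_centralizer hT hm fun e => hz1 (conj_eq_one_iff.1 e), ← centralizer_conj,
    show g⁻¹ * (g * z * g⁻¹) * g⁻¹⁻¹ = z by group, S.big_centralizer hT' z.2 hz1]

/-- The elements of a torus other than one. -/
def YT (T : Subgroup G) : Set G := {z | z ∈ T ∧ z ≠ 1}

omit S in
theorem ncard_YT (T : Subgroup G) : (YT T).ncard = Nat.card ↥T - 1 := by
  rw [show YT T = (T : Set G) \ {1} from rfl, Set.ncard_diff_singleton_of_mem T.one_mem, ← Nat.card_coe_set_eq]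
  rfl

theorem card_conjs_subset_YT (hT : S.IsBig T) (Y : Set G) (hsub : Y ⊆ YT T)
    (hinv : ∀ y ∈ Y, ∀ z ∈ T, orderOf z = orderOf y → z ∈ Y) :
    (conjs Y).ncard * Nat.card ↥(normalizer (T : Set G)) = Nat.card G * Y.ncard :=
  card_conjs _ Y (fun g hg y hy => hinv y hy _ ((Subgroup.mem_normalizer_iff.1 hg y).1 (hsub hy).1) (orderOf_conj' g y))
    fun _ _ hy hgy => S.big_conj_mem hT (hsub hy).1 (hsub hy).2 (hsub hgy).1

theorem mem_conjs_YT (hT : S.IsBig T) {z : G} {r : ℕ} (hr : r.Prime) (hrT : r ∣ Nat.card ↥T) (hrz : r ∣ orderOf z) :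
    z ∈ conjs (YT T) := by
  obtain ⟨T', hT', hzT'⟩ := S.mem_big hr (hrT.trans (S.big_dvd hT)) hrz
  obtain ⟨g, rfl⟩ := S.big_conj_of_prime hT hT' hr hrT (hrz.trans (Subgroup.orderOf_dvd_natCard _ hzT'))
  obtain ⟨y, hy, rfl⟩ := hzT'
  refine ⟨g, y, ⟨hy, fun e => ?_⟩, rfl⟩
  subst e
  rw [map_one, orderOf_one] at hrz
  exact hr.one_lt.ne' (Nat.dvd_one.1 hrz)

end Sys

end Cfsg.Agent.Lib.Ree.Tori
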