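import Cfsg.Agent.Lib.Ree.Tori.Big

/-!
There are exactly two classes of tori of order dividing `q^2 - q + 1`, of orders `q ± r + 1`.
-/

set_option autoImplicit false

namespace Cfsg.Agent.Lib.Ree.Tori

open Subgroup
open scoped Pointwise

variable {G : Type*} [Group G] [Finite G] {K : Type*} [Field K] [Fintype K]

local notation "q" => Fintype.card K

namespace Sys

variable (S : Sys G K)
include S

/-- The elements with a prime divisor of `q^2 - q + 1` in their order. -/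
def BigSet (_S : Sys G K) : Set G := {x | ∃ r : ℕ, r.Prime ∧ r ∣ q ^ 2 - q + 1 ∧ r ∣ orderOf x}

theorem not_coprime_big {a b r : ℕ} (hb : b.Coprime (q ^ 2 - q + 1)) (hr : r.Prime) (h1 : r ∣ q ^ 2 - q + 1)
    (h2 : r ∣ a) (h : a ∣ b) : False :=
  hr.one_lt.ne' (Nat.eq_one_of_dvd_coprimes hb (h2.trans h) h1)

theorem half_dvd : (q + 1) / 2 ∣ q + 1 := Nat.div_dvd_of_dvd (by have := S.q_mod_eight; omega)

theorem three_coprime_big : (3 : ℕ).Coprime (q ^ 2 - q + 1) :=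
  S.big_facts.1.symm.coprime_dvd_left S.three_dvd

theorem BigSet_order {x : G} (hx : x ∈ BigSet S) : orderOf x ∣ q ^ 2 - q + 1 := by
  obtain ⟨r, hr, h1, h2⟩ := hx
  obtain ⟨T, hT, hxT⟩ := S.mem_big hr h1 h2
  exact S.big_order hT hxT

/-- The number of elements of order not prime to `q^2 - q + 1`. -/
theorem ncard_BigSet : 6 * (BigSet S).ncard = 2 * q ^ 4 * (q ^ 2 - 1) * (q - 2) := by
  classical
  obtain ⟨b1, b2, b3⟩ := S.big_facts
  have hq := S.q_ge
  set I : Set G := {x | orderOf x = 2}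
  set CB := conjs S.YB
  set CH := conjs S.YH
  set CA := conjs S.YA
  have oB : ∀ {x}, x ∈ CB → 3 ∣ orderOf x := fun h => S.mem_conjs_YB.1 h
  have oH : ∀ {x}, x ∈ CH → orderOf x ∣ q - 1 ∧ ¬ orderOf x ∣ 2 := fun h =>
    orderOf_of_mem_conjs (P := fun k => k ∣ q - 1 ∧ ¬ k ∣ 2) (fun y hy => S.YH_order hy) h
  have oA : ∀ {x}, x ∈ CA → orderOf x ∣ q + 1 ∧ ¬ orderOf x ∣ 2 := fun h =>
    orderOf_of_mem_conjs (P := fun k => k ∣ q + 1 ∧ ¬ k ∣ 2)
      (fun y hy => ⟨(S.YA_order hy).1.trans S.half_dvd, (S.YA_order hy).2⟩) h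
  have oM : ∀ {x}, x ∈ BigSet S → orderOf x ∣ q ^ 2 - q + 1 ∧ orderOf x ≠ 1 := fun {x} h =>
    ⟨S.BigSet_order h, fun e => by obtain ⟨r, hr, -, h2⟩ := h; rw [e] at h2; exact hr.one_lt.ne' (Nat.dvd_one.1 h2)⟩
  have h32 : ¬ 3 ∣ q - 1 := fun h => by
    have := Nat.eq_one_of_dvd_coprimes (coprime_self_pred (k := q) (by omega)) S.three_dvd h; omega
  have h33 : ¬ 3 ∣ q + 1 := fun h => by have := (Nat.dvd_add_right S.three_dvd).1 h; omega
  have h34 : ¬ 3 ∣ q ^ 2 - q + 1 := fun h => by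
    have := Nat.eq_one_of_dvd_coprimes S.three_coprime_big dvd_rfl h; omega
  have hodd : ∀ {d}, d ∣ q ^ 2 - q + 1 → ¬ 2 ∣ d := fun h h2 => S.odd_big.not_two_dvd_nat (h2.trans h)
  have hgcd2 : ∀ {d}, d ∣ q - 1 → d ∣ q + 1 → d ∣ 2 := fun h1 h2 => by
    have := Nat.dvd_sub h2 h1; rwa [show q + 1 - (q - 1) = 2 by omega] at this
  have d1 : Disjoint ({1} : Set G) I := Set.disjoint_left.2 fun x h h' => by
    rw [Set.mem_singleton_iff] at h; subst h; simp [I] at h'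
  have d2 : Disjoint ({1} ∪ I) CB := Set.disjoint_left.2 fun x h h' => by
    have := oB h'
    rcases h with h | h
    · rw [Set.mem_singleton_iff] at h; rw [h, orderOf_one] at this; omega
    · rw [show orderOf x = 2 from h] at this; omega
  have d3 : Disjoint ({1} ∪ I ∪ CB) CH := Set.disjoint_left.2 fun x h h' => by
    obtain ⟨e1, e2⟩ := oH h'
    rcases h with (h | h) | h
    · rw [Set.mem_singleton_iff] at h; rw [h, orderOf_one] at e2; exact e2 (one_dvd 2)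
    · exact e2 (show orderOf x = 2 from h ▸ rfl).dvd
    · exact h32 ((oB h).trans e1)
  have d4 : Disjoint ({1} ∪ I ∪ CB ∪ CH) CA := Set.disjoint_left.2 fun x h h' => by
    obtain ⟨e1, e2⟩ := oA h'
    rcases h with ((h | h) | h) | h
    · rw [Set.mem_singleton_iff] at h; rw [h, orderOf_one] at e2; exact e2 (one_dvd 2)
    · exact e2 (show orderOf x = 2 from h ▸ rfl).dvd
    · exact h33 ((oB h).trans e1)
    · exact e2 (hgcd2 (oH h).1 e1)
  have d5 : Disjoint ({1} ∪ I ∪ CB ∪ CH ∪ CA) (BigSet S) := Set.disjoint_left.2 fun x h h' => by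
    obtain ⟨e1, e2⟩ := oM h'
    rcases h with (((h | h) | h) | h) | h
    · rw [Set.mem_singleton_iff] at h; exact e2 (by rw [h, orderOf_one])
    · exact hodd e1 (show orderOf x = 2 from h).symm.dvd
    · exact h34 ((oB h).trans e1)
    · exact e2 (Nat.eq_one_of_dvd_coprimes b2 e1 (oH h).1)
    · exact e2 (Nat.eq_one_of_dvd_coprimes b3 e1 (oA h).1)
  have hcov : ({1} ∪ I ∪ CB ∪ CH ∪ CA ∪ BigSet S : Set G) = Set.univ := by
    refine Set.eq_univ_of_forall fun x => ?_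
    by_cases hx1 : x = 1
    · exact Or.inl (Or.inl (Or.inl (Or.inl (Or.inl hx1))))
    by_cases h2 : ∃ r, r.Prime ∧ r ∣ orderOf x ∧ r ≠ 2
    · obtain ⟨r, hr, hrx, hr2⟩ := h2
      have hd : r ∣ q * (q - 1) * (q + 1) * q ^ 2 * (q ^ 2 - q + 1) :=
        S.card_G' ▸ hrx.trans (orderOf_dvd_natCard x)
      rcases hr.dvd_mul.1 hd with h | h
      swap
      · exact Or.inr ⟨r, hr, h, hrx⟩
      have h' : r ∣ q ∨ r ∣ q - 1 ∨ r ∣ q + 1 := by
        rcases hr.dvd_mul.1 h with h | h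
        · rcases hr.dvd_mul.1 h with h | h
          · rcases hr.dvd_mul.1 h with h | h
            exacts [Or.inl h, Or.inr (Or.inl h)]
          · exact Or.inr (Or.inr h)
        · exact Or.inl (hr.dvd_of_dvd_pow h)
      rcases h' with h' | h' | h'
      · exact Or.inl (Or.inl (Or.inl (Or.inr (S.mem_conjs_YB.2 (S.q_prime_dvd hr h' ▸ hrx)))))
      · exact Or.inl (Or.inl (Or.inr (S.mem_conjs_YH hr hr2 h' hrx)))
      · refine Or.inl (Or.inr (S.mem_conjs_YA hr ?_ hrx))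
        refine (Nat.Coprime.dvd_of_dvd_mul_left ?_ (S.quarter_facts.2.1 ▸ h'))
        exact hr.coprime_iff_not_dvd.2 fun h4 => hr2 ((Nat.prime_dvd_prime_iff_eq hr Nat.prime_two).1
          (hr.dvd_of_dvd_pow (show r ∣ 2 ^ 2 from h4)))
    · push Not at h2
      obtain ⟨k, hk⟩ : ∃ k, orderOf x = 2 ^ k := ⟨_, Nat.eq_prime_pow_of_unique_prime_dvd (orderOf_pos x).ne'
        fun {d} hd hdx => h2 d hd hdx⟩
      refine Or.inl (Or.inl (Or.inl (Or.inl (Or.inr ?_))))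
      show orderOf x = 2
      exact orderOf_eq_prime (by rw [pow_two]; exact S.two_elem_sq hk.dvd) hx1
  have hI : I.ncard = q ^ 2 * (q ^ 2 - q + 1) := S.ncard_invol
  have hB : CB.ncard = (q ^ 3 + 1) * S.YB.ncard := by
    have e : S.YB = {b | b ∈ S.B ∧ ∃ d, orderOf b = d ∧ 3 ∣ d} := by ext b; simp [YB]
    exact S.card_conjs_YB _ (Or.inl e)
  have hH := S.card_conjs_subset_YH S.YH subset_rfl fun y hy z hz e => ⟨hz, fun h2 => (S.YH_order hy).2
    (e ▸ orderOf_dvd_of_pow_eq_one (by rw [pow_two, h2]))⟩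
  have hA := S.card_conjs_subset_YA S.YA subset_rfl fun y hy z hz e => ⟨hz, fun h2 => (S.YA_order hy).2
    (e ▸ orderOf_dvd_of_pow_eq_one (by rw [pow_two, S.E_sq h2]))⟩
  have hYB := S.ncard_YB
  rw [S.ncard_YH, S.card_G] at hH
  rw [S.ncard_YA, S.card_G] at hA
  have hsum : Nat.card G = 1 + I.ncard + CB.ncard + CH.ncard + CA.ncard + (BigSet S).ncard := by
    rw [← Set.ncard_univ, ← hcov, Set.ncard_union_eq d5, Set.ncard_union_eq d4, Set.ncard_union_eq d3,
      Set.ncard_union_eq d2, Set.ncard_union_eq d1, Set.ncard_singleton]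
  rw [S.card_G, hI, hB] at hsum
  have hq2 : 2 ≤ q := by omega
  have e1 : (1 : ℕ) ≤ q ^ 2 := Nat.one_le_pow _ _ (by omega)
  have e2 : q ≤ q ^ 2 := Nat.le_self_pow (by norm_num) _
  zify [e1, e2, hq2, show 1 ≤ q by omega, show 3 ≤ q by omega, show 4 ≤ q + 1 by omega] at hsum hYB hH hA ⊢
  have h1 : (2 : ℤ) * CH.ncard = (q : ℤ) ^ 3 * ((q : ℤ) ^ 3 + 1) * ((q : ℤ) - 3) :=
    mul_right_cancel₀ (b := (q : ℤ) - 1) (by omega) (by linear_combination hH)
  have h2 : (6 : ℤ) * CA.ncard = (q : ℤ) ^ 3 * ((q : ℤ) - 1) * ((q : ℤ) ^ 2 - q + 1) * ((q : ℤ) - 3) :=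
    mul_right_cancel₀ (b := (q : ℤ) + 1) (by omega) (by linear_combination hA)
  linear_combination (-6 : ℤ) * hsum - 3 * h1 - h2 - 6 * ((q : ℤ) ^ 3 + 1) * hYB

theorem BigSet_mul : 6 * (BigSet S).ncard * (q ^ 2 - q + 1) + 2 * (q + 1) * Nat.card G =
    2 * (q ^ 2 - q + 1) * Nat.card G := by
  have h := S.ncard_BigSet
  have hq := S.q_ge
  rw [h, S.card_G]
  have e1 : (1 : ℕ) ≤ q ^ 2 := Nat.one_le_pow _ _ (by omega)
  have e2 : q ≤ q ^ 2 := Nat.le_self_pow (by norm_num) _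
  zify [e1, e2, show 1 ≤ q by omega, show 2 ≤ q by omega]
  ring

theorem conjs_YT_subset {T : Subgroup G} (hT : S.IsBig T) : conjs (YT T) ⊆ BigSet S := by
  rintro _ ⟨g, y, ⟨hy, hy1⟩, rfl⟩
  obtain ⟨r, hr, hrd⟩ := Nat.exists_prime_and_dvd (n := orderOf y) fun h => hy1 (orderOf_eq_one_iff.1 h)
  exact ⟨r, hr, hrd.trans (S.big_order hT hy), by rwa [orderOf_conj']⟩

theorem disjoint_conjs_YT {T T' : Subgroup G} (h : (Nat.card ↥T).Coprime (Nat.card ↥T')) :
    Disjoint (conjs (YT T)) (conjs (YT T')) := by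
  refine Set.disjoint_left.2 fun x h1 h2 => ?_
  obtain ⟨g, y, ⟨hy, hy1⟩, rfl⟩ := h1
  obtain ⟨g', y', ⟨hy', -⟩, e⟩ := h2
  refine hy1 (orderOf_eq_one_iff.1 (Nat.eq_one_of_dvd_coprimes h (Subgroup.orderOf_dvd_natCard _ hy) ?_))
  rw [← orderOf_conj' g y, ← e, orderOf_conj']
  exact Subgroup.orderOf_dvd_natCard _ hy'

/-- Data of one class of tori. -/
theorem class_data {T : Subgroup G} (hT : S.IsBig T) : ∃ i, (i = 1 ∨ i = 2 ∨ i = 3 ∨ i = 6) ∧
    Nat.card ↥(normalizer (T : Set G)) = i * Nat.card ↥T ∧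
    (conjs (YT T)).ncard * (i * Nat.card ↥T) + Nat.card G = Nat.card G * Nat.card ↥T ∧ 7 ≤ Nat.card ↥T := by
  obtain ⟨i, hi, hN⟩ := S.big_normalizer hT
  have h := S.card_conjs_subset_YT hT (YT T) subset_rfl fun y hy z hz e => ⟨hz, fun h => hy.2
    (orderOf_eq_one_iff.1 (by rw [← e, h, orderOf_one]))⟩
  rw [hN, ncard_YT] at h
  have h1 := S.big_one_lt hT
  refine ⟨i, ?_, hN, ?_, ?_⟩
  · have : i ≤ 6 := Nat.le_of_dvd (by norm_num) hi
    interval_cases i <;> first | omega | (norm_num at hi)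
  · rw [h, Nat.mul_sub, mul_one, Nat.sub_add_cancel (Nat.le_mul_of_pos_right _ (by omega))]
  · obtain ⟨p, hp, hd⟩ := Nat.exists_prime_and_dvd (show Nat.card ↥T ≠ 1 by omega)
    exact (S.seven_le hp (hd.trans (S.big_dvd hT))).trans (Nat.le_of_dvd (by omega) hd)

theorem coprime_of_not_conj {T T' : Subgroup G} (hT : S.IsBig T) (hT' : S.IsBig T') {r : ℕ} (hr : r.Prime)
    (h' : r ∣ Nat.card ↥T') (hn : ¬ r ∣ Nat.card ↥T) : (Nat.card ↥T).Coprime (Nat.card ↥T') := by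
  refine Nat.coprime_of_dvd fun s hs h1 h2 => hn ?_
  obtain ⟨g, rfl⟩ := S.big_conj_of_prime hT hT' hs h1 h2
  rwa [Subgroup.card_map_of_injective (MulAut.conj g).injective] at h'

theorem exists_big {r : ℕ} (hr : r.Prime) (h : r ∣ q ^ 2 - q + 1) : ∃ T, S.IsBig T ∧ r ∣ Nat.card ↥T := by
  have := Fact.mk hr
  obtain ⟨x, hx⟩ := exists_prime_orderOf_dvd_card' (G := G) r (S.card_G' ▸ dvd_mul_of_dvd_right h _)
  exact ⟨_, S.big_mk hr h hx, big_p_dvd (S := S) hx⟩

theorem exists_missing {T : Subgroup G} (hT : S.IsBig T) (hsub : ¬ BigSet S ⊆ conjs (YT T)) :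
    ∃ r, r.Prime ∧ r ∣ q ^ 2 - q + 1 ∧ ¬ r ∣ Nat.card ↥T := by
  obtain ⟨x, ⟨r, hr, h1, h2⟩, hx⟩ := Set.not_subset.1 hsub
  exact ⟨r, hr, h1, fun h => hx (S.mem_conjs_YT hT hr h h2)⟩

/-- The root `r` of `3q`. -/
abbrev rt : ℕ := 3 ^ (S.m + 1)

theorem rt_sq : S.rt * S.rt = 3 * q := by
  rw [S.card_K, ← pow_add, ← pow_succ']; congr 1; omega

theorem rt_lt : S.rt < q := by
  rw [S.card_K]; exact Nat.pow_lt_pow_right (by norm_num) (by have := S.one_le_m; omega)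

/-- The two classes of tori of order dividing `q^2 - q + 1`. -/
theorem exists_two : ∃ T₁ T₂ : Subgroup G, S.IsBig T₁ ∧ S.IsBig T₂ ∧
    Nat.card ↥T₁ = q - S.rt + 1 ∧ Nat.card ↥T₂ = q + S.rt + 1 ∧
    Nat.card ↥T₁ * Nat.card ↥T₂ = q ^ 2 - q + 1 ∧
    Nat.card ↥(normalizer (T₁ : Set G)) = 6 * Nat.card ↥T₁ ∧
    Nat.card ↥(normalizer (T₂ : Set G)) = 6 * Nat.card ↥T₂ := by
  classical
  have hkey := S.BigSet_mul
  set M := q ^ 2 - q + 1 with hM
  set b := (BigSet S).ncard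
  set g := Nat.card G with hg
  have hg0 : 0 < g := Nat.card_pos
  have hM1 := S.big_pos
  have hq := S.q_ge
  have hsmall : 3 * b ≤ g := by
    by_contra hc
    have := Nat.mul_lt_mul_of_pos_right (not_le.1 hc) (show 0 < M by omega)
    nlinarith
  obtain ⟨p, hp, hpd⟩ := Nat.exists_prime_and_dvd (show M ≠ 1 by omega)
  obtain ⟨T₁, hT₁, hp₁⟩ := S.exists_big hp hpd
  obtain ⟨i, hi, hN₁, hc₁, ha7⟩ := S.class_data hT₁
  set a := Nat.card ↥T₁ with ha
  set c₁ := (conjs (YT T₁)).ncard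
  have hadvd : a ∣ M := S.big_dvd hT₁
  -- some prime is missed by the first class
  have hmiss : ∃ r, r.Prime ∧ r ∣ M ∧ ¬ r ∣ a := by
    refine S.exists_missing hT₁ fun hsub => ?_
    have hcb : c₁ = b := le_antisymm (Set.ncard_le_ncard (S.conjs_YT_subset hT₁) (Set.toFinite _))
      (Set.ncard_le_ncard hsub (Set.toFinite _))
    by_cases hall : ∀ r, r.Prime → r ∣ M → r ∣ a
    · -- then the torus has order `M`
      have haM : a = M := by
        refine Nat.dvd_antisymm hadvd ?_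
        rw [Nat.dvd_iff_prime_pow_dvd_dvd]
        intro r k hr hk
        rcases Nat.eq_zero_or_pos k with rfl | hk0
        · simp
        have := Fact.mk hr
        obtain ⟨P, hP⟩ := S.big_sylow hT₁ (hall r hr ((dvd_pow_self r hk0.ne').trans hk))
        exact (P.pow_dvd_card_of_pow_dvd_card (hk.trans (S.card_G' ▸ dvd_mul_left _ _))).trans
          (Subgroup.card_dvd_of_le hP)
      rw [haM, hcb] at hc₁
      have hiq : 3 * (M - 1) = i * (M - (q + 1)) ∧ q + 1 ≤ M := by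
        have hle : q + 1 ≤ M := by
          have : q * 2 ≤ q ^ 2 := by rw [pow_two]; exact Nat.mul_le_mul_left _ (by omega)
          omega
        refine ⟨Nat.eq_of_mul_eq_mul_left hg0 ?_, hle⟩
        zify [hle, show 1 ≤ M by omega] at hc₁ hkey ⊢
        nlinarith
      obtain ⟨h1, h2⟩ := hiq
      have hqq : q * 27 ≤ q ^ 2 := by rw [pow_two]; exact Nat.mul_le_mul_left _ (by omega)
      rcases hi with rfl | rfl | rfl | rfl <;> omega
    · push Not at hall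
      obtain ⟨r, hr, hrM, hra⟩ := hall
      obtain ⟨T, hT, hrT⟩ := S.exists_big hr hrM
      have : Nontrivial ↥T := Finite.one_lt_card_iff_nontrivial.1 (S.big_one_lt hT)
      obtain ⟨y, hy⟩ := exists_ne (1 : ↥T)
      have hyB := hsub (S.conjs_YT_subset hT ⟨1, y, ⟨y.2, fun e => hy (Subtype.ext e)⟩, rfl⟩)
      exact Set.disjoint_left.1 (disjoint_conjs_YT (S := S) (S.coprime_of_not_conj hT₁ hT hr hrT hra))
        hyB ⟨1, y, ⟨y.2, fun e => hy (Subtype.ext e)⟩, rfl⟩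
  obtain ⟨r, hr, hrM, hra⟩ := hmiss
  obtain ⟨T₂, hT₂, hr₂⟩ := S.exists_big hr hrM
  obtain ⟨j, hj, hN₂, hc₂, hb7⟩ := S.class_data hT₂
  have hco := S.coprime_of_not_conj hT₁ hT₂ hr hr₂ hra
  set a' := Nat.card ↥T₂ with ha'
  set c₂ := (conjs (YT T₂)).ncard
  have hd₂ : a' ∣ M := S.big_dvd hT₂
  -- a class is at least a seventh of the group
  have hlow : ∀ {i a c : ℕ}, (i = 1 ∨ i = 2 ∨ i = 3 ∨ i = 6) → c * (i * a) + g = g * a → 7 ≤ a →
      g ≤ 7 * c ∧ (i ≠ 6 → 2 * g ≤ 7 * c) := by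
    intro i a c hi h ha
    have hga : g * 7 ≤ g * a := Nat.mul_le_mul_left g ha
    refine ⟨?_, fun hne => ?_⟩
    · by_contra hlt
      have h2 : c * 7 * (i * a) < g * (i * a) := Nat.mul_lt_mul_of_pos_right (by omega)
        (Nat.mul_pos (by omega) (by omega))
      have h3 : i * a ≤ 6 * a := Nat.mul_le_mul_right a (by omega)
      have h4 : g * (i * a) ≤ g * (6 * a) := Nat.mul_le_mul_left g h3
      nlinarith
    · by_contra hlt
      have h2 : c * 7 * (i * a) < 2 * g * (i * a) := Nat.mul_lt_mul_of_pos_right (by omega)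
        (Nat.mul_pos (by omega) (by omega))
      have h3 : i * a ≤ 3 * a := Nat.mul_le_mul_right a (by omega)
      have h4 : 2 * g * (i * a) ≤ 2 * g * (3 * a) := Nat.mul_le_mul_left _ h3
      nlinarith
  have hd12 := disjoint_conjs_YT (S := S) hco
  have hle12 : c₁ + c₂ ≤ b := by
    rw [← Set.ncard_union_eq hd12]
    exact Set.ncard_le_ncard (Set.union_subset (S.conjs_YT_subset hT₁) (S.conjs_YT_subset hT₂)) (Set.toFinite _)
  -- every prime is in one of the two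
  have hall : ∀ s, s.Prime → s ∣ M → s ∣ a ∨ s ∣ a' := by
    intro s hs hsM
    by_contra hc
    push Not at hc
    obtain ⟨T₃, hT₃, hs₃⟩ := S.exists_big hs hsM
    obtain ⟨l, hl, -, hc₃, hc7⟩ := S.class_data hT₃
    have e13 := disjoint_conjs_YT (S := S) (S.coprime_of_not_conj hT₁ hT₃ hs hs₃ hc.1)
    have e23 := disjoint_conjs_YT (S := S) (S.coprime_of_not_conj hT₂ hT₃ hs hs₃ hc.2)
    have h3 : c₁ + c₂ + (conjs (YT T₃)).ncard ≤ b := by
      rw [← Set.ncard_union_eq hd12, ← Set.ncard_union_eq (Set.disjoint_union_left.2 ⟨e13, e23⟩)]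
      exact Set.ncard_le_ncard (Set.union_subset (Set.union_subset (S.conjs_YT_subset hT₁) (S.conjs_YT_subset hT₂))
        (S.conjs_YT_subset hT₃)) (Set.toFinite _)
    have := (hlow hi hc₁ ha7).1
    have := (hlow hj hc₂ hb7).1
    have := (hlow hl hc₃ hc7).1
    omega
  have hprod : a * a' = M := by
    refine Nat.dvd_antisymm (hco.mul_dvd_of_dvd_of_dvd hadvd hd₂) ?_
    rw [Nat.dvd_iff_prime_pow_dvd_dvd]
    intro s k hs hk
    rcases Nat.eq_zero_or_pos k with rfl | hk0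
    · simp
    have := Fact.mk hs
    rcases hall s hs ((dvd_pow_self s hk0.ne').trans hk) with h | h
    · obtain ⟨P, hP⟩ := S.big_sylow hT₁ h
      exact dvd_mul_of_dvd_left ((P.pow_dvd_card_of_pow_dvd_card (hk.trans (S.card_G' ▸ dvd_mul_left _ _))).trans
        (Subgroup.card_dvd_of_le hP)) _
    · obtain ⟨P, hP⟩ := S.big_sylow hT₂ h
      exact dvd_mul_of_dvd_right ((P.pow_dvd_card_of_pow_dvd_card (hk.trans (S.card_G' ▸ dvd_mul_left _ _))).trans
        (Subgroup.card_dvd_of_le hP)) _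
  have hsum : c₁ + c₂ = b := by
    refine le_antisymm hle12 ?_
    rw [← Set.ncard_union_eq hd12]
    refine Set.ncard_le_ncard (fun x ⟨s, hs, h1, h2⟩ => ?_) (Set.toFinite _)
    rcases hall s hs h1 with h | h
    exacts [Or.inl (S.mem_conjs_YT hT₁ hs h h2), Or.inr (S.mem_conjs_YT hT₂ hs h h2)]
  have hi6 : i = 6 := by
    by_contra hne
    have := (hlow hi hc₁ ha7).2 hne
    have := (hlow hj hc₂ hb7).1
    omega
  have hj6 : j = 6 := by
    by_contra hne
    have := (hlow hj hc₂ hb7).2 hne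
    have := (hlow hi hc₁ ha7).1
    omega
  subst hi6 hj6
  have hadd : a + a' = 2 * (q + 1) := by
    refine Nat.eq_of_mul_eq_mul_left hg0 ?_
    rw [← hsum, ← hprod] at hkey
    nlinarith
  have hr2 := S.rt_sq
  have hrlt := S.rt_lt
  set rr := S.rt
  have hle : q ≤ q ^ 2 := Nat.le_self_pow (by norm_num) _
  have hsq : (((a : ℤ) - (q + 1)) - rr) * (((a : ℤ) - (q + 1)) + rr) = 0 := by
    have hMz : (M : ℤ) = (q : ℤ) ^ 2 - q + 1 := by rw [hM]; push_cast [hle]; ring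
    have e1 : (a : ℤ) * a' = M := by exact_mod_cast hprod
    have e2 : (a : ℤ) + a' = 2 * (q + 1) := by exact_mod_cast hadd
    have e3 : (rr : ℤ) * rr = 3 * q := by exact_mod_cast hr2
    linear_combination (-1 : ℤ) * e1 + (a : ℤ) * e2 - hMz - e3
  rcases mul_eq_zero.1 hsq with h | h
  · exact ⟨T₂, T₁, hT₂, hT₁, by omega, by omega, by rw [mul_comm]; exact hprod, hN₂, hN₁⟩
  · exact ⟨T₁, T₂, hT₁, hT₂, by omega, by omega, hprod, hN₁, hN₂⟩

end Sys

end Cfsg.Agent.Lib.Ree.Tori
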