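import Cfsg.Agent.Lib.Ree.Tori.QuarterC

/-!
Counting the elements conjugate into `B`, `H` and `A`.
-/

set_option autoImplicit false

namespace Cfsg.Agent.Lib.Ree.Tori

open Subgroup
open scoped Pointwise

variable {G : Type*} [Group G] [Finite G] {K : Type*} [Field K] [Fintype K]

local notation "q" => Fintype.card K

/-- The union of the conjugates of a set. -/
def conjs (Y : Set G) : Set G := {x | ∃ g : G, ∃ y ∈ Y, g * y * g⁻¹ = x}

theorem mem_conjs_of_conj {Y : Set G} {g x : G} (h : g * x * g⁻¹ ∈ Y) : x ∈ conjs Y :=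
  ⟨g⁻¹, g * x * g⁻¹, h, by group⟩

/-- Conjugates of a set which meets each of its conjugates only for normalising elements. -/
theorem card_conjs (N : Subgroup G) (Y : Set G) (hN : ∀ g ∈ N, ∀ y ∈ Y, g * y * g⁻¹ ∈ Y)
    (hY : ∀ g : G, ∀ y ∈ Y, g * y * g⁻¹ ∈ Y → g ∈ N) :
    (conjs Y).ncard * Nat.card ↥N = Nat.card G * Y.ncard := by
  rw [← Nat.card_coe_set_eq, ← Nat.card_coe_set_eq, ← Nat.card_prod, ← Nat.card_prod]
  have hrep : ∀ x : ↥(conjs Y), ∃ g : G, g⁻¹ * x * g ∈ Y := by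
    rintro ⟨_, g, y, hy, rfl⟩
    exact ⟨g, by simpa [mul_assoc] using hy⟩
  choose c hc using hrep
  refine Nat.card_congr (Equiv.ofBijective (fun p : ↥(conjs Y) × ↥N => (c p.1 * (p.2 : G),
    (⟨(p.2 : G)⁻¹ * ((c p.1)⁻¹ * p.1 * c p.1) * p.2, by
      simpa using hN _ (inv_mem p.2.2) _ (hc p.1)⟩ : ↥Y))) ⟨?_, ?_⟩)
  · rintro ⟨x, n⟩ ⟨x', n'⟩ e
    simp only [Prod.mk.injEq, Subtype.mk.injEq] at e
    obtain ⟨e1, e2⟩ := e
    have hx : x = x' := Subtype.ext (by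
      calc (x : G) = c x * n * ((n : G)⁻¹ * ((c x)⁻¹ * x * c x) * n) * (c x * n)⁻¹ := by group
        _ = c x' * n' * ((n' : G)⁻¹ * ((c x')⁻¹ * x' * c x') * n') * (c x' * n')⁻¹ := by rw [e1, e2]
        _ = x' := by group)
    subst hx
    exact Prod.ext rfl (Subtype.ext (mul_left_cancel e1))
  · rintro ⟨g, y⟩
    have hx : g * y * g⁻¹ ∈ conjs Y := ⟨g, y, y.2, rfl⟩
    have hn : (c ⟨_, hx⟩)⁻¹ * g ∈ N := hY _ y y.2 (by
      have := hc ⟨_, hx⟩
      simpa [mul_assoc] using this)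
    refine ⟨(⟨_, hx⟩, ⟨_, hn⟩), Prod.ext (by simp) (Subtype.ext ?_)⟩
    show ((c ⟨_, hx⟩)⁻¹ * g)⁻¹ * ((c ⟨_, hx⟩)⁻¹ * (g * y * g⁻¹) * c ⟨_, hx⟩) * ((c ⟨_, hx⟩)⁻¹ * g) = y
    group

theorem orderOf_conj' (g x : G) : orderOf (g * x * g⁻¹) = orderOf x :=
  ((SemiconjBy.conj_mk g x).orderOf_eq _).symm

theorem orderOf_of_mem_conjs {Y : Set G} {P : ℕ → Prop} (h : ∀ y ∈ Y, P (orderOf y)) {x : G} (hx : x ∈ conjs Y) :
    P (orderOf x) := by
  obtain ⟨g, y, hy, rfl⟩ := hx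
  rw [orderOf_conj']
  exact h y hy

namespace Sys

variable (S : Sys G K)
include S

theorem pow_mul_H {u h : G} (hu : u ∈ S.U) (hh : h ∈ S.H) : ∀ k : ℕ, ∃ v ∈ S.U, (u * h) ^ k = v * h ^ k := by
  intro k
  induction k with
  | zero => exact ⟨1, one_mem _, by simp⟩
  | succ k ih =>
    obtain ⟨v, hv, e⟩ := ih
    refine ⟨v * (h ^ k * u * (h ^ k)⁻¹), mul_mem hv (S.U_conj _ (S.H_le (pow_mem hh k)) u hu), ?_⟩
    rw [pow_succ, e, pow_succ]; group

theorem mem_U_of_three {x : G} (hx : x ∈ S.B) {j : ℕ} (ho : orderOf x ∣ 3 ^ j) : x ∈ S.U := by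
  obtain ⟨u, hu, h, hh, rfl⟩ := S.split x hx
  obtain ⟨v, hv, e⟩ := S.pow_mul_H hu hh (3 ^ j)
  rw [orderOf_dvd_iff_pow_eq_one.1 ho] at e
  have h1 : h ^ 3 ^ j = 1 := (S.uh_unique (one_mem _) hv (one_mem _) (pow_mem hh _) (by rw [one_mul]; exact e)).2.symm
  have h3 : h = 1 := orderOf_eq_one_iff.1 (Nat.eq_one_of_dvd_coprimes (a := q - 1) (b := 3 ^ j) ?_
    (S.card_H ▸ Subgroup.orderOf_dvd_natCard _ hh) (orderOf_dvd_of_pow_eq_one h1))
  · simpa [h3] using hu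
  · exact (Nat.Coprime.coprime_dvd_left S.three_dvd (coprime_self_pred (by have := S.q_ge; omega))).symm.pow_right j

theorem coprime_q_of_not_three {k : ℕ} (h : ¬ 3 ∣ k) : k.Coprime q := by
  rw [S.card_K]; exact ((Nat.prime_three.coprime_iff_not_dvd.2 h).symm).pow_right _

theorem not_three_dvd_H {h : G} (hh : h ∈ S.H) : ¬ 3 ∣ orderOf h := fun h3 => by
  have := Nat.eq_one_of_dvd_coprimes (coprime_self_pred (k := q) (by have := S.q_ge; omega)) S.three_dvd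
    (h3.trans (S.card_H ▸ Subgroup.orderOf_dvd_natCard _ hh))
  omega

theorem mem_U_of_pow {x : G} (hx : x ∈ S.U) : orderOf x ∣ 3 ^ 2 :=
  orderOf_dvd_of_pow_eq_one (by norm_num; exact S.nine x hx)

/-- The orders divisible by three in `B`. -/
theorem order_three_B {b : G} (hb : b ∈ S.B) (h3 : 3 ∣ orderOf b) :
    orderOf b = 3 ∨ orderOf b = 6 ∨ orderOf b = 9 := by
  obtain ⟨i, m, hm, hb'⟩ := Nat.exists_eq_pow_mul_and_not_dvd (orderOf_pos b).ne' 3 (by norm_num)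
  have hi : i ≠ 0 := fun e => hm (by rw [e, pow_zero, one_mul] at hb'; exact hb' ▸ h3)
  have hm0 : m ≠ 0 := fun e => hm (e ▸ dvd_zero 3)
  have o1 : orderOf (b ^ m) = 3 ^ i := by
    rw [orderOf_pow' _ hm0, hb', Nat.gcd_mul_left_left, Nat.mul_div_cancel _ (Nat.pos_of_ne_zero hm0)]
  have o2 : orderOf (b ^ 3 ^ i) = m := by
    rw [orderOf_pow' _ (by positivity), hb', Nat.gcd_mul_right_left, Nat.mul_div_cancel_left _ (by positivity)]
  have hu := S.mem_U_of_three (pow_mem hb m) (j := i) (by rw [o1])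
  obtain ⟨v, hv, hh⟩ := S.exists_conj_H (pow_mem hb (3 ^ i)) (by rw [o2]; exact S.coprime_q_of_not_three hm)
  set h := v⁻¹ * b ^ 3 ^ i * v
  have hu' : v⁻¹ * b ^ m * v ∈ S.U := mul_mem (mul_mem (inv_mem hv) hu) hv
  have hne : v⁻¹ * b ^ m * v ≠ 1 := fun e => by
    have e' : b ^ m = 1 := by
      calc b ^ m = v * (v⁻¹ * b ^ m * v) * v⁻¹ := by group
        _ = 1 := by rw [e]; group
    rw [e', orderOf_one] at o1
    have : 1 < 3 ^ i := Nat.one_lt_pow hi (by norm_num)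
    omega
  have hc : Commute h (v⁻¹ * b ^ m * v) := by
    show v⁻¹ * b ^ 3 ^ i * v * (v⁻¹ * b ^ m * v) = v⁻¹ * b ^ m * v * (v⁻¹ * b ^ 3 ^ i * v)
    calc v⁻¹ * b ^ 3 ^ i * v * (v⁻¹ * b ^ m * v) = v⁻¹ * (b ^ 3 ^ i * b ^ m) * v := by group
      _ = v⁻¹ * (b ^ m * b ^ 3 ^ i) * v := by rw [(Commute.pow_pow_self b _ _).eq]
      _ = _ := by group
  have h2 := S.fpf h hh _ hu' hne hc
  have hoh : orderOf h = m := by
    rw [← o2, show h = v⁻¹ * b ^ 3 ^ i * v⁻¹⁻¹ by rw [inv_inv]]; exact orderOf_conj' _ _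
  have hou : orderOf (v⁻¹ * b ^ m * v) = 3 ^ i := by
    rw [← o1, show v⁻¹ * b ^ m * v = v⁻¹ * b ^ m * v⁻¹⁻¹ by rw [inv_inv]]; exact orderOf_conj' _ _
  have hi2 : i ≤ 2 := (Nat.pow_dvd_pow_iff_le_right (by norm_num : 1 < 3)).1 (o1 ▸ S.mem_U_of_pow hu)
  rcases S.sq_eq_one hh h2 with e | e
  · have hm1 : m = 1 := by rw [← hoh, e, orderOf_one]
    rw [hb', hm1]
    interval_cases i <;> first | exact absurd rfl hi | norm_num
  · have hm2 : m = 2 := by rw [← hoh, e, S.orderOf_a]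
    have h3' := orderOf_dvd_of_pow_eq_one (S.cube_CU _ hu' (e ▸ hc))
    rw [hou] at h3'
    have hi1 : i ≤ 1 := (Nat.pow_dvd_pow_iff_le_right (by norm_num : 1 < 3)).1 (by rwa [pow_one])
    rw [hb', hm2]
    interval_cases i <;> first | exact absurd rfl hi | norm_num

/-- The elements of `B` of order prime to three. -/
theorem ncard_not_three : {b | b ∈ S.B ∧ ¬ 3 ∣ orderOf b}.ncard = 1 + q ^ 2 + q ^ 3 * (q - 3) := by
  classical
  set Z : Set G := {b | b ∈ S.B ∧ ¬ 3 ∣ orderOf b}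
  set H' : Set G := {h | h ∈ S.H ∧ h * h ≠ 1}
  set R : Set G := (fun p : G × G => p.1 * p.2 * p.1⁻¹) '' ((S.U : Set G) ×ˢ H')
  set Oa : Set G := {x | ∃ u ∈ S.U, u * S.a * u⁻¹ = x}
  have hun : ∀ {u h u' h' : G}, u ∈ S.U → h ∈ S.H → u' ∈ S.U → h' ∈ S.H → u * h * u⁻¹ = u' * h' * u'⁻¹ →
      h = h' ∧ Commute h (u'⁻¹ * u) := by
    intro u h u' h' hu hh hu' hh' e
    have hv : u'⁻¹ * u ∈ S.U := mul_mem (inv_mem hu') hu
    have e1 : (u'⁻¹ * u) * h = h' * (u'⁻¹ * u) := by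
      calc u'⁻¹ * u * h = u'⁻¹ * (u * h * u⁻¹) * u := by group
        _ = h' * (u'⁻¹ * u) := by rw [e]; group
    have e2 : (u'⁻¹ * u) * h = (h' * (u'⁻¹ * u) * h'⁻¹) * h' := by rw [e1]; group
    obtain ⟨-, e3⟩ := S.uh_unique hv (S.U_conj h' (S.H_le hh') _ hv) hh hh' e2
    exact ⟨e3, show h * (u'⁻¹ * u) = u'⁻¹ * u * h by rw [e1, e3]⟩
  have hZ : Z = insert 1 (Oa ∪ R) := by
    ext b
    constructor
    · rintro ⟨hb, h3⟩
      obtain ⟨u, hu, hh⟩ := S.exists_conj_H hb (S.coprime_q_of_not_three h3)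
      have e : b = u * (u⁻¹ * b * u) * u⁻¹ := by group
      by_cases h2 : u⁻¹ * b * u * (u⁻¹ * b * u) = 1
      · rcases S.sq_eq_one hh h2 with h | h
        · exact Or.inl (by rw [e, h]; group)
        · exact Or.inr (Or.inl ⟨u, hu, h ▸ e.symm⟩)
      · exact Or.inr (Or.inr ⟨(u, _), ⟨hu, hh, h2⟩, e.symm⟩)
    · rintro (rfl | ⟨u, hu, rfl⟩ | ⟨⟨u, h⟩, ⟨hu, hh, -⟩, rfl⟩)
      · exact ⟨one_mem _, by rw [orderOf_one]; norm_num⟩
      · exact ⟨mul_mem (mul_mem (S.U_le hu) (S.H_le S.a_mem)) (inv_mem (S.U_le hu)),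
          by rw [orderOf_conj']; exact S.not_three_dvd_H S.a_mem⟩
      · exact ⟨mul_mem (mul_mem (S.U_le hu) (S.H_le hh)) (inv_mem (S.U_le hu)),
          by rw [orderOf_conj']; exact S.not_three_dvd_H hh⟩
  have h1 : (1 : G) ∉ Oa ∪ R := by
    rintro (⟨u, -, e⟩ | ⟨⟨u, h⟩, ⟨-, -, h2⟩, e⟩)
    · exact S.a_ne (conj_eq_one_iff.1 e)
    · exact h2 (by rw [conj_eq_one_iff.1 e, one_mul])
  have hd : Disjoint Oa R := Set.disjoint_left.2 fun x ⟨u, hu, e⟩ ⟨⟨u', h'⟩, ⟨hu', hh', h2⟩, e'⟩ =>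
    h2 (by rw [← (hun hu S.a_mem hu' hh' (e.trans e'.symm)).1]; exact S.a_sq)
  have hOa : Oa.ncard = q ^ 2 := by
    have h := card_conjSet S.U S.a
    rw [show Nat.card {y // ∃ g ∈ S.U, g * S.a * g⁻¹ = y} = Oa.ncard from Nat.card_coe_set_eq _, S.card_CU, S.card_U] at h
    exact Nat.eq_of_mul_eq_mul_right Fintype.card_pos (h.trans (by ring))
  have hH' : H'.ncard = q - 3 := by
    have e : H' = (S.H : Set G) \ {1, S.a} := by
      ext h
      simp only [H', Set.mem_setOf_eq, Set.mem_diff, SetLike.mem_coe, Set.mem_insert_iff, Set.mem_singleton_iff]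
      refine ⟨fun ⟨hh, h2⟩ => ⟨hh, fun h' => h2 ?_⟩, fun ⟨hh, h2⟩ => ⟨hh, fun h' => h2 (S.sq_eq_one hh h')⟩⟩
      rcases h' with rfl | rfl
      exacts [one_mul 1, S.a_sq]
    rw [e, Set.ncard_diff (by rintro x (rfl | rfl); exacts [S.H.one_mem, S.a_mem]), Set.ncard_pair S.a_ne.symm,
      ← Nat.card_coe_set_eq, show Nat.card ↥(S.H : Set G) = q - 1 from S.card_H]
    omega
  have hR : R.ncard = q ^ 3 * (q - 3) := by
    rw [Set.ncard_image_of_injOn, Set.ncard_prod, hH', ← Nat.card_coe_set_eq]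
    · exact congrArg (· * (q - 3)) S.card_U
    · rintro ⟨u, h⟩ ⟨hu, hh, h2⟩ ⟨u', h'⟩ ⟨hu', hh', -⟩ e
      obtain ⟨rfl, hc⟩ := hun hu hh hu' hh' e
      by_cases hv : u'⁻¹ * u = 1
      · exact Prod.ext (inv_mul_eq_one.1 hv).symm rfl
      · exact absurd (S.fpf h hh _ (mul_mem (inv_mem hu') hu) hv hc) h2
  rw [hZ, Set.ncard_insert_of_notMem h1, Set.ncard_union_eq hd, hOa, hR]
  omega

/-- The elements of `B` of order divisible by three. -/
def YB : Set G := {b | b ∈ S.B ∧ 3 ∣ orderOf b}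

theorem ncard_YB : S.YB.ncard + (q ^ 2 + 1) = 2 * q ^ 3 := by
  have e : (S.B : Set G) = S.YB ∪ {b | b ∈ S.B ∧ ¬ 3 ∣ orderOf b} := by
    ext b; simp only [SetLike.mem_coe, YB, Set.mem_union, Set.mem_setOf_eq]; tauto
  have hd : Disjoint S.YB {b | b ∈ S.B ∧ ¬ 3 ∣ orderOf b} := Set.disjoint_left.2 fun x h h' => h'.2 h.2
  have h : (S.B : Set G).ncard = q ^ 3 * (q - 1) := by rw [← Nat.card_coe_set_eq]; exact S.card_B
  rw [e, Set.ncard_union_eq hd, S.ncard_not_three] at h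
  obtain ⟨r, hr⟩ : ∃ r, q = r + 3 := ⟨q - 3, by have := S.q_ge; omega⟩
  rw [show q - 1 = r + 2 by omega, show q - 3 = r by omega, mul_add] at h
  omega

theorem mem_conjs_YB {x : G} : x ∈ conjs S.YB ↔ 3 ∣ orderOf x := by
  refine ⟨orderOf_of_mem_conjs (P := fun n => 3 ∣ n) fun y hy => hy.2, fun h3 => ?_⟩
  set u := x ^ (orderOf x / 3)
  have hou : orderOf u = 3 := orderOf_pow_orderOf_div (orderOf_pos x).ne' h3
  obtain ⟨g, hg⟩ := S.exists_conj_U (x := u) (j := 1) (by rw [hou, pow_one])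
  refine mem_conjs_of_conj (g := g) ⟨S.centralizer_U_le hg (fun e => ?_) ?_, by rwa [orderOf_conj']⟩
  · rw [conj_eq_one_iff.1 e, orderOf_one] at hou; norm_num at hou
  · exact mem_centralizer_conj (mem_centralizer_singleton_iff.2 ((Commute.refl x).pow_right _).eq)

theorem card_conjs_YB (Y : Set G) (hY : Y = {b | b ∈ S.B ∧ ∃ d, orderOf b = d ∧ 3 ∣ d} ∨
    ∃ d, 3 ∣ d ∧ Y = {b | b ∈ S.B ∧ orderOf b = d}) : (conjs Y).ncard = (q ^ 3 + 1) * Y.ncard := by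
  have hmem : ∀ y ∈ Y, y ∈ S.YB := by
    rcases hY with rfl | ⟨d, hd, rfl⟩
    · rintro y ⟨hy, d, e, hd⟩; exact ⟨hy, e ▸ hd⟩
    · rintro y ⟨hy, e⟩; exact ⟨hy, e ▸ hd⟩
  have hN : ∀ g ∈ S.B, ∀ y ∈ Y, g * y * g⁻¹ ∈ Y := by
    intro g hg y hy
    have := mul_mem (mul_mem hg (hmem y hy).1) (inv_mem hg)
    rcases hY with rfl | ⟨d, hd, rfl⟩
    · exact ⟨this, by rw [orderOf_conj']; exact hy.2⟩
    · exact ⟨this, by rw [orderOf_conj']; exact hy.2⟩
  have h := card_conjs S.B Y hN fun g y hy hgy => by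
    obtain ⟨hyB, h3⟩ := hmem y hy
    have hou : orderOf (y ^ (orderOf y / 3)) = 3 := orderOf_pow_orderOf_div (orderOf_pos y).ne' h3
    refine S.mem_B_of_conj_U (S.mem_U_of_three (pow_mem hyB _) (j := 1) (by rw [hou, pow_one])) (fun e => ?_) ?_
    · rw [e, orderOf_one] at hou; norm_num at hou
    · rw [← conj_pow]; exact pow_mem (hmem _ hgy).1 _
  rw [S.card_G, S.card_B] at h
  refine Nat.eq_of_mul_eq_mul_right (m := q ^ 3 * (q - 1)) ?_ ?_
  · have := S.q_ge; exact Nat.mul_pos (pow_pos (by omega) _) (by omega)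
  · rw [h]; ring

/-- The regular elements of `H`. -/
def YH : Set G := {h | h ∈ S.H ∧ h * h ≠ 1}

theorem ncard_YH : S.YH.ncard = q - 3 := by
  classical
  have e : S.YH = (S.H : Set G) \ {1, S.a} := by
    ext h
    simp only [YH, Set.mem_setOf_eq, Set.mem_diff, SetLike.mem_coe, Set.mem_insert_iff, Set.mem_singleton_iff]
    refine ⟨fun ⟨hh, h2⟩ => ⟨hh, fun h' => h2 ?_⟩, fun ⟨hh, h2⟩ => ⟨hh, fun h' => h2 (S.sq_eq_one hh h')⟩⟩
    rcases h' with rfl | rfl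
    exacts [one_mul 1, S.a_sq]
  rw [e, Set.ncard_diff (by rintro x (rfl | rfl); exacts [S.H.one_mem, S.a_mem]), Set.ncard_pair S.a_ne.symm,
    ← Nat.card_coe_set_eq, show Nat.card ↥(S.H : Set G) = q - 1 from S.card_H]
  omega

theorem exists_regular : ∃ h ∈ S.H, h * h ≠ 1 := by
  obtain ⟨h, hh⟩ := Set.nonempty_of_ncard_ne_zero (s := S.YH) (by rw [S.ncard_YH]; have := S.q_ge; omega)
  exact ⟨h, hh⟩

theorem n_mem_normalizer_H : S.n ∈ normalizer (S.H : Set G) :=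
  mem_normalizer_of_conj fun h hh => by rw [S.n_inv h hh]; exact inv_mem hh

theorem conj_mem_normalizer {h g : G} (hh : h ∈ S.H) (h2 : h * h ≠ 1) (hg : g * h * g⁻¹ ∈ S.H) :
    g ∈ normalizer (S.H : Set G) := by
  rcases S.conj_mem_H hh h2 hg with h' | ⟨k, hk, rfl⟩
  · exact Subgroup.le_normalizer h'
  · exact mul_mem S.n_mem_normalizer_H (Subgroup.le_normalizer hk)

theorem card_normalizer_H : Nat.card ↥(normalizer (S.H : Set G)) = 2 * (q - 1) := by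
  obtain ⟨h, hh, h2⟩ := S.exists_regular
  have e : (normalizer (S.H : Set G) : Set G) = (S.H : Set G) ∪ (fun k => S.n * k) '' (S.H : Set G) := by
    ext g
    constructor
    · intro hg
      rcases S.conj_mem_H hh h2 ((Subgroup.mem_normalizer_iff.1 hg h).1 hh) with h' | ⟨k, hk, rfl⟩
      exacts [Or.inl h', Or.inr ⟨k, hk, rfl⟩]
    · rintro (h' | ⟨k, hk, rfl⟩)
      exacts [Subgroup.le_normalizer h', mul_mem S.n_mem_normalizer_H (Subgroup.le_normalizer hk)]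
  have hd : Disjoint (S.H : Set G) ((fun k => S.n * k) '' (S.H : Set G)) := Set.disjoint_left.2 fun g hg ⟨k, hk, ek⟩ =>
    S.n_notMem (S.H_le (by
      have : S.n * k * k⁻¹ ∈ S.H := mul_mem (show S.n * k ∈ S.H by simp only at ek; rw [ek]; exact hg) (inv_mem hk)
      simpa using this))
  rw [show Nat.card ↥(normalizer (S.H : Set G)) = (normalizer (S.H : Set G) : Set G).ncard from Nat.card_coe_set_eq _,
    e, Set.ncard_union_eq hd, Set.ncard_image_of_injective _ (mul_right_injective S.n), ← Nat.card_coe_set_eq,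
    show Nat.card ↥(S.H : Set G) = q - 1 from S.card_H]
  omega

/-- Elements with an odd prime divisor of `q - 1` in their order. -/
theorem mem_conjs_YH {x : G} {r : ℕ} (hr : r.Prime) (hr2 : r ≠ 2) (hrq : r ∣ q - 1) (hrx : r ∣ orderOf x) :
    x ∈ conjs S.YH := by
  set z := x ^ (orderOf x / r)
  have hoz : orderOf z = r := orderOf_pow_orderOf_div (orderOf_pos x).ne' hrx
  obtain ⟨g, hg⟩ := S.exists_conj_H_prime hr hr2 hrq (x := z) (j := 1) (by rw [hoz, pow_one])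
  have hne : g * z * g⁻¹ * (g * z * g⁻¹) ≠ 1 := fun e => by
    have := orderOf_dvd_of_pow_eq_one (show (g * z * g⁻¹) ^ 2 = 1 by rw [pow_two, e])
    rw [orderOf_conj', hoz] at this
    exact hr2 ((Nat.prime_dvd_prime_iff_eq hr Nat.prime_two).1 this)
  have hx' : g * x * g⁻¹ ∈ S.H := by
    rw [← S.centralizer_H hg hne]
    exact mem_centralizer_conj (mem_centralizer_singleton_iff.2 ((Commute.refl x).pow_right _).eq)
  refine mem_conjs_of_conj (g := g) ⟨hx', fun e => ?_⟩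
  have := orderOf_dvd_of_pow_eq_one (show (g * x * g⁻¹) ^ 2 = 1 by rw [pow_two, e])
  rw [orderOf_conj'] at this
  exact hr2 ((Nat.prime_dvd_prime_iff_eq hr Nat.prime_two).1 (hrx.trans this))

theorem YH_order {h : G} (hh : h ∈ S.YH) : orderOf h ∣ q - 1 ∧ ¬ orderOf h ∣ 2 :=
  ⟨S.card_H ▸ Subgroup.orderOf_dvd_natCard _ hh.1, fun h' => hh.2 (by
    rw [← pow_two]; exact orderOf_dvd_iff_pow_eq_one.1 h')⟩

theorem card_conjs_subset_YH (Y : Set G) (hsub : Y ⊆ S.YH) (hinv : ∀ y ∈ Y, ∀ z ∈ S.H, orderOf z = orderOf y → z ∈ Y) :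
    (conjs Y).ncard * (2 * (q - 1)) = Nat.card G * Y.ncard := by
  rw [← S.card_normalizer_H]
  exact card_conjs _ Y (fun g hg y hy => hinv y hy _ ((Subgroup.mem_normalizer_iff.1 hg y).1 (hsub hy).1)
    (orderOf_conj' g y)) fun g y hy hgy => S.conj_mem_normalizer (hsub hy).1 (hsub hy).2 (hsub hgy).1

/-- The regular elements of `A`. -/
def YA : Set G := {g | g ∈ S.A ∧ g ∉ S.E}

theorem ncard_YA : S.YA.ncard = q + 1 - 4 := by
  have e : S.YA = (S.A : Set G) \ (S.E : Set G) := rfl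
  rw [e, Set.ncard_diff (fun x hx => S.E_le_A hx), ← Nat.card_coe_set_eq, ← Nat.card_coe_set_eq,
    show Nat.card ↥(S.A : Set G) = q + 1 from S.card_A, show Nat.card ↥(S.E : Set G) = 4 from S.card_E]

theorem YA_sq {g : G} (hg : g ∈ S.YA) : g * g ∈ S.W ∧ g * g ≠ 1 := by
  refine ⟨?_, fun h => hg.2 (S.A_invol hg.1 h)⟩
  obtain ⟨e, he, w, hw, rfl⟩ := hg.1
  have : e * w * (e * w) = w * w := by
    rw [show e * w * (e * w) = e * (w * e) * w by group, ← (S.E_commute_D he (S.W_le hw)).eq, ← mul_assoc e e,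
      S.E_sq he, one_mul]
  rw [this]
  exact mul_mem hw hw

theorem YA_order {g : G} (hg : g ∈ S.YA) : orderOf g ∣ (q + 1) / 2 ∧ ¬ orderOf g ∣ 2 :=
  ⟨orderOf_dvd_of_pow_eq_one (S.A_pow hg.1), fun h' => hg.2 (S.A_invol hg.1 (by
    rw [← pow_two]; exact orderOf_dvd_iff_pow_eq_one.1 h'))⟩

theorem mem_conjs_YA {x : G} {r : ℕ} (hr : r.Prime) (hrl : r ∣ (q + 1) / 4) (hrx : r ∣ orderOf x) :
    x ∈ conjs S.YA := by
  set z := x ^ (orderOf x / r)
  have hoz : orderOf z = r := orderOf_pow_orderOf_div (orderOf_pos x).ne' hrx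
  obtain ⟨g, hg⟩ := S.exists_conj_W (x := z) (by rwa [hoz])
  have hx' : g * x * g⁻¹ ∈ S.A := by
    rw [← S.centralizer_y hg fun e => hr.one_lt.ne' (by rw [← hoz, conj_eq_one_iff.1 e, orderOf_one])]
    exact mem_centralizer_conj (mem_centralizer_singleton_iff.2 ((Commute.refl x).pow_right _).eq)
  refine mem_conjs_of_conj (g := g) ⟨hx', fun e => ?_⟩
  have h2 := orderOf_dvd_of_pow_eq_one (show (g * x * g⁻¹) ^ 2 = 1 by rw [pow_two, S.E_sq e])
  rw [orderOf_conj'] at h2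
  exact S.quarter_facts.1.not_two_dvd_nat ((Nat.prime_dvd_prime_iff_eq hr Nat.prime_two).1 (hrx.trans h2) ▸ hrl)

theorem normalizer_E_conj_A {g x : G} (hg : g ∈ normalizer (S.E : Set G)) (hx : x ∈ S.A) : g * x * g⁻¹ ∈ S.A := by
  obtain ⟨e, he, w, hw, rfl⟩ := hx
  exact ⟨g * e * g⁻¹, (Subgroup.mem_normalizer_iff.1 hg e).1 he, g * w * g⁻¹, S.normalizer_E_conj_W hg hw, by group⟩

theorem card_conjs_subset_YA (Y : Set G) (hsub : Y ⊆ S.YA) (hinv : ∀ y ∈ Y, ∀ z ∈ S.A, orderOf z = orderOf y → z ∈ Y) :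
    (conjs Y).ncard * (6 * (q + 1)) = Nat.card G * Y.ncard := by
  rw [← S.card_normalizer_E]
  refine card_conjs _ Y (fun g hg y hy => hinv y hy _ (S.normalizer_E_conj_A hg (hsub hy).1) (orderOf_conj' g y)) ?_
  intro g y hy hgy
  obtain ⟨h1, h1'⟩ := S.YA_sq (hsub hy)
  obtain ⟨h2, h2'⟩ := S.YA_sq (hsub hgy)
  rw [show g * y * g⁻¹ * (g * y * g⁻¹) = g * (y * y) * g⁻¹ by group] at h2 h2'
  refine mem_normalizer_of_conj fun e he => S.A_invol ?_ ?_
  · rw [← S.centralizer_y h2 h2']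
    exact mem_centralizer_conj (by rw [S.centralizer_y h1 h1']; exact S.E_le_A he)
  · rw [show g * e * g⁻¹ * (g * e * g⁻¹) = g * (e * e) * g⁻¹ by group, S.E_sq he]; group

/-- The involutions. -/
theorem ncard_invol : {x : G | orderOf x = 2}.ncard = q ^ 2 * (q ^ 2 - q + 1) := by
  have e : {x : G | orderOf x = 2} = conjs ({S.a} : Set G) := by
    ext x
    constructor
    · intro hx
      have h2 : x * x = 1 := by rw [← pow_two, ← hx]; exact pow_orderOf_eq_one x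
      obtain ⟨g, hg⟩ := S.exists_conj_a (fun h => by simp [h] at hx) h2
      exact ⟨g, S.a, rfl, hg⟩
    · rintro ⟨g, _, rfl, rfl⟩
      exact (orderOf_conj' g S.a).trans S.orderOf_a
  have h := card_conjs S.Ca ({S.a} : Set G)
    (fun g hg y hy => by
      rw [Set.mem_singleton_iff] at hy ⊢
      rw [hy, (S.mem_Ca.1 hg).eq, mul_inv_cancel_right])
    (fun g y hy hgy => by
      rw [Set.mem_singleton_iff] at hy hgy
      exact S.mem_Ca.2 (mul_inv_eq_iff_eq_mul.1 (hy ▸ hgy)))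
  rw [← e, S.card_Ca, Set.ncard_singleton, S.card_G, S.cube_add_one, mul_one] at h
  refine Nat.eq_of_mul_eq_mul_right (m := q * (q - 1) * (q + 1)) ?_ (h.trans (by ring))
  have := S.q_ge
  exact Nat.mul_pos (Nat.mul_pos (by omega) (by omega)) (by omega)

end Sys

end Cfsg.Agent.Lib.Ree.Tori
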