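import Mathlib

/-!
Linear algebra: three commuting involutions all of whose products have equal fixed space dimension in
dimension eight, and maps of order prime to `q(q-1)` fixing a vector of a plane.
-/

set_option autoImplicit false

namespace Cfsg.Agent.Lib.Ree.Tori.Lin

variable {F : Type*} [Field F] {V : Type*} [AddCommGroup V] [Module F V] [FiniteDimensional F V]

/-- The eigenspace of a sign. -/
def eig (A : Module.End F V) (ε : Bool) : Submodule F V :=
  LinearMap.ker (A - (if ε then (1 : F) else -1) • LinearMap.id)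

theorem mem_eig_true {A : Module.End F V} {v : V} : v ∈ eig A true ↔ A v = v := by
  simp [eig, sub_eq_zero]

theorem mem_eig_false {A : Module.End F V} {v : V} : v ∈ eig A false ↔ A v = -v := by
  simp [eig, sub_eq_zero, add_eq_zero_iff_eq_neg]

theorem eig_mapsTo {A B : Module.End F V} (h : Commute A B) (ε : Bool) : ∀ v ∈ eig A ε, B v ∈ eig A ε := by
  intro v hv
  have e : A (B v) = B (A v) := LinearMap.congr_fun h.eq v
  cases ε
  · rw [mem_eig_false] at hv ⊢; rw [e, hv, map_neg]
  · rw [mem_eig_true] at hv ⊢; rw [e, hv]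

theorem inf_mapsTo {B : Module.End F V} {W W' : Submodule F V} (h : ∀ v ∈ W, B v ∈ W) (h' : ∀ v ∈ W', B v ∈ W') :
    ∀ v ∈ W ⊓ W', B v ∈ W ⊓ W' := fun v hv => ⟨h v hv.1, h' v hv.2⟩

variable (h2 : (2 : F) ≠ 0)
include h2

theorem split {A : Module.End F V} (hA : A * A = 1) {W : Submodule F V} (hW : ∀ v ∈ W, A v ∈ W) :
    Module.finrank F ↥W = Module.finrank F ↥(W ⊓ eig A true) + Module.finrank F ↥(W ⊓ eig A false) ∧
      W ≤ (W ⊓ eig A true) ⊔ (W ⊓ eig A false) := by
  have hle : W ≤ (W ⊓ eig A true) ⊔ (W ⊓ eig A false) := by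
    intro v hv
    have e : v = (2 : F)⁻¹ • (v + A v) + (2 : F)⁻¹ • (v - A v) := by
      rw [← smul_add, show v + A v + (v - A v) = (2 : F) • v by rw [two_smul]; abel, smul_smul,
        inv_mul_cancel₀ h2, one_smul]
    have hAA : A (A v) = v := LinearMap.congr_fun hA v
    rw [e]
    refine Submodule.add_mem_sup ⟨W.smul_mem _ (W.add_mem hv (hW v hv)), ?_⟩ ⟨W.smul_mem _ (W.sub_mem hv (hW v hv)), ?_⟩
    · exact mem_eig_true.2 (by rw [map_smul, map_add, hAA, add_comm])
    · exact mem_eig_false.2 (by rw [map_smul, map_sub, hAA, ← smul_neg, neg_sub])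
  refine ⟨?_, hle⟩
  have e : (W ⊓ eig A true) ⊔ (W ⊓ eig A false) = W := le_antisymm (sup_le inf_le_left inf_le_left) hle
  have hb : (W ⊓ eig A true) ⊓ (W ⊓ eig A false) = ⊥ := by
    rw [eq_bot_iff]
    rintro v ⟨⟨-, h1⟩, -, h1'⟩
    have e1 : v = -v := (mem_eig_true.1 h1).symm.trans (mem_eig_false.1 h1')
    have : (2 : F) • v = 0 := by rw [two_smul]; nth_rw 1 [e1]; exact neg_add_cancel v
    exact (smul_eq_zero.1 this).resolve_left h2
  have := Submodule.finrank_sup_add_finrank_inf_eq (W ⊓ eig A true) (W ⊓ eig A false)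
  rw [e, hb, finrank_bot, add_zero] at this
  exact this

theorem mul_fix {A B : Module.End F V} (hA : A * A = 1) (hB : B * B = 1) (hAB : Commute A B) :
    Module.finrank F ↥(eig (A * B) true) =
      Module.finrank F ↥(eig A true ⊓ eig B true) + Module.finrank F ↥(eig A false ⊓ eig B false) := by
  have hc : Commute (A * B) A := (Commute.refl A).mul_left hAB.symm
  rw [(split h2 hA (eig_mapsTo hc true)).1]
  have key : ∀ ε, eig (A * B) true ⊓ eig A ε = eig A ε ⊓ eig B ε := by
    intro ε
    ext v
    simp only [Submodule.mem_inf]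
    have hBB : B (B v) = v := LinearMap.congr_fun hB v
    have hAA : A (A v) = v := LinearMap.congr_fun hA v
    have hBA : A (B v) = B (A v) := LinearMap.congr_fun hAB.eq v
    cases ε <;> simp only [mem_eig_true, mem_eig_false, Module.End.mul_apply]
    · constructor
      · rintro ⟨h, ha⟩
        refine ⟨ha, ?_⟩
        rw [hBA, ha, map_neg] at h
        rw [← h, neg_neg, h]
      · rintro ⟨ha, hb⟩
        exact ⟨by rw [hb, map_neg, ha, neg_neg], ha⟩
    · constructor
      · rintro ⟨h, ha⟩
        exact ⟨ha, by rwa [hBA, ha] at h⟩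
      · rintro ⟨ha, hb⟩
        exact ⟨by rw [hb, ha], ha⟩
  rw [key, key]

/-- A joint eigenspace of three commuting involutions. -/
def joint (A B C : Module.End F V) (i j k : Bool) : Submodule F V := eig A i ⊓ eig B j ⊓ eig C k

/-- With equal fixed space dimensions all eight joint eigenspaces are lines. -/
theorem joint_lines {A B C : Module.End F V} (hdim : Module.finrank F V = 8) (hA : A * A = 1) (hB : B * B = 1)
    (hC : C * C = 1) (hAB : Commute A B) (hAC : Commute A C) (hBC : Commute B C) (hne : A ≠ 1)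
    (e1 : Module.finrank F ↥(eig B true) = Module.finrank F ↥(eig A true))
    (e2 : Module.finrank F ↥(eig C true) = Module.finrank F ↥(eig A true))
    (e3 : Module.finrank F ↥(eig (A * B) true) = Module.finrank F ↥(eig A true))
    (e4 : Module.finrank F ↥(eig (A * C) true) = Module.finrank F ↥(eig A true))
    (e5 : Module.finrank F ↥(eig (B * C) true) = Module.finrank F ↥(eig A true))
    (e6 : Module.finrank F ↥(eig (A * (B * C)) true) = Module.finrank F ↥(eig A true)) :
    (∀ i j k, Module.finrank F ↥(joint A B C i j k) = 1) ∧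
      (⊤ : Submodule F V) ≤ ⨆ i, ⨆ j, ⨆ k, joint A B C i j k := by
  set x := fun i j k => Module.finrank F ↥(joint A B C i j k) with hx
  have sA : ∀ i, Module.finrank F ↥(eig A i) =
      Module.finrank F ↥(eig A i ⊓ eig B true) + Module.finrank F ↥(eig A i ⊓ eig B false) := fun i =>
    (split h2 hB (eig_mapsTo hAB i)).1
  have sAB : ∀ i j, Module.finrank F ↥(eig A i ⊓ eig B j) = x i j true + x i j false := fun i j =>
    (split h2 hC (inf_mapsTo (eig_mapsTo hAC i) (eig_mapsTo hBC j))).1
  have sB : ∀ j, Module.finrank F ↥(eig B j) =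
      Module.finrank F ↥(eig A true ⊓ eig B j) + Module.finrank F ↥(eig A false ⊓ eig B j) := fun j => by
    rw [(split h2 hA (eig_mapsTo hAB.symm j)).1, inf_comm, inf_comm (eig B j)]
  have sC : ∀ k, Module.finrank F ↥(eig C k) =
      x true true k + x false true k + (x true false k + x false false k) := fun k => by
    rw [(split h2 hB (eig_mapsTo hBC.symm k)).1, (split h2 hA (inf_mapsTo (eig_mapsTo hAC.symm k) (eig_mapsTo hAB.symm true))).1,
      (split h2 hA (inf_mapsTo (eig_mapsTo hAC.symm k) (eig_mapsTo hAB.symm false))).1]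
    have e : ∀ i j, eig C k ⊓ eig B j ⊓ eig A i = joint A B C i j k := fun i j => by
      ext v; simp only [joint, Submodule.mem_inf]; tauto
    rw [e, e, e, e]
  have sAC : ∀ i k, Module.finrank F ↥(eig A i ⊓ eig C k) = x i true k + x i false k := fun i k => by
    rw [(split h2 hB (inf_mapsTo (eig_mapsTo hAB i) (eig_mapsTo hBC.symm k))).1]
    have e : ∀ j, eig A i ⊓ eig C k ⊓ eig B j = joint A B C i j k := fun j => by
      ext v; simp only [joint, Submodule.mem_inf]; tauto
    rw [e, e]
  have sBC : ∀ j k, Module.finrank F ↥(eig B j ⊓ eig C k) = x true j k + x false j k := fun j k => by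
    rw [(split h2 hA (inf_mapsTo (eig_mapsTo hAB.symm j) (eig_mapsTo hAC.symm k))).1]
    have e : ∀ i, eig B j ⊓ eig C k ⊓ eig A i = joint A B C i j k := fun i => by
      ext v; simp only [joint, Submodule.mem_inf]; tauto
    rw [e, e]
  have hBCsq : B * C * (B * C) = 1 := by
    calc B * C * (B * C) = B * (C * B) * C := by simp only [mul_assoc]
      _ = B * (B * C) * C := by rw [← hBC.eq]
      _ = 1 := by rw [← mul_assoc, hB, one_mul, hC]
  have sA2 : ∀ i, Module.finrank F ↥(eig A i ⊓ eig (B * C) true) = x i true true + x i false false := by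
    intro i
    have hcA : Commute A (B * C) := hAB.mul_right hAC
    have hcB : Commute (B * C) B := (Commute.refl B).mul_left hBC.symm
    rw [(split h2 hB (inf_mapsTo (eig_mapsTo hAB i) (eig_mapsTo hcB true))).1]
    have key : ∀ j, eig A i ⊓ eig (B * C) true ⊓ eig B j = joint A B C i j j := by
      intro j
      ext v
      simp only [joint, Submodule.mem_inf]
      have hCC : C (C v) = v := LinearMap.congr_fun hC v
      have hBC' : B (C v) = C (B v) := LinearMap.congr_fun hBC.eq v
      cases j <;> simp only [mem_eig_true, mem_eig_false, Module.End.mul_apply]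
      · constructor
        · rintro ⟨⟨h1, h3⟩, hb⟩
          refine ⟨⟨h1, hb⟩, ?_⟩
          rw [hBC', hb, map_neg] at h3
          exact neg_eq_iff_eq_neg.1 h3
        · rintro ⟨⟨h1, hb⟩, hc⟩
          exact ⟨⟨h1, by rw [hc, map_neg, hb, neg_neg]⟩, hb⟩
      · constructor
        · rintro ⟨⟨h1, h3⟩, hb⟩
          exact ⟨⟨h1, hb⟩, by rwa [hBC', hb] at h3⟩
        · rintro ⟨⟨h1, hb⟩, hc⟩
          exact ⟨⟨h1, by rw [hc, hb]⟩, hb⟩
    rw [key, key]
  have s0 : (8 : ℕ) = Module.finrank F ↥(eig A true) + Module.finrank F ↥(eig A false) := by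
    have := (split h2 hA (W := ⊤) (fun _ _ => trivial)).1
    rw [top_inf_eq, top_inf_eq, finrank_top, hdim] at this
    exact this
  have sF : Module.finrank F ↥(eig (A * (B * C)) true) =
      x true true true + x true false false + (x false true false + x false false true) := by
    have hcA : Commute A (B * C) := hAB.mul_right hAC
    rw [mul_fix h2 hA hBCsq hcA, sA2 true]
    congr 1
    have hcB : Commute (B * C) B := (Commute.refl B).mul_left hBC.symm
    rw [(split h2 hB (inf_mapsTo (eig_mapsTo hAB false) (eig_mapsTo hcB false))).1]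
    have key : ∀ j, eig A false ⊓ eig (B * C) false ⊓ eig B j = joint A B C false j (!j) := by
      intro j
      ext v
      simp only [joint, Submodule.mem_inf]
      have hBC' : B (C v) = C (B v) := LinearMap.congr_fun hBC.eq v
      cases j <;> simp only [mem_eig_true, mem_eig_false, Module.End.mul_apply, Bool.not_true, Bool.not_false]
      · constructor
        · rintro ⟨⟨h1, h3⟩, hb⟩
          refine ⟨⟨h1, hb⟩, ?_⟩
          rw [hBC', hb, map_neg] at h3
          exact neg_injective h3
        · rintro ⟨⟨h1, hb⟩, hc⟩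
          exact ⟨⟨h1, by rw [hc, hb]⟩, hb⟩
      · constructor
        · rintro ⟨⟨h1, h3⟩, hb⟩
          exact ⟨⟨h1, hb⟩, by rwa [hBC', hb] at h3⟩
        · rintro ⟨⟨h1, hb⟩, hc⟩
          exact ⟨⟨h1, by rw [hc, map_neg, hb]⟩, hb⟩
    rw [key, key]
    rfl
  have hA0 : Module.finrank F ↥(eig A true) ≠ 8 := by
    intro h
    refine hne (LinearMap.ext fun v => ?_)
    have hv : v ∈ eig A true := by
      rw [Submodule.eq_top_of_finrank_eq (h.trans hdim.symm)]; trivial
    exact mem_eig_true.1 hv
  have hd : ∀ i j k, x i j k = 1 := by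
    have a1 := sA true
    have a2 := sA false
    have a3 := sB true
    have a4 := sC true
    have a5 := mul_fix h2 hA hB hAB
    have a6 := mul_fix h2 hA hC hAC
    have a7 := mul_fix h2 hB hC hBC
    simp only [sAB] at a1 a2 a3 a5
    simp only [sAC] at a6
    simp only [sBC] at a7
    intro i j k
    cases i <;> cases j <;> cases k <;> omega
  refine ⟨hd, ?_⟩
  intro v _
  have h1 := (split h2 hA (W := ⊤) (fun _ _ => trivial)).2 (Submodule.mem_top : v ∈ (⊤ : Submodule F V))
  rw [top_inf_eq, top_inf_eq] at h1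
  have hmem : ∀ i, eig A i ≤ ⨆ i, ⨆ j, ⨆ k, joint A B C i j k := by
    intro i
    have hstep : ∀ j, eig A i ⊓ eig B j ≤ ⨆ i, ⨆ j, ⨆ k, joint A B C i j k := fun j =>
      ((split h2 hC (inf_mapsTo (eig_mapsTo hAC i) (eig_mapsTo hBC j))).2).trans
        (sup_le (le_iSup_of_le i (le_iSup_of_le j (le_iSup_of_le true le_rfl)))
          (le_iSup_of_le i (le_iSup_of_le j (le_iSup_of_le false le_rfl))))
    exact ((split h2 hB (eig_mapsTo hAB i)).2).trans (sup_le (hstep true) (hstep false))
  exact (sup_le (hmem true) (hmem false)) h1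

omit h2

variable [Fintype F]

/-- A finite-order scalar of order prime to `q - 1` is one. -/
theorem scalar_eq_one {c : F} {k : ℕ} (hk : k.Coprime (Fintype.card F - 1)) (hk0 : k ≠ 0) (hc : c ^ k = 1) :
    c = 1 := by
  have hc0 : c ≠ 0 := fun h => by rw [h, zero_pow hk0] at hc; exact zero_ne_one hc
  have h1 : orderOf c ∣ Fintype.card F - 1 := orderOf_dvd_of_pow_eq_one (FiniteField.pow_card_sub_one_eq_one c hc0)
  exact orderOf_eq_one_iff.1 (Nat.eq_one_of_dvd_coprimes hk (orderOf_dvd_of_pow_eq_one hc) h1)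

/-- A map of order prime to `q(q-1)` with an invariant line acts trivially on it. -/
theorem fix_of_line {f : Module.End F V} {k : ℕ} (hk : k.Coprime (Fintype.card F - 1)) (hk0 : k ≠ 0) (hf : f ^ k = 1)
    {W : Submodule F V} (hW : Module.finrank F ↥W = 1) (hinv : ∀ v ∈ W, f v ∈ W) : ∀ v ∈ W, f v = v := by
  intro v hv
  rcases eq_or_ne v 0 with rfl | hv0
  · exact map_zero f
  obtain ⟨c, hc⟩ := exists_smul_eq_of_finrank_eq_one hW (x := (⟨v, hv⟩ : ↥W)) (by simpa using hv0) ⟨f v, hinv v hv⟩
  have hc' : c • v = f v := congrArg Subtype.val hc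
  have e : ∀ j : ℕ, (f ^ j) v = c ^ j • v := by
    intro j
    induction j with
    | zero => simp
    | succ j ih => rw [pow_succ', Module.End.mul_apply, ih, map_smul, ← hc', smul_smul, pow_succ]
  have h1 := e k
  rw [hf, Module.End.one_apply] at h1
  have : c ^ k = 1 := by
    have h3 : (c ^ k - 1) • v = 0 := by rw [sub_smul, one_smul, ← h1, sub_self]
    exact sub_eq_zero.1 ((smul_eq_zero.1 h3).resolve_right hv0)
  rw [← hc', scalar_eq_one hk hk0 this, one_smul]

/-- A map of order prime to `q(q-1)` fixing a nonzero vector of an invariant plane acts trivially on it. -/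
theorem fix_of_plane {f : Module.End F V} {k : ℕ} (hk : k.Coprime (Fintype.card F - 1)) (hkF : (k : F) ≠ 0)
    (hf : f ^ k = 1) {W : Submodule F V} (hW : Module.finrank F ↥W = 2) (hinv : ∀ v ∈ W, f v ∈ W)
    {v : V} (hvW : v ∈ W) (hv0 : v ≠ 0) (hv : f v = v) : ∀ w ∈ W, f w = w := by
  have hlt : F ∙ v < W := lt_of_le_of_ne ((Submodule.span_singleton_le_iff_mem v W).2 hvW) fun e => by
    rw [← e, finrank_span_singleton hv0] at hW; omega
  obtain ⟨w, hwW, hw⟩ := SetLike.exists_of_lt hlt
  have hsp : ∀ z ∈ W, ∃ a b : F, a • v + b • w = z := by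
    have e : Submodule.span F {v, w} = W := by
      refine Submodule.eq_of_le_of_finrank_le (Submodule.span_le.2 (by
        rintro z (rfl | rfl) <;> assumption)) ?_
      rw [hW]
      have hl : LinearIndependent F ![v, w] := (LinearIndependent.pair_iff' hv0).2 fun a ha =>
        hw (Submodule.mem_span_singleton.2 ⟨a, ha⟩)
      have := finrank_span_eq_card hl
      rw [Fintype.card_fin, Matrix.range_cons_cons_empty] at this
      omega
    intro z hz
    rw [← e, Submodule.mem_span_pair] at hz
    exact hz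
  obtain ⟨α, β, hfw⟩ := hsp _ (hinv w hwW)
  have hne : ∀ c d : F, c • v + d • w = 0 → c = 0 ∧ d = 0 := by
    intro c d h
    by_cases hd : d = 0
    · rw [hd, zero_smul, add_zero, smul_eq_zero] at h
      exact ⟨h.resolve_right hv0, hd⟩
    · refine absurd (Submodule.mem_span_singleton.2 ⟨-(d⁻¹ * c), ?_⟩) hw
      have : d⁻¹ • (c • v + d • w) = 0 := by rw [h, smul_zero]
      rw [smul_add, smul_smul, smul_smul, inv_mul_cancel₀ hd, one_smul, add_eq_zero_iff_eq_neg'] at this
      rw [neg_smul, ← this]
  have e : ∀ j : ℕ, (f ^ j) w = ((∑ i ∈ Finset.range j, β ^ i) * α) • v + β ^ j • w := by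
    intro j
    induction j with
    | zero => simp
    | succ j ih =>
      rw [pow_succ', Module.End.mul_apply, ih, map_add, map_smul, map_smul, hv, ← hfw, Finset.sum_range_succ,
        add_mul, add_smul, smul_add, smul_smul, smul_smul, pow_succ]
      abel
  have h1 := e k
  rw [hf, Module.End.one_apply] at h1
  obtain ⟨h3, h4⟩ := hne ((∑ i ∈ Finset.range k, β ^ i) * α) (β ^ k - 1) (by
    rw [sub_smul, one_smul, ← add_sub_assoc, ← h1, sub_self])
  have hβ : β = 1 := scalar_eq_one hk (fun h => hkF (by simp [h])) (sub_eq_zero.1 h4)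
  rw [hβ] at h3
  simp only [one_pow, Finset.sum_const, Finset.card_range, nsmul_eq_mul, mul_one, mul_eq_zero] at h3
  have hfw' : f w = w := by rw [← hfw, hβ, h3.resolve_left hkF, zero_smul, zero_add, one_smul]
  intro z hz
  obtain ⟨a, b, rfl⟩ := hsp z hz
  rw [map_add, map_smul, map_smul, hv, hfw']

end Cfsg.Agent.Lib.Ree.Tori.Lin
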