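import Cfsg.Agent.Lib.Ree.Tori.Two
import Cfsg.Agent.Lib.Coprime.Generation
import Cfsg.Agent.Lib.Frobenius.FPF

/-!
The tori of order `(q+1)/4` of the abstract small Ree group: cyclic, with centraliser `2^2 × W` and
normaliser of order `6(q+1)`.
-/

set_option autoImplicit false

namespace Cfsg.Agent.Lib.Ree.Tori

open Subgroup
open scoped Pointwise

variable {G : Type*} [Group G] [Finite G] {K : Type*} [Field K] [Fintype K]

local notation "q" => Fintype.card K

namespace Sys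

variable (S : Sys G K)
include S

/-- The four-group `⟨a, n⟩`. -/
abbrev E : Subgroup G := fourGrp S.a_sq S.n_sq S.commute_n_a.symm

/-- The centraliser of the four-group. -/
abbrev D : Subgroup G := S.Ca ⊓ centralizer ({S.n} : Set G)

theorem mem_D {g : G} : g ∈ S.D ↔ Commute g S.a ∧ Commute g S.n :=
  Subgroup.mem_inf.trans (and_congr S.mem_Ca mem_centralizer_singleton_iff)

theorem card_E : Nat.card ↥S.E = 4 := card_fourGrp _ _ _ S.a_ne S.n_ne_one S.a_ne_n

theorem E_le_D : S.E ≤ S.D := by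
  have ha : S.a ∈ S.D := S.mem_D.2 ⟨Commute.refl _, S.commute_n_a.symm⟩
  have hn : S.n ∈ S.D := S.mem_D.2 ⟨S.commute_n_a, Commute.refl _⟩
  rintro g (rfl | rfl | rfl | rfl)
  exacts [one_mem _, ha, hn, mul_mem ha hn]

theorem E_sq {g : G} (hg : g ∈ S.E) : g * g = 1 := by
  rcases hg with rfl | rfl | rfl | rfl
  · exact mul_one 1
  · exact S.a_sq
  · exact S.n_sq
  · rw [← S.commute_n_a.eq]; exact S.na_sq

theorem E_commute_D {e g : G} (he : e ∈ S.E) (hg : g ∈ S.D) : Commute e g := by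
  obtain ⟨h1, h2⟩ := S.mem_D.1 hg
  rcases he with rfl | rfl | rfl | rfl
  exacts [Commute.one_left g, h1.symm, h2.symm, h1.symm.mul_left h2.symm]

theorem two_elem_sq {x : G} {j : ℕ} (hx : orderOf x ∣ 2 ^ j) : x * x = 1 := by
  obtain ⟨P, hP, -, -⟩ := S.exists_sylow
  obtain ⟨i, -, hi⟩ := (Nat.dvd_prime_pow Nat.prime_two).1 hx
  obtain ⟨Q, hQ⟩ := (IsPGroup.of_card (n := i) (by rw [Nat.card_zpowers, hi]) : IsPGroup 2 ↥(zpowers x)).exists_le_sylow
  obtain ⟨g, rfl⟩ := MulAction.exists_smul_eq G P Q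
  have hm := hQ (mem_zpowers x)
  rw [Sylow.coe_subgroup_smul, Subgroup.mem_pointwise_smul_iff_inv_smul_mem, ← map_inv, MulAut.smul_def,
    MulAut.conj_apply, inv_inv] at hm
  have h := S.P_sq P hP hm
  calc x * x = g * (g⁻¹ * x * g * (g⁻¹ * x * g)) * g⁻¹ := by group
    _ = 1 := by rw [h]; group

theorem not_sixteen_dvd (T : Subgroup G) : ¬ 16 ∣ Nat.card ↥T := by
  intro h
  have := (Nat.prime_two.pow_dvd_iff_le_factorization Nat.card_pos.ne').1
    ((show 2 ^ 4 ∣ Nat.card ↥T from h).trans (Subgroup.card_subgroup_dvd_card T))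
  rw [S.fac_two.1] at this
  omega

theorem eight_dvd_conj_P {T : Subgroup G} (h : 8 ∣ Nat.card ↥T) (P : Sylow 2 G) :
    ∃ g : G, ∀ x ∈ (P : Subgroup G), g * x * g⁻¹ ∈ T := by
  obtain ⟨Q⟩ : Nonempty (Sylow 2 ↥T) := inferInstance
  have hc : Nat.card ↥((Q : Subgroup ↥T).map T.subtype) = 2 ^ (Nat.card G).factorization 2 := by
    rw [Subgroup.card_map_of_injective T.subtype_injective, S.fac_two.1]
    refine Q.card_eq_multiplicity.trans (congrArg _ (le_antisymm ?_ ((Nat.prime_two.pow_dvd_iff_le_factorization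
      Nat.card_pos.ne').1 h)))
    by_contra hlt
    exact S.not_sixteen_dvd T ((show 2 ^ 4 ∣ 2 ^ _ from pow_dvd_pow 2 (not_le.1 hlt)).trans (Nat.ordProj_dvd _ 2))
  obtain ⟨g, hg⟩ := MulAction.exists_smul_eq G P (Sylow.ofCard _ hc)
  refine ⟨g, fun x hx => ?_⟩
  have : g * x * g⁻¹ ∈ (g • P : Sylow 2 G).toSubgroup := by
    rw [Sylow.coe_subgroup_smul, Subgroup.mem_pointwise_smul_iff_inv_smul_mem, ← map_inv, MulAut.smul_def,
      MulAut.conj_apply, inv_inv]
    simpa [mul_assoc] using hx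
  rw [hg] at this
  exact map_subtype_le (Q : Subgroup ↥T) this

theorem conj_finrank (g x : G) : Module.finrank K ↥(Lin.eig (S.ρ (g * x * g⁻¹)) true) =
    Module.finrank K ↥(Lin.eig (S.ρ x) true) := by
  have h1 : ∀ v, S.ρ g (S.ρ g⁻¹ v) = v := fun v => by
    rw [← Module.End.mul_apply, ← map_mul, mul_inv_cancel, map_one, Module.End.one_apply]
  have h2 : ∀ v, S.ρ g⁻¹ (S.ρ g v) = v := fun v => by
    rw [← Module.End.mul_apply, ← map_mul, inv_mul_cancel, map_one, Module.End.one_apply]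
  let e : (Fin 8 → K) ≃ₗ[K] (Fin 8 → K) := { S.ρ g with invFun := S.ρ g⁻¹, left_inv := h2, right_inv := h1 }
  have : Lin.eig (S.ρ (g * x * g⁻¹)) true = (Lin.eig (S.ρ x) true).map (e : (Fin 8 → K) →ₗ[K] (Fin 8 → K)) := by
    ext v
    rw [Submodule.mem_map, Lin.mem_eig_true]
    constructor
    · intro hv
      refine ⟨S.ρ g⁻¹ v, Lin.mem_eig_true.2 ?_, h1 v⟩
      rw [map_mul, map_mul, Module.End.mul_apply, Module.End.mul_apply] at hv
      exact (h2 _).symm.trans (congrArg (S.ρ g⁻¹) hv)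
    · rintro ⟨w, hw, rfl⟩
      rw [Lin.mem_eig_true] at hw
      show S.ρ (g * x * g⁻¹) (S.ρ g w) = S.ρ g w
      rw [map_mul, map_mul, Module.End.mul_apply, Module.End.mul_apply, h2, hw]
  rw [this]
  exact LinearEquiv.finrank_map_eq e _

theorem two_ne_zero_K : (2 : K) ≠ 0 := by
  intro h
  obtain ⟨p, hp⟩ := CharP.exists K
  obtain ⟨n, hpp, e⟩ := FiniteField.card K p
  have hp2 : p ∣ 2 := (CharP.cast_eq_zero_iff K p 2).1 (by exact_mod_cast h)
  have hp3 := S.q_prime_dvd hpp (e ▸ dvd_pow_self p n.ne_zero)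
  subst hp3
  norm_num at hp2

theorem natCast_ne_zero_K {k : ℕ} (hk : k.Coprime q) : (k : K) ≠ 0 := by
  intro h
  obtain ⟨p, hp⟩ := CharP.exists K
  obtain ⟨n, hpp, e⟩ := FiniteField.card K p
  exact hpp.one_lt.ne' (Nat.eq_one_of_dvd_coprimes hk ((CharP.cast_eq_zero_iff K p k).1 h)
    (e ▸ dvd_pow_self p n.ne_zero))

/-- Three involutions generating a Sylow 2-subgroup have eight common eigenlines. -/
theorem lines (P : Sylow 2 G) (hP : (P : Subgroup G) ≤ S.Ca) {x y : G} (hx : x ∈ (P : Subgroup G))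
    (hy : y ∈ (P : Subgroup G)) (hx1 : x ≠ 1) (hxa : x ≠ S.a) (hy1 : y ∉ fourGrp S.a_sq (S.P_sq P hP hx)
      (S.mem_Ca.1 (hP hx)).symm) :
    (∀ i j k, Module.finrank K ↥(Lin.joint (S.ρ S.a) (S.ρ x) (S.ρ y) i j k) = 1) ∧
      (⊤ : Submodule K (Fin 8 → K)) ≤ ⨆ i, ⨆ j, ⨆ k, Lin.joint (S.ρ S.a) (S.ρ x) (S.ρ y) i j k := by
  rw [mem_fourGrp] at hy1
  push Not at hy1
  obtain ⟨hy0, hya, hyx, hyax⟩ := hy1
  have ha := S.a_mem_P P hP
  have sq : ∀ {z}, z ∈ (P : Subgroup G) → S.ρ z * S.ρ z = 1 := fun hz => by rw [← map_mul, S.P_sq P hP hz, map_one]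
  have cm : ∀ {u v}, u ∈ (P : Subgroup G) → v ∈ (P : Subgroup G) → Commute (S.ρ u) (S.ρ v) := fun hu hv =>
    Commute.map (show Commute _ _ from S.P_comm P hP hu hv) S.ρ
  have key : ∀ z ∈ (P : Subgroup G), z ≠ 1 →
      Module.finrank K ↥(Lin.eig (S.ρ z) true) = Module.finrank K ↥(Lin.eig (S.ρ S.a) true) := by
    intro z hz hz1
    obtain ⟨g, rfl⟩ := S.exists_conj_a hz1 (S.P_sq P hP hz)
    exact S.conj_finrank g S.a
  have inv_eq : ∀ {u v}, u ∈ (P : Subgroup G) → u * v = 1 → v = u := fun hu h =>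
    ((inv_eq_of_mul_eq_one_right h).symm.trans (inv_eq_of_mul_eq_one_right (S.P_sq P hP hu)))
  refine Lin.joint_lines S.two_ne_zero_K (by simp) (sq ha) (sq hx) (sq hy) (cm ha hx) (cm ha hy) (cm hx hy)
    (fun h => S.a_ne (S.ρ_inj (h.trans S.ρ.map_one.symm))) (key x hx hx1) (key y hy hy0) ?_ ?_ ?_ ?_
  · rw [← map_mul]; exact key _ (mul_mem ha hx) fun h => hxa (inv_eq ha h)
  · rw [← map_mul]; exact key _ (mul_mem ha hy) fun h => hya (inv_eq ha h)
  · rw [← map_mul]; exact key _ (mul_mem hx hy) fun h => hyx (inv_eq hx h)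
  · rw [← map_mul, ← map_mul]
    refine key _ (mul_mem ha (mul_mem hx hy)) fun h => hyax ?_
    exact inv_eq (mul_mem ha hx) (by rw [mul_assoc]; exact h)

/-- A Sylow 2-subgroup through `⟨a, n⟩` with a complementary involution. -/
theorem exists_frame : ∃ (P : Sylow 2 G) (s : G), (P : Subgroup G) ≤ S.Ca ∧ S.n ∈ (P : Subgroup G) ∧
    S.E ≤ (P : Subgroup G) ∧ s ∈ (P : Subgroup G) ∧ s ∉ S.E ∧ (P : Subgroup G) ≤ S.D ∧
    ∀ x ∈ (P : Subgroup G), x ∈ S.E ∨ ∃ e ∈ S.E, x = e * s := by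
  obtain ⟨P, hP, ha, hn⟩ := S.exists_sylow
  have hE : S.E ≤ (P : Subgroup G) := by
    rintro g (rfl | rfl | rfl | rfl)
    exacts [one_mem _, ha, hn, mul_mem ha hn]
  obtain ⟨s, hs, hsE⟩ : ∃ s ∈ (P : Subgroup G), s ∉ S.E := by
    by_contra hc
    push Not at hc
    have h := Subgroup.card_dvd_of_le (show (P : Subgroup G) ≤ S.E from hc)
    rw [S.card_P P, S.card_E] at h
    omega
  refine ⟨P, s, hP, hn, hE, hs, hsE,
    fun p hp => S.mem_D.2 ⟨S.mem_Ca.1 (hP hp), S.P_comm P hP hp hn⟩, fun x hx => ?_⟩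
  have hidx : (S.E.subgroupOf (P : Subgroup G)).index = 2 := by
    have h := Subgroup.card_mul_index (S.E.subgroupOf (P : Subgroup G))
    rw [Nat.card_congr (Subgroup.subgroupOfEquivOfLe hE).toEquiv, S.card_E, S.card_P P] at h
    omega
  by_cases hxE : x ∈ S.E
  · exact Or.inl hxE
  · have := (Subgroup.mul_mem_iff_of_index_two hidx (a := (⟨x, hx⟩ : ↥(P : Subgroup G))) (b := ⟨s, hs⟩)).2
      (by simp [Subgroup.mem_subgroupOf, hxE, hsE])
    refine Or.inr ⟨x * s, Subgroup.mem_subgroupOf.1 this, ?_⟩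
    rw [mul_assoc, S.P_sq P hP hs, mul_one]

/-- A Sylow 2-subgroup is self-centralising. -/
theorem centralizer_P (P : Sylow 2 G) (hP : (P : Subgroup G) ≤ S.Ca) {y : G}
    (hy : ∀ p ∈ (P : Subgroup G), Commute y p) : y ∈ (P : Subgroup G) := by
  set T := centralizer ((P : Subgroup G) : Set G) with hT
  have hPT : (P : Subgroup G) ≤ T := fun p hp => mem_centralizer_iff.2 fun r hr => S.P_comm P hP hr hp
  have hyT : y ∈ T := mem_centralizer_iff.2 fun r hr => (hy r hr).symm.eq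
  suffices h : ∀ z ∈ T, ∀ r : ℕ, r.Prime → orderOf z = r → r = 2 by
    have hTP : T ≤ (P : Subgroup G) := by
      have hp : IsPGroup 2 ↥T := by
        obtain ⟨k, hk⟩ : ∃ k, Nat.card ↥T = 2 ^ k := by
          refine ⟨_, Nat.eq_prime_pow_of_unique_prime_dvd Nat.card_pos.ne' fun {r} hr hd => ?_⟩
          have := Fact.mk hr
          obtain ⟨z, hz⟩ := exists_prime_orderOf_dvd_card' r hd
          exact h z z.2 r hr (by rw [Subgroup.orderOf_coe]; exact hz)
        exact IsPGroup.of_card hk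
      exact (P.3 hp hPT).le
    exact hTP hyT
  intro z hz r hr ho
  by_contra hr2
  have hzc : ∀ p ∈ (P : Subgroup G), Commute z p := fun p hp => (mem_centralizer_iff.1 hz p hp).symm
  have hz1 : z ≠ 1 := fun h => hr.one_lt.ne' (by rw [← ho, h, orderOf_one])
  have hsplit : ∀ {X : Subgroup G}, (∀ p ∈ (P : Subgroup G), p ∈ X) → 8 ∣ Nat.card ↥X := fun h =>
    S.card_P P ▸ Subgroup.card_dvd_of_le h
  have hcent : 8 ∣ Nat.card ↥(centralizer ({z} : Set G)) :=
    hsplit fun p hp => mem_centralizer_singleton_iff.2 (hzc p hp).symm.eq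
  obtain ⟨k, hk, ek⟩ := S.sub_one_split
  by_cases h1 : r ∣ q
  · have h3 := S.q_prime_dvd hr h1
    subst h3
    obtain ⟨g, hg⟩ := S.exists_conj_U (x := z) (j := 1) (by rw [ho, pow_one])
    have h4 : 8 ∣ Nat.card ↥(centralizer ({g * z * g⁻¹} : Set G)) := by rwa [card_centralizer_conj]
    have h5 := h4.trans (Subgroup.card_dvd_of_le (S.centralizer_U_le hg fun e => hz1 (conj_eq_one_iff.1 e)))
    rw [S.card_B, ek] at h5
    have h6 : Nat.Coprime 8 (q ^ 3) := Nat.Coprime.pow_right 3 (Nat.Coprime.pow_left 3 (Nat.coprime_two_left.2 S.odd_q))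
    have h7 := h6.dvd_of_dvd_mul_left h5
    obtain ⟨j, hj⟩ := hk
    omega
  by_cases h2 : r ∣ q - 1
  · obtain ⟨g, hg⟩ := S.exists_conj_H_prime hr hr2 h2 (j := 1) (by rw [ho, pow_one])
    have hne : g * z * g⁻¹ * (g * z * g⁻¹) ≠ 1 := by
      rw [show g * z * g⁻¹ * (g * z * g⁻¹) = g * (z * z) * g⁻¹ by group]
      intro e
      have := orderOf_dvd_of_pow_eq_one (show z ^ 2 = 1 by rw [pow_two]; exact conj_eq_one_iff.1 e)
      rw [ho] at this
      exact hr2 ((Nat.prime_dvd_prime_iff_eq hr Nat.prime_two).1 this)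
    have h4 : 8 ∣ Nat.card ↥(centralizer ({g * z * g⁻¹} : Set G)) := by rwa [card_centralizer_conj]
    rw [S.centralizer_H hg hne, S.card_H, ek] at h4
    obtain ⟨j, hj⟩ := hk
    omega
  -- otherwise `z` is diagonal of order prime to `q(q-1)`
  have hco : r.Coprime (q - 1) := hr.coprime_iff_not_dvd.2 h2
  obtain ⟨x, hx, hx1, hxa⟩ : ∃ x ∈ (P : Subgroup G), x ≠ 1 ∧ x ≠ S.a := by
    by_contra hc
    push Not at hc
    classical
    have : ((P : Subgroup G) : Set G) ⊆ {1, S.a} := fun x hx => by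
      by_cases e : x = 1
      · exact Or.inl e
      · exact Or.inr (hc x hx e)
    have h := Set.ncard_le_ncard this (Set.toFinite _)
    rw [← Nat.card_coe_set_eq] at h
    have := (Set.ncard_insert_le (1 : G) {S.a})
    rw [Set.ncard_singleton] at this
    have h8 : Nat.card ↥((P : Subgroup G) : Set G) = 8 := S.card_P P
    omega
  obtain ⟨w, hw, hwE⟩ : ∃ w ∈ (P : Subgroup G), w ∉ fourGrp S.a_sq (S.P_sq P hP hx) (S.mem_Ca.1 (hP hx)).symm := by
    by_contra hc
    push Not at hc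
    have := (Subgroup.card_dvd_of_le hc)
    rw [S.card_P P, card_fourGrp _ _ _ S.a_ne hx1 hxa.symm] at this
    omega
  obtain ⟨hl, htop⟩ := S.lines P hP hx hw hx1 hxa hwE
  have hpow : S.ρ z ^ r = 1 := by rw [← map_pow, ← ho, pow_orderOf_eq_one, map_one]
  refine hz1 (S.ρ_inj (LinearMap.ext fun v => ?_))
  have hle : (⨆ i, ⨆ j, ⨆ k, Lin.joint (S.ρ S.a) (S.ρ x) (S.ρ w) i j k) ≤ LinearMap.ker (S.ρ z - 1) := by
    refine iSup_le fun i => iSup_le fun j => iSup_le fun l => fun v hv => ?_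
    have := Lin.fix_of_line hco hr.ne_zero hpow (hl i j l) (Lin.inf_mapsTo (Lin.inf_mapsTo
      (Lin.eig_mapsTo ((hzc _ (S.a_mem_P P hP)).symm.map S.ρ) i) (Lin.eig_mapsTo ((hzc x hx).symm.map S.ρ) j))
      (Lin.eig_mapsTo ((hzc w hw).symm.map S.ρ) l)) v hv
    simp [this]
  have := hle (htop (Submodule.mem_top : v ∈ _))
  rw [map_one, Module.End.one_apply]
  exact sub_eq_zero.1 (by simpa using this)

/-- The odd part of the order of the quarter torus. -/
theorem quarter_facts : Odd ((q + 1) / 4) ∧ q + 1 = 4 * ((q + 1) / 4) ∧ ((q + 1) / 4).Coprime q ∧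
    ((q + 1) / 4).Coprime (q - 1) := by
  have h8 := S.q_mod_eight
  have e : q + 1 = 4 * ((q + 1) / 4) := by omega
  have hodd : Odd ((q + 1) / 4) := Nat.odd_iff.2 (by omega)
  refine ⟨hodd, e, ?_, ?_⟩
  · refine Nat.coprime_of_dvd' fun d _ h1 h2 => ?_
    have h3 : d ∣ q + 1 := e ▸ dvd_mul_of_dvd_right h1 4
    exact (Nat.dvd_add_right h2).1 h3
  · refine Nat.coprime_of_dvd' fun d hd h1 h2 => ?_
    have h3 : d ∣ q + 1 := e ▸ dvd_mul_of_dvd_right h1 4
    have h4 := Nat.dvd_sub h3 h2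
    rw [show q + 1 - (q - 1) = 2 by omega] at h4
    rcases (Nat.dvd_prime Nat.prime_two).1 h4 with h5 | h5
    · exact h5 ▸ dvd_rfl
    · subst h5
      exact absurd h1 hodd.not_two_dvd_nat

theorem card_D : Nat.card ↥S.D = 8 * ((q + 1) / 4) := by
  rw [S.card_centralizer_four]
  have := S.quarter_facts.2.1
  omega

/-- The normal 2-complement of `C(⟨a, n⟩)`. -/
theorem exists_W : ∃ W : Subgroup G, W ≤ S.D ∧ Nat.card ↥W = (q + 1) / 4 ∧
    (∀ x ∈ S.D, Odd (orderOf x) → x ∈ W) ∧ (∀ x ∈ S.D, ∀ w ∈ W, x * w * x⁻¹ ∈ W) := by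
  obtain ⟨P, s, hP, hn, hE, hs, hsE, hPD, hdec⟩ := S.exists_frame
  let P' : Sylow 2 ↥S.D := P.subtype hPD
  have hN : normalizer ((P' : Subgroup ↥S.D) : Set ↥S.D) ≤ centralizer ((P' : Subgroup ↥S.D) : Set ↥S.D) := by
    intro g hg
    have hgN : ∀ x ∈ (P : Subgroup G), (g : G) * x * (g : G)⁻¹ ∈ (P : Subgroup G) := fun x hx =>
      (Subgroup.mem_normalizer_iff.1 hg ⟨x, hPD hx⟩).1 hx
    have hfE : ∀ e ∈ S.E, Commute (g : G) e := fun e he => (S.E_commute_D he g.2).symm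
    rcases hdec _ (hgN s hs) with he | ⟨e, he, hge⟩
    · refine absurd ?_ hsE
      have h1 := (hfE _ he).eq
      have h2 : (g : G) * s * (g : G)⁻¹ = s := by
        have h3 : (g : G) * ((g : G) * s * (g : G)⁻¹) = (g : G) * s := by rw [h1, inv_mul_cancel_right]
        exact mul_left_cancel h3
      exact h2 ▸ he
    · suffices h : e = 1 by
        refine mem_centralizer_iff.2 fun x hx => Subtype.ext ?_
        have hc : Commute (g : G) s := mul_inv_eq_iff_eq_mul.1 (by rw [hge, h, one_mul])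
        rcases hdec _ (show (x : G) ∈ (P : Subgroup G) from hx) with hxE | ⟨f, hf, hxf⟩
        · exact (hfE _ hxE).symm.eq
        · show (x : G) * g = g * x
          rw [hxf]; exact ((hfE f hf).mul_right hc).symm.eq
      obtain ⟨i, o, ho, hio⟩ := Nat.exists_eq_two_pow_mul_odd (orderOf_pos (g : G)).ne'
      have hpow : ∀ k : ℕ, (g : G) ^ k * s * ((g : G) ^ k)⁻¹ = e ^ k * s := by
        intro k
        induction k with
        | zero => simp
        | succ k ih =>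
          rw [pow_succ', mul_inv_rev]
          calc (g : G) * (g : G) ^ k * s * (((g : G) ^ k)⁻¹ * (g : G)⁻¹)
              = (g : G) * ((g : G) ^ k * s * ((g : G) ^ k)⁻¹) * (g : G)⁻¹ := by group
            _ = e ^ k * ((g : G) * s * (g : G)⁻¹) := by rw [ih, ← mul_assoc (g : G), ((hfE e he).pow_right k).eq]; group
            _ = e ^ (k + 1) * s := by rw [hge, pow_succ, mul_assoc]
            _ = _ := by rw [pow_succ']
      have hgo : (g : G) ^ o ∈ (P : Subgroup G) := by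
        have hn' : zpowers ((g : G) ^ o) ≤ normalizer ((P : Subgroup G) : Set G) := zpowers_le.2 (pow_mem
          (Subgroup.mem_normalizer_iff.2 fun x => ⟨hgN x, fun hx => by
            have := (Subgroup.mem_normalizer_iff.1 (inv_mem hg) ⟨(g : G) * x * (g : G)⁻¹, hPD hx⟩).1 hx
            simpa [mul_assoc] using show ((g⁻¹ : ↥S.D) : G) * ((g : G) * x * (g : G)⁻¹) * ((g⁻¹ : ↥S.D)⁻¹ : ↥S.D) ∈
              (P : Subgroup G) from this⟩) o)
        have hp : IsPGroup 2 ↥(zpowers ((g : G) ^ o)) := by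
          refine IsPGroup.of_card (n := i) ?_
          rw [Nat.card_zpowers, orderOf_pow' _ ho.pos.ne', hio, Nat.gcd_mul_left_left, Nat.mul_div_cancel _ ho.pos]
        have h := P.3 (hp.to_sup_of_normal_right' P.2 hn') le_sup_right
        exact h ▸ Subgroup.mem_sup_left (mem_zpowers _)
      have h1 := hpow o
      rw [S.P_comm P hP hgo hs, mul_inv_cancel_right] at h1
      have h2 : e ^ o = 1 := mul_eq_right.1 h1.symm
      obtain ⟨k, rfl⟩ := ho
      rwa [pow_succ, pow_mul, pow_two, S.E_sq he, one_pow, one_mul] at h2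
  obtain ⟨N, hNn, hc⟩ : ∃ N : Subgroup ↥S.D, N.Normal ∧ N.IsComplement' (P' : Subgroup ↥S.D) :=
    ⟨_, MonoidHom.normal_ker _, MonoidHom.ker_transferSylow_isComplement' P' hN⟩
  have hP' : Nat.card ↥(P' : Subgroup ↥S.D) = 8 := by
    rw [show (P' : Subgroup ↥S.D) = (P : Subgroup G).subgroupOf S.D from rfl,
      Nat.card_congr (Subgroup.subgroupOfEquivOfLe hPD).toEquiv, S.card_P P]
  have hW : Nat.card ↥N = (q + 1) / 4 := by
    have h := hc.card_mul
    rw [hP', S.card_D, mul_comm] at h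
    exact Nat.eq_of_mul_eq_mul_left (by norm_num : 0 < 8) h
  have hidx : N.index = 8 := by
    have h := Subgroup.card_mul_index N
    rw [hW, S.card_D, mul_comm 8] at h
    exact Nat.eq_of_mul_eq_mul_left S.quarter_facts.1.pos h
  have := hNn
  refine ⟨N.map S.D.subtype, map_subtype_le _, ?_, fun x hx hxo => ⟨⟨x, hx⟩, ?_, rfl⟩, ?_⟩
  · rw [Subgroup.card_map_of_injective S.D.subtype_injective]
    exact hW
  · refine (QuotientGroup.eq_one_iff (N := N) (⟨x, hx⟩ : ↥S.D)).1 (orderOf_eq_one_iff.1 ?_)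
    refine Nat.eq_one_of_dvd_coprimes (a := 8) (b := orderOf x) ?_ ?_ ?_
    · exact Nat.Coprime.pow_left 3 (Nat.coprime_two_left.2 hxo)
    · exact hidx ▸ N.index_eq_card ▸ orderOf_dvd_natCard _
    · have h := orderOf_map_dvd (QuotientGroup.mk' N) (⟨x, hx⟩ : ↥S.D)
      rwa [Subgroup.orderOf_mk] at h
  · rintro x hx _ ⟨w, hw, rfl⟩
    exact ⟨⟨x, hx⟩ * w * ⟨x, hx⟩⁻¹, hNn.conj_mem w hw _, rfl⟩

end Sys

end Cfsg.Agent.Lib.Ree.Tori
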