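import Cfsg.Agent.Lib.Ree.Tori.Quarter

/-!
The torus `A = 2^2 × W` and the cyclicity of `W`.
-/

set_option autoImplicit false

namespace Cfsg.Agent.Lib.Ree.Tori

open Subgroup
open scoped Pointwise

variable {G : Type*} [Group G] [Finite G] {K : Type*} [Field K] [Fintype K]

local notation "q" => Fintype.card K

namespace Sys

variable (S : Sys G K)
include S

/-- The odd part of the centraliser of the four-group. -/
noncomputable def W : Subgroup G := S.exists_W.choose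

theorem W_le : S.W ≤ S.D := S.exists_W.choose_spec.1

theorem card_W : Nat.card ↥S.W = (q + 1) / 4 := S.exists_W.choose_spec.2.1

theorem mem_W_of_odd {x : G} (hx : x ∈ S.D) (ho : Odd (orderOf x)) : x ∈ S.W := S.exists_W.choose_spec.2.2.1 x hx ho

theorem conj_mem_W {x w : G} (hx : x ∈ S.D) (hw : w ∈ S.W) : x * w * x⁻¹ ∈ S.W :=
  S.exists_W.choose_spec.2.2.2 x hx w hw

theorem W_coprime {w : G} (hw : w ∈ S.W) :
    Odd (orderOf w) ∧ (orderOf w).Coprime q ∧ (orderOf w).Coprime (q - 1) ∧ orderOf w ∣ (q + 1) / 4 := by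
  have h := Subgroup.orderOf_dvd_natCard _ hw
  rw [S.card_W] at h
  obtain ⟨h1, -, h3, h4⟩ := S.quarter_facts
  exact ⟨h1.of_dvd_nat h, h3.coprime_dvd_left h, h4.coprime_dvd_left h, h⟩

theorem W_sq {w : G} (hw : w ∈ S.W) (h : w * w = 1) : w = 1 := by
  refine orderOf_eq_one_iff.1 (Nat.eq_one_of_dvd_coprimes (a := 2) (b := orderOf w)
    (Nat.coprime_two_left.2 (S.W_coprime hw).1) (orderOf_dvd_of_pow_eq_one (by rw [pow_two, h])) dvd_rfl)

theorem W_ne_one : ∃ w ∈ S.W, w ≠ 1 := by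
  have h := S.card_W
  by_contra hc
  push Not at hc
  rw [Subgroup.eq_bot_iff_forall S.W |>.2 hc, Subgroup.card_bot] at h
  have := S.q_ge
  omega

/-- An involution inverting `W`. -/
theorem exists_inverting : ∃ s ∈ S.D, s * s = 1 ∧ s ∉ S.E ∧ (∀ w ∈ S.W, s * w * s⁻¹ = w⁻¹) ∧
    ∀ u ∈ S.W, ∀ v ∈ S.W, u * v = v * u := by
  obtain ⟨P, s, hP, -, -, hs, hsE, hPD, hdec⟩ := S.exists_frame
  have hs2 := S.P_sq P hP hs
  let f : ↥S.W →* ↥S.W :=
    { toFun := fun w => ⟨s * w * s⁻¹, S.conj_mem_W (hPD hs) w.2⟩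
      map_one' := Subtype.ext (by simp)
      map_mul' := fun u v => Subtype.ext (by simp [mul_assoc]) }
  have hinv : Function.Involutive f := fun w => Subtype.ext (by
    show s * (s * (w : G) * s⁻¹) * s⁻¹ = w
    rw [show s * (s * (w : G) * s⁻¹) * s⁻¹ = s * s * w * (s * s)⁻¹ by group, hs2]; group)
  have hfix : MonoidHom.FixedPointFree (⇑f) := by
    intro w hw
    have hc : Commute (w : G) s := (mul_inv_eq_iff_eq_mul.1 (show s * (w : G) * s⁻¹ = w from congrArg Subtype.val hw)).symm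
    have hcE : ∀ e ∈ S.E, Commute (w : G) e := fun e he => (S.E_commute_D he (S.W_le w.2)).symm
    have hwP := S.centralizer_P P hP (y := (w : G)) fun p hp => by
      rcases hdec p hp with h | ⟨e, he, rfl⟩
      exacts [hcE _ h, (hcE e he).mul_right hc]
    exact Subtype.ext (S.W_sq w.2 (S.P_sq P hP hwP))
  refine ⟨s, hPD hs, hs2, hsE, fun w hw => ?_, fun u hu v hv => ?_⟩
  · exact congrArg Subtype.val (congrFun (MonoidHom.FixedPointFree.coe_eq_inv_of_involutive hfix hinv) ⟨w, hw⟩)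
  · exact congrArg Subtype.val (MonoidHom.FixedPointFree.commute_all_of_involutive hfix hinv ⟨u, hu⟩ ⟨v, hv⟩)

theorem W_comm {u v : G} (hu : u ∈ S.W) (hv : v ∈ S.W) : u * v = v * u := by
  obtain ⟨s, -, -, -, -, h⟩ := S.exists_inverting
  exact h u hu v hv

/-- The torus `2^2 × W`. -/
noncomputable def A : Subgroup G where
  carrier := {g | ∃ e ∈ S.E, ∃ w ∈ S.W, g = e * w}
  one_mem' := ⟨1, one_mem _, 1, one_mem _, (one_mul 1).symm⟩
  mul_mem' := by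
    rintro _ _ ⟨e, he, w, hw, rfl⟩ ⟨f, hf, v, hv, rfl⟩
    refine ⟨e * f, mul_mem he hf, w * v, mul_mem hw hv, ?_⟩
    rw [mul_assoc e w, ← mul_assoc w f, ← (S.E_commute_D hf (S.W_le hw)).eq]
    group
  inv_mem' := by
    rintro _ ⟨e, he, w, hw, rfl⟩
    exact ⟨e⁻¹, inv_mem he, w⁻¹, inv_mem hw, by
      rw [mul_inv_rev, (S.E_commute_D (inv_mem he) (S.W_le (inv_mem hw))).eq]⟩

theorem mem_A {g : G} : g ∈ S.A ↔ ∃ e ∈ S.E, ∃ w ∈ S.W, g = e * w := Iff.rfl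

theorem E_le_A : S.E ≤ S.A := fun e he => ⟨e, he, 1, one_mem _, (mul_one e).symm⟩

theorem W_le_A : S.W ≤ S.A := fun w hw => ⟨1, one_mem _, w, hw, (one_mul w).symm⟩

theorem A_le_D : S.A ≤ S.D := by
  rintro g ⟨e, he, w, hw, rfl⟩
  exact mul_mem (S.E_le_D he) (S.W_le hw)

theorem A_comm {u v : G} (hu : u ∈ S.A) (hv : v ∈ S.A) : Commute u v := by
  obtain ⟨e, he, w, hw, rfl⟩ := hu
  obtain ⟨f, hf, x, hx, rfl⟩ := hv
  refine ((Commute.mul_right ?_ ?_).mul_left (Commute.mul_right ?_ ?_))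
  exacts [S.E_commute_D he (S.E_le_D hf), S.E_commute_D he (S.W_le hx), (S.E_commute_D hf (S.W_le hw)).symm,
    S.W_comm hw hx]

theorem EW_unique {e f w v : G} (he : e ∈ S.E) (hf : f ∈ S.E) (hw : w ∈ S.W) (hv : v ∈ S.W) (h : e * w = f * v) :
    e = f ∧ w = v := by
  have h1 : f⁻¹ * e = v * w⁻¹ := by
    rw [eq_mul_inv_iff_mul_eq, mul_assoc, h, inv_mul_cancel_left]
  have h2 := S.W_sq (mul_mem hv (inv_mem hw)) (by rw [← h1]; exact S.E_sq (mul_mem (inv_mem hf) he))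
  exact ⟨(inv_mul_eq_one.1 (h1.trans h2)).symm, (mul_inv_eq_one.1 h2).symm⟩

theorem card_A : Nat.card ↥S.A = q + 1 := by
  rw [show q + 1 = Nat.card ↥S.E * Nat.card ↥S.W by rw [S.card_E, S.card_W]; exact S.quarter_facts.2.1,
    ← Nat.card_prod]
  refine (Nat.card_congr (Equiv.ofBijective (fun p : ↥S.E × ↥S.W =>
    (⟨p.1 * p.2, p.1, p.1.2, p.2, p.2.2, rfl⟩ : ↥S.A)) ⟨?_, ?_⟩)).symm
  · intro p p' h
    obtain ⟨h1, h2⟩ := S.EW_unique p.1.2 p'.1.2 p.2.2 p'.2.2 (congrArg Subtype.val h)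
    exact Prod.ext (Subtype.ext h1) (Subtype.ext h2)
  · rintro ⟨g, e, he, w, hw, rfl⟩
    exact ⟨(⟨e, he⟩, ⟨w, hw⟩), rfl⟩

theorem A_pow {g : G} (hg : g ∈ S.A) : g ^ ((q + 1) / 2) = 1 := by
  obtain ⟨e, he, w, hw, rfl⟩ := hg
  have e2 : (q + 1) / 2 = 2 * ((q + 1) / 4) := by have := S.quarter_facts.2.1; omega
  rw [(S.E_commute_D he (S.W_le hw)).mul_pow, e2, pow_mul, pow_two, S.E_sq he, one_pow, one_mul, mul_comm,
    pow_mul, show w ^ ((q + 1) / 4) = 1 from ?_, one_pow]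
  exact orderOf_dvd_iff_pow_eq_one.1 (S.W_coprime hw).2.2.2

theorem A_invol {g : G} (hg : g ∈ S.A) (h2 : g * g = 1) : g ∈ S.E := by
  obtain ⟨e, he, w, hw, rfl⟩ := hg
  have h : (e * e) * (w * w) = 1 := by
    rw [← h2, show e * w * (e * w) = e * (w * e) * w by group, ← (S.E_commute_D he (S.W_le hw)).eq]; group
  rw [S.E_sq he, one_mul] at h
  rw [S.W_sq hw h, mul_one]
  exact he

theorem A_odd {g : G} (hg : g ∈ S.A) (ho : Odd (orderOf g)) : g ∈ S.W := S.mem_W_of_odd (S.A_le_D hg) ho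

/-- `n` and `na` are not conjugate in the centraliser of `a`. -/
theorem n_not_conj {c : G} (hc : c ∈ S.Ca) : c * S.n * c⁻¹ ≠ S.n * S.a := by
  intro h
  set C : Set G := {y | ∃ g ∈ S.Ca, g * S.n * g⁻¹ = y}
  have hsub : {g | g ∈ S.Ca ∧ g * g = 1 ∧ g ≠ 1 ∧ g ≠ S.a} ⊆ C := by
    rintro g ⟨hg, h2, h1, ha⟩
    obtain ⟨d, hd, e | e⟩ := S.Ca_involution hg h1 ha h2
    · exact ⟨d⁻¹, inv_mem hd, by rw [← e]; group⟩
    · exact ⟨d⁻¹ * c, mul_mem (inv_mem hd) hc, by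
        rw [show d⁻¹ * c * S.n * (d⁻¹ * c)⁻¹ = d⁻¹ * (c * S.n * c⁻¹) * d by group, h, ← e]; group⟩
  have h1 := Set.ncard_le_ncard hsub (Set.toFinite _)
  rw [← Nat.card_coe_set_eq, ← Nat.card_coe_set_eq] at h1
  have h2 := card_conjSet S.Ca S.n
  rw [S.card_centralizer_four, S.card_Ca] at h2
  have h3 : Nat.card {y // ∃ g ∈ S.Ca, g * S.n * g⁻¹ = y} * 2 = q * (q - 1) :=
    Nat.eq_of_mul_eq_mul_right (by omega : 0 < q + 1) (by rw [← h2]; ring)
  have h4 : Nat.card {g // g ∈ S.Ca ∧ g * g = 1 ∧ g ≠ 1 ∧ g ≠ S.a} ≤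
      Nat.card {y // ∃ g ∈ S.Ca, g * S.n * g⁻¹ = y} := h1
  rw [S.card_Ca_invol] at h4
  have : 0 < q * (q - 1) := by have := S.q_ge; exact Nat.mul_pos (by omega) (by omega)
  omega

/-- A nontrivial element of `W` moves the common fixed space of `a` and the negated space of `n`. -/
theorem W_moves {w : G} (hw : w ∈ S.W) (h : ∀ v ∈ Lin.eig (S.ρ S.a) true, S.ρ w v = v) : w = 1 := by
  by_contra hw1
  set R : Subgroup ↥S.Ca :=
    { carrier := {g | ∀ v ∈ Lin.eig (S.ρ S.a) true, S.ρ (g : G) v = v}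
      one_mem' := fun v _ => by simp
      mul_mem' := fun {g k} hg hk v hv => by
        rw [Subgroup.coe_mul, map_mul, Module.End.mul_apply, hk v hv, hg v hv]
      inv_mem' := fun {g} hg v hv => by
        conv_lhs => rw [← hg v hv, ← Module.End.mul_apply, ← map_mul, Subgroup.coe_inv, inv_mul_cancel, map_one,
          Module.End.one_apply] } with hR
  have hmem : ∀ g : ↥S.Ca, g ∈ R ↔ ∀ v ∈ Lin.eig (S.ρ S.a) true, S.ρ (g : G) v = v := fun g => Iff.rfl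
  have hnorm : R.Normal := ⟨fun g hg c v hv => by
    have hinv : S.ρ ((c : G)⁻¹) v ∈ Lin.eig (S.ρ S.a) true :=
      Lin.eig_mapsTo (Commute.map (S.mem_Ca.1 (inv_mem c.2)).symm S.ρ) true v hv
    push_cast
    rw [map_mul, map_mul, Module.End.mul_apply, Module.End.mul_apply, hg _ hinv, ← Module.End.mul_apply, ← map_mul,
      mul_inv_cancel, map_one, Module.End.one_apply]⟩
  have hwC : w ∈ S.Ca := (S.W_le hw).1
  have hwR : (⟨w, hwC⟩ : ↥S.Ca) ∈ R := h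
  -- `R` together with `C_B(a)` is everything
  let π : ↥S.CB →* ↥S.Ca ⧸ R := (QuotientGroup.mk' R).comp (Subgroup.inclusion fun _ hb => S.CB_Ca hb)
  have hwB : w ∉ S.B := fun hb => hw1 (orderOf_eq_one_iff.1 (Nat.eq_one_of_dvd_coprimes
    (Nat.Coprime.mul_right (S.W_coprime hw).2.1 (S.W_coprime hw).2.2.1) dvd_rfl
    (S.card_CB ▸ Subgroup.orderOf_dvd_natCard _ (⟨hb, hwC⟩ : w ∈ S.CB))))
  obtain ⟨u, hu, b, hb, hwe⟩ := S.Ca_cases hwC hwB
  have huB : u ∈ S.CB := ⟨S.U_le hu.1, hu.2⟩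
  have hn : QuotientGroup.mk' R ⟨S.n, S.n_mem_Ca⟩ ∈ π.range := by
    refine ⟨(⟨u, huB⟩ : ↥S.CB)⁻¹ * (⟨b, hb⟩ : ↥S.CB)⁻¹, ?_⟩
    show QuotientGroup.mk' R _ = _
    rw [QuotientGroup.mk'_eq_mk']
    refine ⟨(⟨b, S.CB_Ca hb⟩ : ↥S.Ca) * ⟨w, hwC⟩ * (⟨b, S.CB_Ca hb⟩ : ↥S.Ca)⁻¹, hnorm.conj_mem _ hwR _,
      Subtype.ext ?_⟩
    simp only [Subgroup.coe_mul, Subgroup.coe_inv, Subgroup.coe_inclusion]
    rw [hwe]; group
  have hsurj : Function.Surjective π := by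
    rw [← MonoidHom.range_eq_top, eq_top_iff]
    intro x _
    obtain ⟨g, rfl⟩ := QuotientGroup.mk'_surjective R x
    by_cases hgB : (g : G) ∈ S.B
    · exact ⟨⟨g, hgB, g.2⟩, rfl⟩
    · obtain ⟨u', hu', b', hb', e⟩ := S.Ca_cases g.2 hgB
      have : g = ⟨u', S.CU_Ca hu'⟩ * ⟨S.n, S.n_mem_Ca⟩ * ⟨b', S.CB_Ca hb'⟩ := Subtype.ext e
      rw [this, map_mul, map_mul]
      exact mul_mem (mul_mem ⟨⟨u', S.U_le hu'.1, hu'.2⟩, rfl⟩ hn) ⟨⟨b', hb'⟩, rfl⟩
  obtain ⟨c, hc⟩ : R.index ∣ q * (q - 1) := by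
    rw [← S.card_CB, Subgroup.index_eq_card]; exact Subgroup.card_dvd_of_surjective π hsurj
  have hcard := Subgroup.card_mul_index R
  rw [S.card_Ca, hc, mul_assoc, mul_comm (Nat.card ↥R) R.index] at hcard
  have h4 : 4 ∣ Nat.card ↥R := by
    rw [Nat.eq_of_mul_eq_mul_left (Nat.pos_of_ne_zero R.index_ne_zero_of_finite) hcard, S.quarter_facts.2.1]
    exact dvd_mul_of_dvd_right (dvd_mul_right 4 _) c
  have : Fact (Nat.Prime 2) := ⟨Nat.prime_two⟩
  obtain ⟨T, hT⟩ := Sylow.exists_subgroup_card_pow_prime 2 (n := 2) h4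
  obtain ⟨x, hx, hxa⟩ : ∃ x ∈ T, (x : G) ≠ 1 ∧ (x : G) ≠ S.a := by
    by_contra hc
    push Not at hc
    have hle : Set.range (fun x : ↥T => (((x : ↥R) : ↥S.Ca) : G)) ⊆ {1, S.a} := by
      rintro _ ⟨x, rfl⟩
      by_cases e : (((x : ↥R) : ↥S.Ca) : G) = 1
      · exact Or.inl e
      · exact Or.inr (hc _ x.2 e)
    have h1 := Set.ncard_le_ncard hle (Set.toFinite _)
    rw [← Nat.card_coe_set_eq, Nat.card_range_of_injective (fun x y e => Subtype.ext (Subtype.ext (Subtype.ext e))), hT] at h1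
    have := Set.ncard_insert_le (1 : G) {S.a}
    rw [Set.ncard_singleton] at this
    omega
  have hx2 : ((x : ↥S.Ca) : G) * ((x : ↥S.Ca) : G) = 1 := by
    refine S.two_elem_sq (j := 2) ?_
    rw [Subgroup.orderOf_coe, Subgroup.orderOf_coe, ← hT]
    exact Subgroup.orderOf_dvd_natCard _ hx
  obtain ⟨P, s, hP, hnP, -, hs, hsE, -, -⟩ := S.exists_frame
  have hnotE : s ∉ fourGrp S.a_sq (S.P_sq P hP hnP) (S.mem_Ca.1 (hP hnP)).symm := hsE
  obtain ⟨hl, -⟩ := S.lines P hP hnP hs S.n_ne_one S.a_ne_n.symm hnotE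
  obtain ⟨v, hv, hv0⟩ := Submodule.exists_mem_ne_zero_of_ne_bot (p := Lin.joint (S.ρ S.a) (S.ρ S.n) (S.ρ s) true false true)
    fun e => by have := hl true false true; rw [e, finrank_bot] at this; omega
  have hva : S.ρ S.a v = v := Lin.mem_eig_true.1 hv.1.1
  have hvn : S.ρ S.n v = -v := Lin.mem_eig_false.1 hv.1.2
  obtain ⟨d, hd, e⟩ := S.Ca_involution (x : ↥S.Ca).2 hxa.1 hxa.2 hx2
  have hdx := hnorm.conj_mem _ (x : ↥R).2 ⟨d, hd⟩
  rw [hmem] at hdx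
  have h5 := hdx v hv.1.1
  push_cast at h5
  have h6 : S.ρ S.n v = v := by
    rcases e with e | e <;> rw [e] at h5
    · exact h5
    · rwa [map_mul, Module.End.mul_apply, hva] at h5
  rw [hvn] at h6
  have : (2 : K) • v = 0 := by rw [two_smul]; nth_rw 1 [← h6]; exact neg_add_cancel v
  exact hv0 ((smul_eq_zero.1 this).resolve_left S.two_ne_zero_K)

theorem block_finrank (j : Bool) : Module.finrank K ↥(Lin.eig (S.ρ S.a) true ⊓ Lin.eig (S.ρ S.n) j) = 2 := by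
  obtain ⟨P, s, hP, hnP, -, hs, hsE, hPD, -⟩ := S.exists_frame
  have hnotE : s ∉ fourGrp S.a_sq (S.P_sq P hP hnP) (S.mem_Ca.1 (hP hnP)).symm := hsE
  obtain ⟨hl, -⟩ := S.lines P hP hnP hs S.n_ne_one S.a_ne_n.symm hnotE
  obtain ⟨h1, h2⟩ := S.mem_D.1 (hPD hs)
  have hinv := Lin.inf_mapsTo (Lin.eig_mapsTo (h1.symm.map S.ρ) true) (Lin.eig_mapsTo (h2.symm.map S.ρ) j)
  have h := (Lin.split S.two_ne_zero_K (A := S.ρ s) (by rw [← map_mul, S.P_sq P hP hs, map_one]) hinv).1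
  have e1 := hl true j true
  have e2 := hl true j false
  unfold Lin.joint at e1 e2
  omega

/-- The quarter torus is cyclic. -/
theorem isCyclic_W : IsCyclic ↥S.W := by
  let M : Submodule K (Fin 8 → K) := Lin.eig (S.ρ S.a) true ⊓ Lin.eig (S.ρ S.n) false
  have hinv : ∀ j, ∀ w ∈ S.W, ∀ v ∈ Lin.eig (S.ρ S.a) true ⊓ Lin.eig (S.ρ S.n) j,
      S.ρ w v ∈ Lin.eig (S.ρ S.a) true ⊓ Lin.eig (S.ρ S.n) j := fun j w hw =>
    Lin.inf_mapsTo (Lin.eig_mapsTo (Commute.map (S.mem_D.1 (S.W_le hw)).1.symm S.ρ) true)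
      (Lin.eig_mapsTo (Commute.map (S.mem_D.1 (S.W_le hw)).2.symm S.ρ) j)
  let act : MulDistribMulAction ↥S.W (Multiplicative ↥M) :=
    { smul := fun w v => Multiplicative.ofAdd ⟨S.ρ (w : G) (v.toAdd : Fin 8 → K), hinv false w w.2 _ v.toAdd.2⟩
      one_smul := fun v => Subtype.ext (show S.ρ ((1 : ↥S.W) : G) (v.toAdd : Fin 8 → K) = (v.toAdd : Fin 8 → K) by
        rw [Subgroup.coe_one, map_one, Module.End.one_apply])
      mul_smul := fun w x v => Subtype.ext (show S.ρ ((w * x : ↥S.W) : G) (v.toAdd : Fin 8 → K) =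
          S.ρ (w : G) (S.ρ (x : G) (v.toAdd : Fin 8 → K)) by simp)
      smul_mul := fun w u v => Subtype.ext (show S.ρ (w : G) ((u.toAdd : Fin 8 → K) + (v.toAdd : Fin 8 → K)) =
          S.ρ (w : G) (u.toAdd : Fin 8 → K) + S.ρ (w : G) (v.toAdd : Fin 8 → K) from map_add _ _ _)
      smul_one := fun w => Subtype.ext (show S.ρ (w : G) 0 = 0 from map_zero _) }
  have : Nontrivial (Multiplicative ↥M) := by
    have h := S.block_finrank false
    have : Nontrivial ↥M := Module.nontrivial_of_finrank_eq_succ (R := K) h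
    exact inferInstance
  refine Frobenius.FPF.isCyclic_of_commute (V := Multiplicative ↥M) (fun w hw v hv => ?_)
    fun x y => Subtype.ext (S.W_comm x.2 y.2)
  have hv' : S.ρ (w : G) (v.toAdd : Fin 8 → K) = (v.toAdd : Fin 8 → K) :=
    congrArg (fun z : Multiplicative ↥M => (z.toAdd : Fin 8 → K)) hv
  by_contra hv1
  have hv0 : (v.toAdd : Fin 8 → K) ≠ 0 := fun e => hv1 (Subtype.ext e)
  obtain ⟨-, hq, hq1, -⟩ := S.W_coprime w.2
  have hpow : S.ρ (w : G) ^ orderOf (w : G) = 1 := by rw [← map_pow, pow_orderOf_eq_one, map_one]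
  have htriv : ∀ j, ∀ z ∈ Lin.eig (S.ρ S.a) true ⊓ Lin.eig (S.ρ S.n) j, S.ρ (w : G) z = z := by
    intro j
    cases j
    · exact Lin.fix_of_plane hq1 (S.natCast_ne_zero_K hq) hpow (S.block_finrank false) (hinv false w w.2) v.toAdd.2
        hv0 hv'
    · exact Lin.fix_of_plane hq1 (S.natCast_ne_zero_K hq) hpow (S.block_finrank true) (hinv true w w.2)
        ⟨Lin.mem_eig_true.2 (S.ρ_v₀ _), Lin.mem_eig_true.2 (S.ρ_v₀ _)⟩ S.v₀_ne (S.ρ_v₀ _)
  refine hw (Subtype.ext (S.W_moves w.2 fun z hz => ?_))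
  obtain ⟨z1, hz1, z2, hz2, rfl⟩ := Submodule.mem_sup.1
    ((Lin.split S.two_ne_zero_K (A := S.ρ S.n) (by rw [← map_mul, S.n_sq, map_one])
      (Lin.eig_mapsTo (Commute.map S.commute_n_a.symm S.ρ) true)).2 hz)
  rw [map_add, htriv true z1 hz1, htriv false z2 hz2]

end Sys

end Cfsg.Agent.Lib.Ree.Tori
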