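import Cfsg.Agent.Lib.Ree.Tori.QuarterA

/-!
The centraliser of a nontrivial element of `W` is `A`.
-/

set_option autoImplicit false

namespace Cfsg.Agent.Lib.Ree.Tori

open Subgroup
open scoped Pointwise

variable {G : Type*} [Group G] [Finite G] {K : Type*} [Field K] [Fintype K]

local notation "q" => Fintype.card K

namespace Sys

variable (S : Sys G K)
include S

theorem W_pair {y : G} (hy : y ∈ S.W) : ∀ g ∈ S.A, Commute y g := fun _ hg => S.A_comm (S.W_le_A hy) hg

/-- The centraliser of a nontrivial element of `W` has no 8-subgroup and no element of odd prime order dividing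
`q (q - 1)`. -/
theorem centralizer_y_prime {y : G} (hy : y ∈ S.W) (hy1 : y ≠ 1) {z : G} (hz : Commute z y) {r : ℕ} (hr : r.Prime)
    (ho : orderOf z = r) (hr2 : r ≠ 2) : ¬ r ∣ q ∧ ¬ r ∣ q - 1 := by
  obtain ⟨-, hq, hq1, -⟩ := S.W_coprime hy
  have hco : ∀ g : G, orderOf (g * y * g⁻¹) = orderOf y := fun g => ((SemiconjBy.conj_mk g y).orderOf_eq _).symm
  have hcent : ∀ g : G, g * y * g⁻¹ ∈ centralizer ({g * z * g⁻¹} : Set G) := fun g =>
    mem_centralizer_conj (mem_centralizer_singleton_iff.2 hz.symm.eq)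
  have hz1 : z ≠ 1 := fun h => hr.one_lt.ne' (by rw [← ho, h, orderOf_one])
  constructor
  · intro h
    have h3 := S.q_prime_dvd hr h
    subst h3
    obtain ⟨g, hg⟩ := S.exists_conj_U (x := z) (j := 1) (by rw [ho, pow_one])
    have h4 := Subgroup.orderOf_dvd_natCard _ (S.centralizer_U_le hg (fun e => hz1 (conj_eq_one_iff.1 e)) (hcent g))
    rw [hco, S.card_B] at h4
    exact hy1 (orderOf_eq_one_iff.1 (Nat.eq_one_of_dvd_coprimes (Nat.Coprime.mul_right (hq.pow_right 3) hq1) dvd_rfl h4))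
  · intro h
    obtain ⟨g, hg⟩ := S.exists_conj_H_prime hr hr2 h (j := 1) (by rw [ho, pow_one])
    have hne : g * z * g⁻¹ * (g * z * g⁻¹) ≠ 1 := by
      rw [show g * z * g⁻¹ * (g * z * g⁻¹) = g * (z * z) * g⁻¹ by group]
      intro e
      have := orderOf_dvd_of_pow_eq_one (show z ^ 2 = 1 by rw [pow_two]; exact conj_eq_one_iff.1 e)
      rw [ho] at this
      exact hr2 ((Nat.prime_dvd_prime_iff_eq hr Nat.prime_two).1 this)
    have h4 := hcent g
    rw [S.centralizer_H hg hne] at h4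
    have h5 := Subgroup.orderOf_dvd_natCard _ h4
    rw [hco, S.card_H] at h5
    exact hy1 (orderOf_eq_one_iff.1 (Nat.eq_one_of_dvd_coprimes hq1 dvd_rfl h5))

theorem not_eight_y {y : G} (hy : y ∈ S.W) (hy1 : y ≠ 1) : ¬ 8 ∣ Nat.card ↥(centralizer ({y} : Set G)) := by
  intro h
  obtain ⟨P, hP, -, -⟩ := S.exists_sylow
  obtain ⟨g, hg⟩ := S.eight_dvd_conj_P h P
  have hm : g⁻¹ * y * g ∈ (P : Subgroup G) := S.centralizer_P P hP fun p hp => by
    have h1 := mem_centralizer_singleton_iff.1 (hg p hp)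
    show g⁻¹ * y * g * p = p * (g⁻¹ * y * g)
    calc g⁻¹ * y * g * p = g⁻¹ * (y * (g * p * g⁻¹)) * g := by group
      _ = p * (g⁻¹ * y * g) := by rw [← h1]; group
  have h2 := S.P_sq P hP hm
  refine hy1 (S.W_sq hy ?_)
  calc y * y = g * (g⁻¹ * y * g * (g⁻¹ * y * g)) * g⁻¹ := by group
    _ = 1 := by rw [h2]; group

theorem card_inf_centralizer_y {y e : G} (hy : y ∈ S.W) (hy1 : y ≠ 1) (he : e ∈ S.E) (he1 : e ≠ 1) :
    centralizer ({e} : Set G) ⊓ centralizer ({y} : Set G) = S.A := by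
  set T := centralizer ({e} : Set G) ⊓ centralizer ({y} : Set G) with hT
  have hAT : S.A ≤ T := fun g hg => ⟨mem_centralizer_singleton_iff.2 (S.A_comm hg (S.E_le_A he)).eq,
    mem_centralizer_singleton_iff.2 (S.A_comm hg (S.W_le_A hy)).eq⟩
  refine (eq_of_le_of_card_ge hAT ?_).symm
  rw [S.card_A]
  have hd := Subgroup.card_dvd_of_le (show T ≤ centralizer ({e} : Set G) from inf_le_left)
  rw [S.card_centralizer_invol he1 (S.E_sq he)] at hd
  have h4 := Subgroup.card_dvd_of_le hAT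
  rw [S.card_A] at h4
  obtain ⟨c, hc⟩ := h4
  rw [hc]
  obtain ⟨k, hk, ek⟩ := S.sub_one_split
  obtain ⟨-, el, -, -⟩ := S.quarter_facts
  -- no odd prime of `q k`, no eighth
  have hcop : ∀ r : ℕ, r.Prime → r ∣ Nat.card ↥T → r ≠ 2 → ¬ r ∣ q ∧ ¬ r ∣ q - 1 := by
    intro r hr hrd hr2
    have := Fact.mk hr
    obtain ⟨z, hz⟩ := exists_prime_orderOf_dvd_card' r hrd
    exact S.centralizer_y_prime hy hy1 (z := (z : G)) (mem_centralizer_singleton_iff.1 z.2.2) hr
      (by rw [Subgroup.orderOf_coe]; exact hz) hr2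
  have h8 : ¬ 8 ∣ Nat.card ↥T := fun h => S.not_eight_y hy hy1 (h.trans (Subgroup.card_dvd_of_le inf_le_right))
  suffices hc1 : c = 1 by rw [hc1, mul_one]
  by_contra hne
  obtain ⟨r, hr, hrc⟩ := Nat.exists_prime_and_dvd hne
  have hrT : r ∣ Nat.card ↥T := hc ▸ dvd_mul_of_dvd_right hrc _
  have hcd : c ∣ q * (q - 1) := by
    rw [hc, mul_comm (q * (q - 1))] at hd
    exact Nat.dvd_of_mul_dvd_mul_left (by omega) hd
  rcases (Nat.Prime.dvd_mul hr).1 (hrc.trans hcd) with h | h
  · by_cases hr2 : r = 2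
    · subst hr2; have := S.q_mod_eight; omega
    · exact (hcop r hr hrT hr2).1 h
  · by_cases hr2 : r = 2
    · subst hr2
      refine h8 (hc ▸ ?_)
      rw [el]
      obtain ⟨d, rfl⟩ := hrc
      exact ⟨(q + 1) / 4 * d, by ring⟩
    · exact (hcop r hr hrT hr2).2 h

theorem no_three_y {y : G} (hy : y ∈ S.W) (hy1 : y ≠ 1) : ¬ 3 ∣ Nat.card ↥(centralizer ({y} : Set G)) := by
  intro h
  have : Fact (Nat.Prime 3) := ⟨Nat.prime_three⟩
  obtain ⟨z, hz⟩ := exists_prime_orderOf_dvd_card' 3 h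
  exact (S.centralizer_y_prime hy hy1 (z := (z : G)) (mem_centralizer_singleton_iff.1 z.2) Nat.prime_three
    (by rw [Subgroup.orderOf_coe]; exact hz) (by norm_num)).1 S.three_dvd

theorem E_cases {e : G} (he : e ∈ S.E) : e = 1 ∨ e = S.a ∨ e = S.n ∨ e = S.a * S.n := he

/-- The sixth power of an element normalising the four-group centralises it. -/
theorem pow_six_mem_D {g : G} (hg : ∀ e ∈ S.E, g * e * g⁻¹ ∈ S.E) : g ^ 6 ∈ S.D := by
  have key : ∀ e ∈ S.E, e ≠ 1 → Commute (g ^ 6) e := by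
    intro e he he1
    have hc : ∀ k : ℕ, g ^ k * e * (g ^ k)⁻¹ ∈ S.E ∧ g ^ k * e * (g ^ k)⁻¹ ≠ 1 := by
      intro k
      refine ⟨?_, fun h => he1 (conj_eq_one_iff.1 h)⟩
      induction k with
      | zero => simpa using he
      | succ k ih => simpa [pow_succ', mul_assoc] using hg _ ih
    have red : ∀ i j : ℕ, i ≤ j → g ^ i * e * (g ^ i)⁻¹ = g ^ j * e * (g ^ j)⁻¹ → Commute (g ^ (j - i)) e := by
      intro i j hij h
      rw [← Nat.add_sub_cancel' hij, pow_add, mul_inv_rev] at h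
      have h2 : e = g ^ (j - i) * e * (g ^ (j - i))⁻¹ := by
        refine mul_left_cancel (a := g ^ i) (mul_right_cancel (b := (g ^ i)⁻¹) ?_)
        exact h.trans (by group)
      exact mul_inv_eq_iff_eq_mul.1 h2.symm
    have pig : Commute (g ^ 1) e ∨ Commute (g ^ 2) e ∨ Commute (g ^ 3) e := by
      obtain ⟨h0, h0'⟩ := hc 0
      obtain ⟨h1, h1'⟩ := hc 1
      obtain ⟨h2, h2'⟩ := hc 2
      obtain ⟨h3, h3'⟩ := hc 3
      by_contra hno
      push Not at hno
      obtain ⟨n1, n2, n3⟩ := hno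
      have d01 := fun h => n1 (red 0 1 (by norm_num) h)
      have d02 := fun h => n2 (red 0 2 (by norm_num) h)
      have d03 := fun h => n3 (red 0 3 (by norm_num) h)
      have d12 := fun h => n1 (red 1 2 (by norm_num) h)
      have d13 := fun h => n2 (red 1 3 (by norm_num) h)
      have d23 := fun h => n1 (red 2 3 (by norm_num) h)
      rcases S.E_cases h0 with p | p | p | p
      · exact h0' p
      all_goals
        rcases S.E_cases h1 with r | r | r | r
        · exact h1' r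
        all_goals
          first
          | exact d01 (p.trans r.symm)
          | (rcases S.E_cases h2 with t | t | t | t
             · exact h2' t
             all_goals
               first
               | exact d02 (p.trans t.symm)
               | exact d12 (r.trans t.symm)
               | (rcases S.E_cases h3 with u | u | u | u
                  · exact h3' u
                  all_goals
                    first
                    | exact d03 (p.trans u.symm)
                    | exact d13 (r.trans u.symm)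
                    | exact d23 (t.trans u.symm)))
    rcases pig with h | h | h
    · rw [pow_one] at h; exact h.pow_left 6
    · rw [show 6 = 2 * 3 by norm_num, pow_mul]; exact h.pow_left 3
    · rw [show 6 = 3 * 2 by norm_num, pow_mul]; exact h.pow_left 2
  exact S.mem_D.2 ⟨key _ (Or.inr (Or.inl rfl)) S.a_ne, key _ (Or.inr (Or.inr (Or.inl rfl))) S.n_ne_one⟩

/-- The centraliser of a nontrivial element of `W`. -/
theorem centralizer_y {y : G} (hy : y ∈ S.W) (hy1 : y ≠ 1) : centralizer ({y} : Set G) = S.A := by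
  set C := centralizer ({y} : Set G) with hC
  have hAC : S.A ≤ C := fun g hg => mem_centralizer_singleton_iff.2 (S.A_comm hg (S.W_le_A hy)).eq
  refine le_antisymm ?_ hAC
  have hEC : S.E ≤ C := S.E_le_A.trans hAC
  have hcard : Nat.card ↥(S.E.subgroupOf C) = 4 := by
    rw [Nat.card_congr (Subgroup.subgroupOfEquivOfLe hEC).toEquiv, S.card_E]
  have hfac : (Nat.card ↥C).factorization 2 = 2 := by
    have h1 : 4 ∣ Nat.card ↥C := S.card_E ▸ Subgroup.card_dvd_of_le hEC
    refine le_antisymm ?_ ((Nat.prime_two.pow_dvd_iff_le_factorization Nat.card_pos.ne').1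
      (show 2 ^ 2 ∣ _ from h1))
    by_contra hlt
    exact S.not_eight_y hy hy1 ((show 2 ^ 3 ∣ 2 ^ _ from pow_dvd_pow 2 (not_le.1 hlt)).trans (Nat.ordProj_dvd _ 2))
  have : Fact (Nat.Prime 2) := ⟨Nat.prime_two⟩
  obtain ⟨Q, hQ⟩ : ∃ Q : Sylow 2 ↥C, (Q : Subgroup ↥C) = S.E.subgroupOf C :=
    ⟨Sylow.ofCard (S.E.subgroupOf C) (hcard.trans (by rw [hfac]; norm_num)), rfl⟩
  have hN : normalizer ((Q : Subgroup ↥C) : Set ↥C) ≤ centralizer ((Q : Subgroup ↥C) : Set ↥C) := by
    rw [hQ]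
    intro g hg
    have hgE : ∀ e ∈ S.E, (g : G) * e * (g : G)⁻¹ ∈ S.E := fun e he =>
      (Subgroup.mem_normalizer_iff.1 hg ⟨e, hEC he⟩).1 he
    have h6 := S.pow_six_mem_D hgE
    obtain ⟨i, o, ho, hio⟩ := Nat.exists_eq_two_pow_mul_odd (orderOf_pos g).ne'
    have ho3 : Nat.Coprime o 6 := by
      refine Nat.coprime_of_dvd' fun r hr h1 h2 => ?_
      rcases (Nat.Prime.dvd_mul hr).1 (show r ∣ 2 * 3 from h2) with h | h
      · rw [(Nat.prime_dvd_prime_iff_eq hr Nat.prime_two).1 h] at h1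
        exact absurd h1 ho.not_two_dvd_nat
      · rw [(Nat.prime_dvd_prime_iff_eq hr Nat.prime_three).1 h] at h1
        exact absurd ((h1.trans (Dvd.intro_left _ hio.symm)).trans (orderOf_dvd_natCard g)) (S.no_three_y hy hy1)
    have hgo : g ^ o ∈ (Q : Subgroup ↥C) := by
      have hn' : zpowers (g ^ o) ≤ normalizer ((Q : Subgroup ↥C) : Set ↥C) := zpowers_le.2 (pow_mem (hQ ▸ hg) o)
      have hp : IsPGroup 2 ↥(zpowers (g ^ o)) := by
        refine IsPGroup.of_card (n := i) ?_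
        rw [Nat.card_zpowers, orderOf_pow' _ ho.pos.ne', hio, Nat.gcd_mul_left_left, Nat.mul_div_cancel _ ho.pos]
      have h := Q.3 (hp.to_sup_of_normal_right' Q.2 hn') le_sup_right
      exact h ▸ Subgroup.mem_sup_left (mem_zpowers _)
    rw [hQ] at hgo
    refine mem_centralizer_iff.2 fun e he => Subtype.ext ?_
    have c1 : Commute ((g : G) ^ o) (e : G) :=
      (S.E_commute_D he (S.E_le_D (by simpa [Subgroup.mem_subgroupOf] using hgo))).symm
    have c6 : Commute ((g : G) ^ 6) (e : G) := (S.E_commute_D he h6).symm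
    have c3 := (c1.zpow_left (Nat.gcdA o 6)).mul_left (c6.zpow_left (Nat.gcdB o 6))
    rw [← zpow_natCast, ← zpow_natCast, ← zpow_mul, ← zpow_mul, ← zpow_add, ← Nat.gcd_eq_gcd_ab,
      ho3.gcd_eq_one, Nat.cast_one, zpow_one] at c3
    exact c3.eq.symm
  obtain ⟨N, hNn, hc⟩ : ∃ N : Subgroup ↥C, N.Normal ∧ N.IsComplement' (Q : Subgroup ↥C) :=
    ⟨_, MonoidHom.normal_ker _, MonoidHom.ker_transferSylow_isComplement' Q hN⟩
  have hNodd : Odd (Nat.card ↥N) := by
    rw [Nat.odd_iff]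
    by_contra h
    have h1 := hc.card_mul
    rw [hQ, hcard] at h1
    exact S.not_eight_y hy hy1 (h1 ▸ ⟨Nat.card ↥N / 2, by omega⟩)
  have hEN : closure ({S.a, S.n} : Set G) ≤ normalizer ((N.map C.subtype) : Set G) := by
    refine (closure_le _).2 ?_
    intro e he
    have heC : e ∈ C := hEC (by
      rcases he with rfl | rfl
      exacts [Or.inr (Or.inl rfl), Or.inr (Or.inr (Or.inl rfl))])
    refine Subgroup.mem_normalizer_iff.2 fun x => ⟨?_, ?_⟩
    · rintro ⟨w, hw, rfl⟩
      exact ⟨⟨e, heC⟩ * w * ⟨e, heC⟩⁻¹, hNn.conj_mem w hw _, rfl⟩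
    · rintro ⟨w, hw, e'⟩
      refine ⟨(⟨e, heC⟩ : ↥C)⁻¹ * w * ⟨e, heC⟩, by simpa using hNn.conj_mem w hw (⟨e, heC⟩ : ↥C)⁻¹, ?_⟩
      simp only [Subgroup.coe_subtype, Subgroup.coe_mul, Subgroup.coe_inv] at e' ⊢
      rw [e']; group
  have hle : N.map C.subtype ≤ S.A := by
    refine Coprime.le_of_pair Nat.prime_two ?_ hEN S.commute_n_a.symm (by rw [pow_two, S.a_sq])
      (by rw [pow_two, S.n_sq]) S.n_ne_one ?_ fun x hx hx1 => ?_
    · rw [Subgroup.card_map_of_injective C.subtype_injective]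
      exact Nat.coprime_two_left.2 hNodd
    · intro h
      classical
      rw [mem_zpowers_iff_mem_range_orderOf, S.orderOf_n, Finset.mem_image] at h
      obtain ⟨k, hk, e⟩ := h
      rw [Finset.mem_range] at hk
      interval_cases k
      · exact S.a_ne (by simpa using e.symm)
      · exact S.a_ne_n (by simpa using e.symm)
    · have hxE : x ∈ S.E := (closure_le _).2 (by
        rintro z (rfl | rfl)
        exacts [Or.inr (Or.inl rfl), Or.inr (Or.inr (Or.inl rfl))]) hx
      rintro z ⟨hz1, hz2⟩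
      rw [← S.card_inf_centralizer_y hy hy1 hxE hx1]
      exact ⟨hz2, map_subtype_le _ hz1⟩
  intro g hg
  obtain ⟨⟨w, e⟩, hwe⟩ := hc.2 ⟨g, hg⟩
  have : g = ((w : ↥C) : G) * ((e : ↥C) : G) := (congrArg Subtype.val hwe).symm
  rw [this]
  exact mul_mem (hle ⟨_, w.2, rfl⟩) (S.E_le_A (Subgroup.mem_subgroupOf.1 (hQ ▸ e.2)))

end Sys

end Cfsg.Agent.Lib.Ree.Tori
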