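import Cfsg.Agent.Lib.Ree.Tori.Sys
import Cfsg.Agent.Lib.Ree.Tori.Lin

/-!
Sylow 2-subgroups of the abstract small Ree group: elementary abelian of order eight, self-centralising,
all involutions conjugate; centralisers of four-groups.
-/

set_option autoImplicit false

namespace Cfsg.Agent.Lib.Ree.Tori

open Subgroup

variable {G : Type*} [Group G] [Finite G] {K : Type*} [Field K] [Fintype K]

/-- Orbit-stabiliser for conjugation by a subgroup. -/
theorem card_conjSet (T : Subgroup G) (x : G) :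
    Nat.card {y // ∃ g ∈ T, g * x * g⁻¹ = y} * Nat.card ↥(T ⊓ centralizer ({x} : Set G)) = Nat.card ↥T := by
  have hC : ∀ g h : ↥T, (g : G) * x * (g : G)⁻¹ = h * x * (h : G)⁻¹ ↔
      g⁻¹ * h ∈ (centralizer ({x} : Set G)).subgroupOf T := by
    intro g h
    rw [mem_subgroupOf, mem_centralizer_singleton_iff]
    push_cast
    constructor
    · intro e
      calc (g : G)⁻¹ * h * x = (g : G)⁻¹ * (h * x * (h : G)⁻¹) * h := by group
        _ = x * ((g : G)⁻¹ * h) := by rw [← e]; group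
    · intro e
      calc (g : G) * x * (g : G)⁻¹ = g * (x * ((g : G)⁻¹ * h)) * (h : G)⁻¹ := by group
        _ = h * x * (h : G)⁻¹ := by rw [← e]; group
  let f : ↥T ⧸ (centralizer ({x} : Set G)).subgroupOf T → {y // ∃ g ∈ T, g * x * g⁻¹ = y} :=
    Quotient.lift (fun g : ↥T => ⟨g * x * (g : G)⁻¹, g, g.2, rfl⟩)
      fun g h e => Subtype.ext ((hC g h).2 (QuotientGroup.leftRel_apply.1 e))
  have hf : Function.Bijective f := by
    refine ⟨fun a b e => ?_, fun y => ?_⟩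
    · induction a using QuotientGroup.induction_on with
      | H g =>
        induction b using QuotientGroup.induction_on with
        | H h => exact QuotientGroup.eq.2 ((hC g h).1 (Subtype.mk.inj e))
    · obtain ⟨_, g, hg, rfl⟩ := y
      exact ⟨QuotientGroup.mk (⟨g, hg⟩ : ↥T), rfl⟩
  rw [← Nat.card_congr (Equiv.ofBijective f hf), ← Subgroup.index_eq_card, mul_comm,
    ← Subgroup.card_mul_index ((centralizer ({x} : Set G)).subgroupOf T)]
  congr 1
  rw [← Nat.card_congr (Subgroup.subgroupOfEquivOfLe (H := T ⊓ centralizer ({x} : Set G)) inf_le_left).toEquiv,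
    inf_subgroupOf_left]

theorem centralizer_conj (g x : G) :
    centralizer ({g * x * g⁻¹} : Set G) = (centralizer ({x} : Set G)).map (MulAut.conj g).toMonoidHom := by
  ext y
  rw [mem_map, mem_centralizer_singleton_iff]
  constructor
  · intro h
    refine ⟨g⁻¹ * y * g, mem_centralizer_singleton_iff.2 ?_, by simp [mul_assoc]⟩
    calc g⁻¹ * y * g * x = g⁻¹ * (y * (g * x * g⁻¹)) * g := by group
      _ = x * (g⁻¹ * y * g) := by rw [h]; group
  · rintro ⟨z, hz, rfl⟩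
    rw [mem_centralizer_singleton_iff] at hz
    simp only [MulEquiv.coe_toMonoidHom, MulAut.conj_apply]
    calc g * z * g⁻¹ * (g * x * g⁻¹) = g * (z * x) * g⁻¹ := by group
      _ = g * x * g⁻¹ * (g * z * g⁻¹) := by rw [hz]; group

theorem card_centralizer_conj (g x : G) :
    Nat.card ↥(centralizer ({g * x * g⁻¹} : Set G)) = Nat.card ↥(centralizer ({x} : Set G)) := by
  rw [centralizer_conj]
  exact Subgroup.card_map_of_injective (MulAut.conj g).injective

theorem mem_centralizer_conj {g x y : G} (h : y ∈ centralizer ({x} : Set G)) :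
    g * y * g⁻¹ ∈ centralizer ({g * x * g⁻¹} : Set G) := by
  rw [centralizer_conj]
  exact ⟨y, h, rfl⟩

/-- A four-group. -/
def fourGrp {x y : G} (hx : x * x = 1) (hy : y * y = 1) (hxy : Commute x y) : Subgroup G where
  carrier := {g | g = 1 ∨ g = x ∨ g = y ∨ g = x * y}
  one_mem' := Or.inl rfl
  inv_mem' := by
    rintro g (rfl | rfl | rfl | rfl)
    · exact Or.inl inv_one
    · exact Or.inr (Or.inl (inv_eq_of_mul_eq_one_right hx))
    · exact Or.inr (Or.inr (Or.inl (inv_eq_of_mul_eq_one_right hy)))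
    · refine Or.inr (Or.inr (Or.inr ?_))
      rw [mul_inv_rev, inv_eq_of_mul_eq_one_right hx, inv_eq_of_mul_eq_one_right hy, hxy.eq]
  mul_mem' := by
    have e1 : y * x = x * y := hxy.eq.symm
    have e2 : x * (x * y) = y := by rw [← mul_assoc, hx, one_mul]
    have e3 : y * (x * y) = x := by rw [← mul_assoc, e1, mul_assoc, hy, mul_one]
    have e4 : x * y * x = y := by rw [mul_assoc, e1, e2]
    have e5 : x * y * y = x := by rw [mul_assoc, hy, mul_one]
    have e6 : x * y * (x * y) = 1 := by rw [← mul_assoc, e4, hy]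
    rintro a b (rfl | rfl | rfl | rfl) (rfl | rfl | rfl | rfl) <;>
      simp [one_mul, mul_one, hx, hy, e1, e2, e3, e4, e5, e6]

theorem mem_fourGrp {x y : G} (hx : x * x = 1) (hy : y * y = 1) (hxy : Commute x y) {g : G} :
    g ∈ fourGrp hx hy hxy ↔ g = 1 ∨ g = x ∨ g = y ∨ g = x * y := Iff.rfl

theorem card_fourGrp {x y : G} (hx : x * x = 1) (hy : y * y = 1) (hxy : Commute x y) (hx1 : x ≠ 1) (hy1 : y ≠ 1)
    (hne : x ≠ y) : Nat.card ↥(fourGrp hx hy hxy) = 4 := by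
  classical
  have e : (fourGrp hx hy hxy : Set G) = ↑({1, x, y, x * y} : Finset G) := by
    ext g; simp [mem_fourGrp hx hy hxy]
  rw [← SetLike.coe_sort_coe, e, Nat.card_coe_set_eq, Set.ncard_coe_finset]
  have h1 : x * y ≠ 1 := fun h => hne ((eq_inv_of_mul_eq_one_left h).trans (inv_eq_of_mul_eq_one_right hy))
  have h2 : x * y ≠ x := fun h => hy1 (mul_eq_left.1 h)
  have h3 : x * y ≠ y := fun h => hx1 (mul_eq_right.1 h)
  rw [Finset.card_insert_of_notMem (by simp [hx1.symm, hy1.symm, h1.symm]),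
    Finset.card_insert_of_notMem (by simp [hne, h2.symm]), Finset.card_pair h3.symm]

local notation "q" => Fintype.card K

namespace Sys

variable (S : Sys G K)
include S

theorem sub_one_split : ∃ k, Odd k ∧ q - 1 = 2 * k :=
  ⟨(q - 1) / 2, by rw [Nat.odd_iff]; have := S.q_mod_eight; omega, by have := S.q_mod_eight; omega⟩

theorem add_one_split : ∃ k, Odd k ∧ q + 1 = 4 * k :=
  ⟨(q + 1) / 4, by rw [Nat.odd_iff]; have := S.q_mod_eight; omega, by have := S.q_mod_eight; omega⟩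

theorem odd_q : Odd q := Nat.odd_iff.2 (by have := S.q_mod_eight; omega)

theorem cube_add_one : q ^ 3 + 1 = (q + 1) * (q ^ 2 - q + 1) := by
  have h : q ≤ q ^ 2 := Nat.le_self_pow (by norm_num) q
  zify [h]
  ring

theorem odd_big : Odd (q ^ 2 - q + 1) := by
  have h : q ≤ q ^ 2 := Nat.le_self_pow (by norm_num) q
  have e : Even (q ^ 2 - q) := by
    rw [pow_two, ← Nat.mul_sub_one]
    obtain ⟨k, -, hk⟩ := S.sub_one_split
    exact (show Even (q - 1) from ⟨k, by omega⟩).mul_left q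
  exact e.add_one

theorem Ca_two_part : ∃ o, Odd o ∧ Nat.card ↥S.Ca = 2 ^ 3 * o := by
  obtain ⟨k, hk, e⟩ := S.sub_one_split
  obtain ⟨l, hl, e'⟩ := S.add_one_split
  exact ⟨q * k * l, (S.odd_q.mul hk).mul hl, by rw [S.card_Ca, e, e']; ring⟩

theorem fac_two : (Nat.card G).factorization 2 = 3 ∧ (Nat.card ↥S.Ca).factorization 2 = 3 := by
  have key : ∀ {n o : ℕ}, Odd o → n = 2 ^ 3 * o → n.factorization 2 = 3 := by
    intro n o ho e
    rw [e, Nat.factorization_mul (by norm_num) ho.pos.ne', Finsupp.add_apply, Nat.prime_two.factorization_pow,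
      Finsupp.single_eq_same, Nat.factorization_eq_zero_of_not_dvd ho.not_two_dvd_nat]
  refine ⟨?_, ?_⟩
  · obtain ⟨k, hk, e⟩ := S.sub_one_split
    obtain ⟨l, hl, e'⟩ := S.add_one_split
    exact key (((((S.odd_q.mul S.odd_q).mul S.odd_q).mul hk).mul hl).mul S.odd_big)
      (by rw [S.card_G, S.cube_add_one, e, e']; ring)
  · obtain ⟨o, ho, e⟩ := S.Ca_two_part
    exact key ho e

theorem orderOf_n : orderOf S.n = 2 :=
  orderOf_eq_prime (by rw [pow_two, S.n_sq]) fun h => S.n_notMem (h ▸ one_mem _)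

theorem n_ne_one : S.n ≠ 1 := fun h => S.n_notMem (h ▸ one_mem _)

theorem a_ne_n : S.a ≠ S.n := fun h => S.n_notMem (h ▸ S.H_le S.a_mem)

theorem na_sq : S.n * S.a * (S.n * S.a) = 1 := by
  rw [S.commute_n_a.eq, mul_assoc, ← mul_assoc S.n, S.commute_n_a.eq, mul_assoc S.a S.n, S.n_sq, mul_one, S.a_sq]

/-- A Sylow 2-subgroup inside the centraliser of `a` containing `n`. -/
theorem exists_sylow : ∃ P : Sylow 2 G, (P : Subgroup G) ≤ S.Ca ∧ S.a ∈ (P : Subgroup G) ∧ S.n ∈ (P : Subgroup G) := by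
  set E := fourGrp S.a_sq S.n_sq S.commute_n_a.symm
  have hEle : E ≤ S.Ca := by
    rintro g (rfl | rfl | rfl | rfl)
    exacts [one_mem _, S.H_le_Ca S.a_mem, S.n_mem_Ca, mul_mem (S.H_le_Ca S.a_mem) S.n_mem_Ca]
  have hE : IsPGroup 2 ↥(E.subgroupOf S.Ca) := by
    refine IsPGroup.of_card (n := 2) ?_
    rw [Nat.card_congr (Subgroup.subgroupOfEquivOfLe hEle).toEquiv,
      card_fourGrp _ _ _ S.a_ne S.n_ne_one S.a_ne_n]
    rfl
  obtain ⟨Q, hQ⟩ := hE.exists_le_sylow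
  have hc : Nat.card ↥((Q : Subgroup ↥S.Ca).map S.Ca.subtype) = 2 ^ (Nat.card G).factorization 2 := by
    rw [Subgroup.card_map_of_injective S.Ca.subtype_injective]
    exact Q.card_eq_multiplicity.trans (by rw [S.fac_two.1, S.fac_two.2])
  refine ⟨Sylow.ofCard _ hc, map_subtype_le _, ?_, ?_⟩
  · exact ⟨⟨S.a, hEle (Or.inr (Or.inl rfl))⟩, hQ (mem_subgroupOf.2 (Or.inr (Or.inl rfl))), rfl⟩
  · exact ⟨⟨S.n, S.n_mem_Ca⟩, hQ (mem_subgroupOf.2 (Or.inr (Or.inr (Or.inl rfl)))), rfl⟩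

section Sylow

variable (P : Sylow 2 G) (hP : (P : Subgroup G) ≤ S.Ca)

theorem card_P : Nat.card ↥(P : Subgroup G) = 8 := by
  have := P.card_eq_multiplicity
  rw [S.fac_two.1] at this
  exact this

include hP

theorem a_mem_P : S.a ∈ (P : Subgroup G) := by
  have hn : zpowers S.a ≤ normalizer ((P : Subgroup G) : Set G) := by
    refine zpowers_le.2 (Subgroup.mem_normalizer_iff.2 fun x => ?_)
    constructor
    · intro hx
      rwa [(S.mem_Ca.1 (hP hx)).symm.eq, mul_inv_cancel_right]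
    · intro hx
      have h1 := S.mem_Ca.1 (hP hx)
      have : S.a * x * S.a⁻¹ = x := by
        have h2 : S.a * (S.a * x * S.a⁻¹) = S.a * x * S.a⁻¹ * S.a := h1.symm.eq
        rw [inv_mul_cancel_right, ← mul_assoc, ← mul_assoc, S.a_sq, one_mul] at h2
        rw [← h2, mul_assoc, ← mul_inv_rev, S.a_sq, inv_one, mul_one]
      rwa [this] at hx
  have hz : IsPGroup 2 ↥(zpowers S.a) := IsPGroup.of_card (n := 1) (by rw [Nat.card_zpowers, S.orderOf_a, pow_one])
  have hsup := hz.to_sup_of_normal_right' P.2 hn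
  have := P.3 hsup le_sup_right
  exact this ▸ Subgroup.mem_sup_left (mem_zpowers S.a)

/-- Elements of an abelian Sylow subgroup fixed by its normaliser are trivial. -/
theorem eq_one_of_fixed (hc : ∀ x ∈ (P : Subgroup G), ∀ y ∈ (P : Subgroup G), x * y = y * x) {y : G}
    (hy : y ∈ (P : Subgroup G)) (hf : ∀ g ∈ normalizer ((P : Subgroup G) : Set G), g * y = y * g) : y = 1 := by
  have : IsMulCommutative ↥(P : Subgroup G) := ⟨⟨fun u v => Subtype.ext (hc u u.2 v v.2)⟩⟩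
  open scoped IsMulCommutative in
  let ϕ : ↥(P : Subgroup G) →* ↥(P : Subgroup G) := MonoidHom.id _
  have key : ∀ (k : ℕ) (g₀ : G), g₀⁻¹ * y ^ k * g₀ ∈ (P : Subgroup G) → g₀⁻¹ * y ^ k * g₀ = y ^ k := by
    intro k g₀ h
    obtain ⟨g, hg, e⟩ := P.conj_eq_normalizer_conj_of_mem (y ^ k) g₀ (pow_mem hy k) h
    rw [e]
    exact (Commute.inv_mul_cancel ((Commute.pow_right (hf g hg) k)))
  open scoped IsMulCommutative in
  have h1 : MonoidHom.transfer (H := (P : Subgroup G)) (MonoidHom.id ↥(P : Subgroup G)) y = 1 := by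
    have hle := Abelianization.commutator_subset_ker (MonoidHom.transfer (H := (P : Subgroup G)) (MonoidHom.id ↥(P : Subgroup G)))
    exact hle (S.perfect ▸ Subgroup.mem_top y)
  open scoped IsMulCommutative in
  rw [MonoidHom.transfer_eq_pow _ y key] at h1
  have h2 : y ^ (P : Subgroup G).index = 1 := congrArg Subtype.val h1
  have h3 : orderOf y ∣ 8 := S.card_P P ▸ Subgroup.orderOf_dvd_natCard _ hy
  refine orderOf_eq_one_iff.1 (Nat.eq_one_of_dvd_coprimes ?_ h3 (orderOf_dvd_of_pow_eq_one h2))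
  rw [show (8 : ℕ) = 2 ^ 3 from rfl]
  exact Nat.Coprime.pow_left 3 (Nat.prime_two.coprime_iff_not_dvd.2 P.not_dvd_index)

/-- The Sylow 2-subgroup is elementary abelian. -/
theorem P_sq {x : G} (hx : x ∈ (P : Subgroup G)) : x * x = 1 := by
  by_contra hx2
  have h8 : orderOf x ∣ 8 := S.card_P P ▸ Subgroup.orderOf_dvd_natCard _ hx
  have h4 : x ^ 4 = 1 := by
    by_contra h4
    have ho : orderOf x = 8 := orderOf_eq_prime_pow (p := 2) (n := 2) h4 (orderOf_dvd_iff_pow_eq_one.1 h8)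
    have hz : zpowers x = (P : Subgroup G) :=
      eq_of_le_of_card_ge (zpowers_le.2 hx) (by rw [Nat.card_zpowers, ho, S.card_P P])
    obtain ⟨k, hk⟩ : S.a ∈ Submonoid.powers x :=
      (isOfFinOrder_of_finite x).mem_powers_iff_mem_zpowers.2 (hz ▸ S.a_mem_P P hP)
    have hk' : x ^ k = S.a := hk
    have hdvd : 8 ∣ 2 * k := ho ▸ orderOf_dvd_of_pow_eq_one (by rw [two_mul, pow_add, hk', S.a_sq])
    obtain ⟨j, hj⟩ : 4 ∣ k := by omega
    exact S.sq_ne_a (pow_mem (hP hx) (2 * j)) (by rw [← pow_add, ← hk', hj]; ring_nf)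
  have ho4 : orderOf x = 4 := orderOf_eq_prime_pow (p := 2) (n := 1) (by rwa [pow_one, pow_two]) h4
  set z := x * x with hz
  have hzx : Commute x z := by rw [hz]; exact (Commute.refl x).mul_right (Commute.refl x)
  have hax : S.a ∉ zpowers x := by
    intro h
    obtain ⟨k, hk⟩ := (isOfFinOrder_of_finite x).mem_powers_iff_mem_zpowers.2 h
    have hk' : x ^ k = S.a := hk
    have hdvd : 4 ∣ 2 * k := ho4 ▸ orderOf_dvd_of_pow_eq_one (by rw [two_mul, pow_add, hk', S.a_sq])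
    obtain ⟨j, hj⟩ : 2 ∣ k := by omega
    exact S.sq_ne_a (pow_mem (hP hx) j) (by rw [← pow_add, ← hk', hj, two_mul])
  have hgen : ∀ y ∈ (P : Subgroup G), ∃ i : ℕ, y = x ^ i ∨ y = x ^ i * S.a := by
    classical
    let T : Finset G := (Finset.range 4).image (fun i => x ^ i) ∪ (Finset.range 4).image (fun i => x ^ i * S.a)
    have hinj : Set.InjOn (fun i => x ^ i) (Finset.range 4 : Set ℕ) := by
      intro i hi j hj e
      exact pow_injOn_Iio_orderOf (by simpa [ho4] using hi) (by simpa [ho4] using hj) e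
    have hT : T.card = 8 := by
      rw [Finset.card_union_of_disjoint, Finset.card_image_of_injOn hinj, Finset.card_image_of_injOn
        (fun i hi j hj e => hinj hi hj (mul_right_cancel e)), Finset.card_range]
      rw [Finset.disjoint_left]
      intro g hg hg'
      obtain ⟨i, -, rfl⟩ := Finset.mem_image.1 hg
      obtain ⟨j, -, e⟩ := Finset.mem_image.1 hg'
      refine hax ?_
      have : S.a = (x ^ j)⁻¹ * x ^ i := by rw [← e, inv_mul_cancel_left]
      rw [this]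
      exact mul_mem (inv_mem (pow_mem (mem_zpowers x) j)) (pow_mem (mem_zpowers x) i)
    have hsub : (T : Set G) ⊆ ((P : Subgroup G) : Set G) := by
      intro g hg
      simp only [T, Finset.coe_union, Finset.coe_image, Set.mem_union, Set.mem_image] at hg
      rcases hg with ⟨i, -, rfl⟩ | ⟨i, -, rfl⟩
      exacts [pow_mem hx i, mul_mem (pow_mem hx i) (S.a_mem_P P hP)]
    have hTP : (T : Set G) = ((P : Subgroup G) : Set G) := by
      refine Set.eq_of_subset_of_ncard_le hsub ?_ (Set.toFinite _)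
      rw [Set.ncard_coe_finset, hT, ← Nat.card_coe_set_eq]
      exact (S.card_P P).le
    intro y hy
    have : y ∈ (T : Set G) := hTP ▸ hy
    simp only [T, Finset.coe_union, Finset.coe_image, Set.mem_union, Set.mem_image] at this
    rcases this with ⟨i, -, rfl⟩ | ⟨i, -, rfl⟩
    exacts [⟨i, Or.inl rfl⟩, ⟨i, Or.inr rfl⟩]
  have hca : ∀ i : ℕ, Commute (x ^ i) S.a := fun i => (S.mem_Ca.1 (hP hx)).pow_left i
  have hcomm : ∀ u ∈ (P : Subgroup G), ∀ v ∈ (P : Subgroup G), u * v = v * u := by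
    intro u hu v hv
    obtain ⟨i, rfl | rfl⟩ := hgen u hu <;> obtain ⟨j, rfl | rfl⟩ := hgen v hv
    · exact ((Commute.refl x).pow_pow i j).eq
    · exact (((Commute.refl x).pow_pow i j).mul_right (hca i)).eq
    · exact (((Commute.refl x).pow_pow i j).mul_left (hca j).symm).eq
    · exact ((((Commute.refl x).pow_pow i j).mul_right (hca i)).mul_left
        ((hca j).symm.mul_right (Commute.refl _))).eq
  have hsq : ∀ y ∈ (P : Subgroup G), y * y = 1 ∨ y * y = z := by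
    intro y hy
    have hpow : ∀ i : ℕ, x ^ i * x ^ i = 1 ∨ x ^ i * x ^ i = z := by
      intro i
      rw [← pow_add, ← pow_mod_orderOf, ho4]
      obtain h | h : (i + i) % 4 = 0 ∨ (i + i) % 4 = 2 := by omega
      · exact Or.inl (by rw [h, pow_zero])
      · exact Or.inr (by rw [h, pow_two, hz])
    obtain ⟨i, rfl | rfl⟩ := hgen y hy
    · exact hpow i
    · rw [mul_assoc, ← mul_assoc S.a, (hca i).symm.eq, mul_assoc (x ^ i) S.a, S.a_sq, mul_one]
      exact hpow i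
  refine hx2 (S.eq_one_of_fixed P hP hcomm (mul_mem hx hx) fun g hg => ?_)
  have hgx : g * x * g⁻¹ ∈ (P : Subgroup G) := (Subgroup.mem_normalizer_iff.1 hg x).1 hx
  have e : g * x * g⁻¹ * (g * x * g⁻¹) = g * z * g⁻¹ := by rw [hz]; group
  rcases hsq _ hgx with h | h
  · rw [e] at h
    exact absurd (conj_eq_one_iff.1 h) hx2
  · rw [e] at h
    exact mul_inv_eq_iff_eq_mul.1 h

theorem P_comm {x y : G} (hx : x ∈ (P : Subgroup G)) (hy : y ∈ (P : Subgroup G)) : x * y = y * x := by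
  calc x * y = (x * y)⁻¹ := (inv_eq_of_mul_eq_one_right (S.P_sq P hP (mul_mem hx hy))).symm
    _ = y * x := by rw [mul_inv_rev, inv_eq_of_mul_eq_one_right (S.P_sq P hP hx),
      inv_eq_of_mul_eq_one_right (S.P_sq P hP hy)]

/-- The normaliser is transitive on the involutions of the Sylow subgroup. -/
theorem exists_normalizer_conj {y : G} (hy : y ∈ (P : Subgroup G)) (hy1 : y ≠ 1) :
    ∃ g ∈ normalizer ((P : Subgroup G) : Set G), g * S.a * g⁻¹ = y := by
  classical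
  set N := normalizer ((P : Subgroup G) : Set G) with hN
  let O : G → Set G := fun y => {z | ∃ g ∈ N, g * y * g⁻¹ = z}
  have self_mem : ∀ y, y ∈ O y := fun y => ⟨1, one_mem _, by group⟩
  have symm_mem : ∀ {u v w}, v ∈ O u → w ∈ O u → w ∈ O v := by
    rintro u v w ⟨g, hg, rfl⟩ ⟨h, hh, rfl⟩
    exact ⟨h * g⁻¹, mul_mem hh (inv_mem hg), by group⟩
  have hsub : ∀ u ∈ (P : Subgroup G), u ≠ 1 → O u ⊆ ((P : Subgroup G) : Set G) \ {1} := by
    rintro u hu hu1 _ ⟨g, hg, rfl⟩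
    exact ⟨(Subgroup.mem_normalizer_iff.1 hg u).1 hu, fun h => hu1 (conj_eq_one_iff.1 h)⟩
  have hodd : ∀ u ∈ (P : Subgroup G), Odd (O u).ncard := by
    intro u hu
    have h := card_conjSet N u
    have hle : (P : Subgroup G) ≤ N ⊓ centralizer ({u} : Set G) :=
      le_inf Subgroup.le_normalizer fun p hp => mem_centralizer_singleton_iff.2 (S.P_comm P hP hp hu)
    obtain ⟨c, hc⟩ := Subgroup.card_dvd_of_le hle
    rw [hc, show Nat.card {z // ∃ g ∈ N, g * u * g⁻¹ = z} = (O u).ncard from Nat.card_coe_set_eq _] at h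
    obtain ⟨d, hd⟩ := Subgroup.card_subgroup_dvd_card N
    have hG := S.fac_two.1
    by_contra he
    obtain ⟨r, hr⟩ := even_iff_two_dvd.1 (Nat.not_odd_iff_even.1 he)
    have h16 : 2 ^ 4 ∣ Nat.card G := ⟨r * c * d, by
      rw [hd, ← h, S.card_P P, hr]; ring⟩
    have := (Nat.prime_two.pow_dvd_iff_le_factorization Nat.card_pos.ne').1 h16
    omega
  have hne1 : ∀ u ∈ (P : Subgroup G), u ≠ 1 → (O u).ncard ≠ 1 := by
    intro u hu hu1 h1
    obtain ⟨w, hw⟩ := Set.ncard_eq_one.1 h1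
    refine hu1 (S.eq_one_of_fixed P hP (fun x hx y hy => S.P_comm P hP hx hy) hu fun g hg => ?_)
    have e1 : u = w := by simpa [hw] using self_mem u
    have e2 : g * u * g⁻¹ = w := by
      have : g * u * g⁻¹ ∈ O u := ⟨g, hg, rfl⟩
      simpa [hw] using this
    exact mul_inv_eq_iff_eq_mul.1 (e2.trans e1.symm)
  have haP := S.a_mem_P P hP
  set R := ((P : Subgroup G) : Set G) \ {1} with hR
  have hR7 : R.ncard = 7 := by
    rw [hR, Set.ncard_diff_singleton_of_mem (one_mem _), ← Nat.card_coe_set_eq]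
    rw [show Nat.card ↥((P : Subgroup G) : Set G) = 8 from S.card_P P]
  by_contra hno
  have hya : y ∉ O S.a := fun ⟨g, hg, e⟩ => hno ⟨g, hg, e⟩
  have hd : Disjoint (O S.a) (O y) := Set.disjoint_left.2 fun z hza hzy => hya (by
    have h1 : y ∈ O z := symm_mem hzy (self_mem y)
    obtain ⟨g, hg, rfl⟩ := hza
    obtain ⟨h, hh, rfl⟩ := h1
    exact ⟨h * g, mul_mem hh hg, by group⟩)
  have hsum : (O S.a ∪ O y).ncard = (O S.a).ncard + (O y).ncard := Set.ncard_union_eq hd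
  have hRsub : O S.a ∪ O y ⊆ R := Set.union_subset (hsub _ haP S.a_ne) (hsub _ hy hy1)
  have hle := Set.ncard_le_ncard hRsub (Set.toFinite _)
  obtain ⟨i, hi⟩ := hodd _ haP
  obtain ⟨j, hj⟩ := hodd _ hy
  have := hne1 _ haP S.a_ne
  have := hne1 _ hy hy1
  have hrest : (R \ (O S.a ∪ O y)).ncard = 1 := by
    rw [Set.ncard_diff hRsub]; omega
  obtain ⟨w, hw⟩ := Set.ncard_eq_one.1 hrest
  have hwR : w ∈ R \ (O S.a ∪ O y) := hw ▸ rfl
  refine hne1 w hwR.1.1 hwR.1.2 (Set.ncard_eq_one.2 ⟨w, Set.eq_singleton_iff_unique_mem.2 ⟨self_mem w, fun z hz => ?_⟩⟩)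
  have : z ∈ R \ (O S.a ∪ O y) := ⟨hsub w hwR.1.1 hwR.1.2 hz, fun hu => hwR.2 ?_⟩
  · simpa [hw] using this
  · obtain ⟨g, hg, rfl⟩ := hz
    rcases hu with ⟨h, hh, e⟩ | ⟨h, hh, e⟩
    · exact Or.inl ⟨g⁻¹ * h, mul_mem (inv_mem hg) hh, by
        rw [show g⁻¹ * h * S.a * (g⁻¹ * h)⁻¹ = g⁻¹ * (h * S.a * h⁻¹) * g by group, e]; group⟩
    · exact Or.inr ⟨g⁻¹ * h, mul_mem (inv_mem hg) hh, by
        rw [show g⁻¹ * h * y * (g⁻¹ * h)⁻¹ = g⁻¹ * (h * y * h⁻¹) * g by group, e]; group⟩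

end Sylow

/-- All involutions are conjugate. -/
theorem exists_conj_a {y : G} (hy : y ≠ 1) (hy2 : y * y = 1) : ∃ g : G, g * S.a * g⁻¹ = y := by
  obtain ⟨P, hP, -, -⟩ := S.exists_sylow
  have hpg : IsPGroup 2 ↥(zpowers y) :=
    IsPGroup.of_card (n := 1) (by rw [Nat.card_zpowers, orderOf_eq_prime (by rw [pow_two, hy2]) hy, pow_one])
  obtain ⟨Q, hQ⟩ := hpg.exists_le_sylow
  obtain ⟨g, rfl⟩ := MulAction.exists_smul_eq G P Q
  have hm := hQ (mem_zpowers y)
  rw [Sylow.coe_subgroup_smul, Subgroup.mem_pointwise_smul_iff_inv_smul_mem, ← map_inv, MulAut.smul_def,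
    MulAut.conj_apply, inv_inv] at hm
  obtain ⟨k, -, hk⟩ := S.exists_normalizer_conj P hP hm fun h => hy (by
    have : y = g * (g⁻¹ * y * g) * g⁻¹ := by group
    rw [this, h]; group)
  refine ⟨g * k, ?_⟩
  rw [show g * k * S.a * (g * k)⁻¹ = g * (k * S.a * k⁻¹) * g⁻¹ by group, hk]
  group

theorem card_centralizer_invol {y : G} (hy : y ≠ 1) (hy2 : y * y = 1) :
    Nat.card ↥(centralizer ({y} : Set G)) = q * (q - 1) * (q + 1) := by
  obtain ⟨g, rfl⟩ := S.exists_conj_a hy hy2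
  rw [card_centralizer_conj, ← S.card_Ca]

/-- The involutions other than `a` in the centraliser of `a`. -/
theorem card_Ca_invol : Nat.card {g // g ∈ S.Ca ∧ g * g = 1 ∧ g ≠ 1 ∧ g ≠ S.a} = q * (q - 1) := by
  rw [← S.card_H, ← S.card_CU, ← Nat.card_prod]
  have hmem : ∀ p : ↥S.CU × ↥S.H, (p.1 : G) * S.n * (p.2 * (p.1 : G)⁻¹) ∈ S.Ca ∧
      (p.1 : G) * S.n * (p.2 * (p.1 : G)⁻¹) * ((p.1 : G) * S.n * (p.2 * (p.1 : G)⁻¹)) = 1 ∧
      (p.1 : G) * S.n * (p.2 * (p.1 : G)⁻¹) ∉ S.B := by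
    intro p
    have hu := S.CU_Ca p.1.2
    have hB := mul_mem (S.H_le p.2.2) (inv_mem (S.U_le (S.CU_U p.1.2)))
    refine ⟨S.Ca.mul_mem (S.Ca.mul_mem hu S.n_mem_Ca) (S.Ca.mul_mem (S.H_le_Ca p.2.2) (S.Ca.inv_mem hu)), ?_,
      S.nub_notMem (S.CU_U p.1.2) hB⟩
    rw [show (p.1 : G) * S.n * (p.2 * (p.1 : G)⁻¹) * ((p.1 : G) * S.n * (p.2 * (p.1 : G)⁻¹)) =
        (p.1 : G) * (S.n * p.2 * S.n * p.2) * (p.1 : G)⁻¹ by group]
    have hi := S.n_inv _ p.2.2
    rw [S.n_inv_self] at hi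
    rw [hi, inv_mul_cancel]
    group
  refine (Nat.card_congr (Equiv.ofBijective (fun p : ↥S.CU × ↥S.H =>
    (⟨(p.1 : G) * S.n * (p.2 * (p.1 : G)⁻¹), (hmem p).1, (hmem p).2.1,
      fun h => (hmem p).2.2 (h ▸ one_mem _), fun h => (hmem p).2.2 (h ▸ S.H_le S.a_mem)⟩ :
      {g // g ∈ S.Ca ∧ g * g = 1 ∧ g ≠ 1 ∧ g ≠ S.a})) ⟨?_, ?_⟩)).symm
  · intro p p' e
    obtain ⟨e1, e2⟩ := S.nub_unique (S.CU_U p.1.2) (S.CU_U p'.1.2)
      (mul_mem (S.H_le p.2.2) (inv_mem (S.U_le (S.CU_U p.1.2))))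
      (mul_mem (S.H_le p'.2.2) (inv_mem (S.U_le (S.CU_U p'.1.2)))) (Subtype.mk.inj e)
    rw [e1] at e2
    exact Prod.ext (Subtype.ext e1) (Subtype.ext (mul_right_cancel e2))
  · rintro ⟨g, hg, h2, h1, ha⟩
    have hgB : g ∉ S.B := fun hb => by
      rcases S.CB_sq ⟨hb, hg⟩ h2 with e | e
      exacts [h1 e, ha e]
    obtain ⟨u, hu, b, hb, rfl⟩ := S.Ca_cases hg hgB
    have hbu : b * u ∈ S.B := mul_mem (S.CB_B hb) (S.U_le (S.CU_U hu))
    have e : S.n * (b * u) * (S.n * (b * u)) = 1 := by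
      rw [show S.n * (b * u) * (S.n * (b * u)) = u⁻¹ * ((u * S.n * b) * (u * S.n * b)) * u by group, h2]
      group
    have hH : b * u ∈ S.H := S.inter _ hbu (by
      rw [S.n_inv_self, show S.n * (b * u) * S.n = (b * u)⁻¹ from by rw [eq_inv_iff_mul_eq_one, mul_assoc]; exact e]
      exact inv_mem hbu)
    exact ⟨(⟨u, hu⟩, ⟨b * u, hH⟩), Subtype.ext (show u * S.n * (b * u * u⁻¹) = u * S.n * b by group)⟩

/-- The centraliser of the four-group `⟨a, n⟩`. -/
theorem card_centralizer_four : Nat.card ↥(S.Ca ⊓ centralizer ({S.n} : Set G)) = 2 * (q + 1) := by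
  classical
  obtain ⟨P, hP, -, hn⟩ := S.exists_sylow
  set T := {g // g ∈ S.Ca ∧ g * g = 1 ∧ g ≠ 1 ∧ g ≠ S.a}
  let C : G → Set G := fun x => {y | ∃ g ∈ S.Ca, g * x * g⁻¹ = y}
  have hmem : ∀ x, (x = S.n ∨ x = S.n * S.a) → C x ⊆ {g | g ∈ S.Ca ∧ g * g = 1 ∧ g ≠ 1 ∧ g ≠ S.a} := by
    rintro x hx _ ⟨g, hg, rfl⟩
    have hxC : x ∈ S.Ca := by
      rcases hx with rfl | rfl
      exacts [S.n_mem_Ca, mul_mem S.n_mem_Ca (S.H_le_Ca S.a_mem)]
    have hx2 : x * x = 1 := by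
      rcases hx with rfl | rfl
      exacts [S.n_sq, S.na_sq]
    have hxB : x ∉ S.B := by
      rcases hx with rfl | rfl
      · exact S.n_notMem
      · exact fun h => S.n_notMem (by simpa [mul_assoc] using mul_mem h (inv_mem (S.H_le S.a_mem)))
    refine ⟨mul_mem (mul_mem hg hxC) (inv_mem hg), ?_, fun h => hxB ?_, fun h => hxB ?_⟩
    · rw [show g * x * g⁻¹ * (g * x * g⁻¹) = g * (x * x) * g⁻¹ by group, hx2]; group
    · rw [conj_eq_one_iff.1 h]; exact one_mem _
    · have : x = S.a := by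
        rw [show x = g⁻¹ * (g * x * g⁻¹) * g by group, h, mul_assoc, ← (S.mem_Ca.1 hg).eq, inv_mul_cancel_left]
      rw [this]; exact S.H_le S.a_mem
  have hca : ∀ {g : G}, g ∈ S.Ca → ∀ x, g * (x * S.a) * g⁻¹ = g * x * g⁻¹ * S.a := by
    intro g hg x
    have := (S.mem_Ca.1 (inv_mem hg)).eq
    rw [mul_assoc, mul_assoc x, ← this]; group
  have hbij : (C (S.n * S.a)).ncard = (C S.n).ncard := by
    have e : C (S.n * S.a) = (fun z => z * S.a) '' C S.n := by
      ext y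
      constructor
      · rintro ⟨g, hg, rfl⟩
        exact ⟨_, ⟨g, hg, rfl⟩, (hca hg S.n).symm⟩
      · rintro ⟨_, ⟨g, hg, rfl⟩, rfl⟩
        exact ⟨g, hg, hca hg S.n⟩
    rw [e, Set.ncard_image_of_injective _ (mul_left_injective S.a)]
  have hcover : {g | g ∈ S.Ca ∧ g * g = 1 ∧ g ≠ 1 ∧ g ≠ S.a} ⊆ C S.n ∪ C (S.n * S.a) := by
    rintro g ⟨hg, h2, h1, ha⟩
    obtain ⟨c, hc, h | h⟩ := S.Ca_involution hg h1 ha h2
    · exact Or.inl ⟨c⁻¹, inv_mem hc, by rw [← h]; group⟩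
    · exact Or.inr ⟨c⁻¹, inv_mem hc, by rw [← h]; group⟩
  have hT : ({g | g ∈ S.Ca ∧ g * g = 1 ∧ g ≠ 1 ∧ g ≠ S.a} : Set G).ncard = q * (q - 1) := by
    rw [← Nat.card_coe_set_eq]; exact S.card_Ca_invol
  have hstab := card_conjSet S.Ca S.n
  rw [show Nat.card {y // ∃ g ∈ S.Ca, g * S.n * g⁻¹ = y} = (C S.n).ncard from Nat.card_coe_set_eq _,
    S.card_Ca] at hstab
  obtain ⟨c, hc⟩ : 8 ∣ Nat.card ↥(S.Ca ⊓ centralizer ({S.n} : Set G)) := by
    rw [← S.card_P P]
    exact Subgroup.card_dvd_of_le (le_inf hP fun p hp => mem_centralizer_singleton_iff.2 (S.P_comm P hP hp hn))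
  by_cases hdisj : Disjoint (C S.n) (C (S.n * S.a))
  · have heq : C S.n ∪ C (S.n * S.a) = {g | g ∈ S.Ca ∧ g * g = 1 ∧ g ≠ 1 ∧ g ≠ S.a} :=
      le_antisymm (Set.union_subset (hmem _ (Or.inl rfl)) (hmem _ (Or.inr rfl))) hcover
    have h2 := Set.ncard_union_eq hdisj
    rw [heq, hT, hbij] at h2
    set k := Nat.card ↥(S.Ca ⊓ centralizer ({S.n} : Set G))
    rw [h2] at hstab
    have hpos : 0 < (C S.n).ncard := by
      rw [Set.ncard_pos]; exact ⟨S.n, 1, one_mem _, by group⟩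
    exact Nat.eq_of_mul_eq_mul_left hpos (by linarith)
  · obtain ⟨w, ⟨g, hg, e1⟩, ⟨h, hh, e2⟩⟩ := Set.not_disjoint_iff.1 hdisj
    have hsame : C (S.n * S.a) ⊆ C S.n := by
      rintro _ ⟨k, hk, rfl⟩
      refine ⟨k * (h⁻¹ * g), mul_mem hk (mul_mem (inv_mem hh) hg), ?_⟩
      rw [show k * (h⁻¹ * g) * S.n * (k * (h⁻¹ * g))⁻¹ = k * (h⁻¹ * (g * S.n * g⁻¹) * h) * k⁻¹ by group, e1, ← e2]
      group
    have heq : C S.n = {g | g ∈ S.Ca ∧ g * g = 1 ∧ g ≠ 1 ∧ g ≠ S.a} :=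
      le_antisymm (hmem _ (Or.inl rfl)) (hcover.trans (Set.union_subset le_rfl hsame))
    rw [heq, hT, hc] at hstab
    exfalso
    have hpos : 0 < q * (q - 1) := by have := S.q_ge; exact Nat.mul_pos (by omega) (by omega)
    have := Nat.eq_of_mul_eq_mul_left hpos hstab
    have := S.q_mod_eight
    omega

/-- Elements of order a power of 3 are conjugate into `U`. -/
theorem exists_conj_U {x : G} {j : ℕ} (hx : orderOf x ∣ 3 ^ j) : ∃ g : G, g * x * g⁻¹ ∈ S.U := by
  have : Fact (Nat.Prime 3) := ⟨Nat.prime_three⟩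
  have hfac : (Nat.card G).factorization 3 = 3 * (2 * S.m + 1) := by
    have hq := S.three_dvd
    have h1 : ¬ 3 ∣ q - 1 := by have := S.q_ge; omega
    have h3 : ¬ 3 ∣ q ^ 3 + 1 := by
      have : 3 ∣ q ^ 3 := dvd_pow hq (by norm_num)
      omega
    have hq0 : q ^ 3 ≠ 0 := pow_ne_zero 3 Fintype.card_pos.ne'
    rw [S.card_G, Nat.factorization_mul (mul_ne_zero hq0 (by have := S.q_ge; omega)) (by omega),
      Nat.factorization_mul hq0 (by have := S.q_ge; omega), Finsupp.add_apply, Finsupp.add_apply,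
      Nat.factorization_eq_zero_of_not_dvd h1, Nat.factorization_eq_zero_of_not_dvd h3, add_zero, add_zero,
      S.card_K, ← pow_mul, Nat.prime_three.factorization_pow, Finsupp.single_eq_same, mul_comm]
  let Q : Sylow 3 G := Sylow.ofCard S.U (by rw [S.card_U, hfac, S.card_K, ← pow_mul, mul_comm])
  obtain ⟨i, -, hi⟩ := (Nat.dvd_prime_pow Nat.prime_three).1 hx
  have hp : IsPGroup 3 ↥(zpowers x) := IsPGroup.of_card (n := i) (by rw [Nat.card_zpowers, hi])
  obtain ⟨R, hR⟩ := hp.exists_le_sylow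
  obtain ⟨g, rfl⟩ := MulAction.exists_smul_eq G Q R
  have hm := hR (mem_zpowers x)
  rw [Sylow.coe_subgroup_smul, Subgroup.mem_pointwise_smul_iff_inv_smul_mem, ← map_inv, MulAut.smul_def,
    MulAut.conj_apply] at hm
  exact ⟨g⁻¹, hm⟩

/-- Elements of odd order dividing a power of a prime divisor of `q - 1` are conjugate into `H`. -/
theorem exists_conj_H_prime {x : G} {r j : ℕ} (hr : r.Prime) (hr2 : r ≠ 2) (hdvd : r ∣ q - 1)
    (hx : orderOf x ∣ r ^ j) : ∃ g : G, g * x * g⁻¹ ∈ S.H := by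
  have := Fact.mk hr
  have hrq : ¬ r ∣ q := fun h => hr.one_lt.ne' (Nat.dvd_one.1 (Nat.eq_one_of_dvd_coprimes
    (coprime_self_pred (by have := S.q_ge; omega)) h hdvd ▸ dvd_rfl))
  have h2 : ¬ r ∣ q ^ 3 + 1 := by
    intro h
    have h1 : (1 : ℕ) ≤ q := Fintype.card_pos
    have hm : q ≡ 1 [MOD r] := ((Nat.modEq_iff_dvd' h1).2 hdvd).symm
    have h0 : 2 ≡ 0 [MOD r] := by
      have := ((hm.pow 3).add_right 1).symm.trans (Nat.modEq_zero_iff_dvd.2 h)
      simpa using this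
    exact hr2 ((Nat.prime_dvd_prime_iff_eq hr Nat.prime_two).1 (Nat.modEq_zero_iff_dvd.1 h0))
  have hq0 : q ^ 3 ≠ 0 := pow_ne_zero 3 Fintype.card_pos.ne'
  have hfac : (Nat.card G).factorization r = (q - 1).factorization r := by
    rw [S.card_G, Nat.factorization_mul (mul_ne_zero hq0 (by have := S.q_ge; omega)) (by omega),
      Nat.factorization_mul hq0 (by have := S.q_ge; omega), Finsupp.add_apply, Finsupp.add_apply,
      Nat.factorization_eq_zero_of_not_dvd h2,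
      Nat.factorization_eq_zero_of_not_dvd fun h => hrq (hr.dvd_of_dvd_pow h), zero_add, add_zero]
  obtain ⟨R₀⟩ : Nonempty (Sylow r ↥S.H) := inferInstance
  have hc : Nat.card ↥((R₀ : Subgroup ↥S.H).map S.H.subtype) = r ^ (Nat.card G).factorization r := by
    rw [Subgroup.card_map_of_injective S.H.subtype_injective]
    exact R₀.card_eq_multiplicity.trans (by rw [S.card_H, hfac])
  let Q : Sylow r G := Sylow.ofCard _ hc
  obtain ⟨i, -, hi⟩ := (Nat.dvd_prime_pow hr).1 hx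
  have hp : IsPGroup r ↥(zpowers x) := IsPGroup.of_card (n := i) (by rw [Nat.card_zpowers, hi])
  obtain ⟨R, hR⟩ := hp.exists_le_sylow
  obtain ⟨g, rfl⟩ := MulAction.exists_smul_eq G Q R
  have hm := hR (mem_zpowers x)
  rw [Sylow.coe_subgroup_smul, Subgroup.mem_pointwise_smul_iff_inv_smul_mem, ← map_inv, MulAut.smul_def,
    MulAut.conj_apply] at hm
  exact ⟨g⁻¹, map_subtype_le (R₀ : Subgroup ↥S.H) hm⟩

end Sys

end Cfsg.Agent.Lib.Ree.Tori
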